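import Cfsg.Agent.Lib.Recog.ThreeLocalSpSix.Model3

/-!
Owner: helper3. Finite checks for the action of the normalizer on the abelian subgroup of order 27: the six
permutations of the coordinates, linear maps from the images of the frame, twists of the model.
-/

set_option autoImplicit false
set_option linter.all false
set_option maxRecDepth 100000

namespace CfsgLib.Recog.ThreeLocalSpSix

open CfsgLib.Recog.HeisSL

/-- The six permutations of the coordinates. -/
def perms : List (Vec → Vec) :=
  [fun x => x, fun x => (x.2.2, x.1, x.2.1), fun x => (x.2.1, x.2.2, x.1), fun x => (x.2.1, x.1, x.2.2),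
    fun x => (x.1, x.2.2, x.2.1), fun x => (x.2.2, x.2.1, x.1)]

/-- The exchange of the first two coordinates. -/
def pF (x : Vec) : Vec := (x.2.1, x.1, x.2.2)

/-- The exchange of the last two coordinates. -/
def tF (x : Vec) : Vec := (x.1, x.2.2, x.2.1)

/-- The cyclic permutation. -/
def sF (x : Vec) : Vec := pF (tF x)

theorem sF_fixed : ∀ x : Vec, sF x = x → x = 0 ∨ x = (1, 1, 1) ∨ x = (2, 2, 2) := by decide +kernel

/-- Membership of a map among the six permutations, tested on the frame. -/
def isPerm (f : Vec → Vec) : Bool :=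
  perms.any fun π => f (1, 0, 0) == π (1, 0, 0) && f (0, 1, 0) == π (0, 1, 0) && f (0, 0, 1) == π (0, 0, 1)

theorem isPerm_perms : ∀ i : Fin 6, isPerm (perms.get (i.cast (by rfl))) = true := by decide +kernel

/-- The linear map with the given images of the frame. -/
def lin (b1 b2 b3 : Vec) (x : Vec) : Vec :=
  (x.1 * b1.1 + x.2.1 * b2.1 + x.2.2 * b3.1, x.1 * b1.2.1 + x.2.1 * b2.2.1 + x.2.2 * b3.2.1,
    x.1 * b1.2.2 + x.2.1 * b2.2.2 + x.2.2 * b3.2.2)

/-- Words in the cyclic permutation, an exchange and a further map. -/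
def evalWord (g : Vec → Vec) : List (Fin 3) → Vec → Vec
  | [], x => x
  | i :: w, x => (match i with
      | 0 => sF
      | 1 => tF
      | 2 => g) (evalWord g w x)

/-- The five words used in the plane. -/
def planeWords : List (List (Fin 3)) :=
  [[2, 1, 2], [2, 1, 2, 2], [2, 2, 1, 2], [2, 2, 0, 1, 2], [2, 2, 1, 0, 2]]

/-- A map of order three fixing exactly the line of `(0,1,2)` gives, with the permutations, a map fixing
`(1,1,1)` which is no permutation. -/
theorem plane_words : ∀ b1 b2 : Vec,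
    ((∀ i : Fin 3, let e : Vec := if i = 0 then (1, 0, 0) else if i = 1 then (0, 1, 0) else (0, 0, 1)
      lin b1 b2 (b2 - (0, 1, 2)) (lin b1 b2 (b2 - (0, 1, 2)) (lin b1 b2 (b2 - (0, 1, 2)) e)) = e) ∧
    (∀ x : Vec, lin b1 b2 (b2 - (0, 1, 2)) x = x → x = 0 ∨ x = (0, 1, 2) ∨ x = (0, 2, 1))) →
    ∃ w ∈ planeWords, evalWord (lin b1 b2 (b2 - (0, 1, 2))) w (1, 1, 1) = (1, 1, 1) ∧
      isPerm (evalWord (lin b1 b2 (b2 - (0, 1, 2))) w) = false := by decide +kernel

theorem plane_orbit : ∀ x : Vec, x.1 + x.2.1 + x.2.2 = 0 → x ≠ (1, 1, 1) → x ≠ (2, 2, 2) → x ≠ 0 →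
    ∃ π ∈ perms, π x = (0, 1, 2) := by decide +kernel

/-- The eight vertices. -/
def eight : List Vec :=
  [(1, 1, 1), (2, 1, 1), (1, 2, 1), (1, 1, 2), (1, 2, 2), (2, 1, 2), (2, 2, 1), (2, 2, 2)]

set_option synthInstance.maxSize 100000 in
set_option synthInstance.maxHeartbeats 200000 in
/-- A linear map carrying the eight vertices into themselves is monomial. -/
theorem eight_monomial : ∀ u ∈ eight, ∀ v ∈ eight, ∀ w ∈ eight,
    (∀ x ∈ eight, lin (v - u) (w - u) (u - (v - u) - (w - u)) x ∈ eight) →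
    (∀ x : Vec, lin (v - u) (w - u) (u - (v - u) - (w - u)) x = 0 → x = 0) →
      ∃ e ∈ eight, ∃ π ∈ perms, ∀ x : Vec, lin (v - u) (w - u) (u - (v - u) - (w - u)) x = e * π x := by
  decide +kernel

/-- The twist of coordinates. -/
def tw (c : K) (x : Vec) : Vec :=
  (x.1 - c * (x.1 + x.2.1 + x.2.2), x.2.1 - c * (x.1 + x.2.1 + x.2.2), x.2.2 - c * (x.1 + x.2.1 + x.2.2))

/-- A vector off the plane is, up to sign, twist and permutation, the vertex `(-1,1,1)`. -/
theorem outside_orbit : ∀ x : Vec, x.1 + x.2.1 + x.2.2 ≠ 0 →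
    ∃ c : K, ∃ π ∈ perms, π (tw c x) = (2, 1, 1) ∨ π (tw c x) = (1, 2, 2) := by decide +kernel

/-- The homomorphism of SL(2,3) onto the group of order three. -/
def chi (g : S2) : K :=
  if g * g * (g * g) = 1 then 0 else if (g * uu 2) * (g * uu 2) * ((g * uu 2) * (g * uu 2)) = 1 then 1 else 2

theorem chi_mul : ∀ g h : S2, chi (g * h) = chi g + chi h := by decide +kernel

theorem tW_chi : chi tW.g = 0 := by decide +kernel

/-- The twist of the model. -/
def twist (c : K) : W →* W where
  toFun w := ⟨w.v, w.s + c * chi w.g, w.g⟩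
  map_one' := by rw [one_def]; refine W.ext rfl ?_ rfl; simp only; revert c; decide +kernel
  map_mul' a b := by
    simp only [mul_def, chi_mul]
    refine W.ext rfl ?_ rfl
    simp only
    ring

theorem twist_inj (c : K) : Function.Injective (twist c) := fun a b h => by
  replace h : (⟨a.v, a.s + c * chi a.g, a.g⟩ : W) = ⟨b.v, b.s + c * chi b.g, b.g⟩ := h
  have h1 : a.v = b.v := (congrArg (fun z : W => z.v) h : _)
  have h3 : a.g = b.g := (congrArg (fun z : W => z.g) h : _)
  have h2 : a.s + c * chi a.g = b.s + c * chi b.g := (congrArg (fun z : W => z.s) h : _)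
  rw [h3] at h2
  exact W.ext h1 (add_right_cancel h2) h3

theorem twist_jW : ∀ (c : K) (x : Vec), twist c (jW x) = jW (tw c x) ∧ twist c z0 = z0 := by decide +kernel

theorem tw_tw : ∀ (c : K) (x : Vec), tw (-c) (tw c x) = x := by decide +kernel

end CfsgLib.Recog.ThreeLocalSpSix
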