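import Cfsg.Agent.Lib.Recog.ThreeLocalSpSix.Core
import Cfsg.Agent.Lib.Recog.ThreeLocalSpSix.ActTables

/-!
Owner: helper3. The action of the normalizer of the abelian subgroup of order 27 on it: the conjugates of `a`
in it form one, two, four or eight vertices of a cube, and in the last two cases the action is monomial.
-/

set_option autoImplicit false
set_option linter.all false
set_option maxRecDepth 100000

namespace CfsgLib.Recog.ThreeLocalSpSix

open Subgroup CfsgLib.Recog.HeisSL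

universe u

theorem vec_eq_lin (x : Vec) : x = x.1.val • (1, 0, 0) + x.2.1.val • (0, 1, 0) + x.2.2.val • (0, 0, 1) := by
  revert x; decide +kernel

theorem add_map_lin {f : Vec → Vec} (hf : ∀ x y, f (x + y) = f x + f y) (x : Vec) :
    f x = lin (f (1, 0, 0)) (f (0, 1, 0)) (f (0, 0, 1)) x := by
  have h0 : f 0 = 0 := by
    have := hf 0 0
    rw [add_zero] at this
    exact (left_eq_add.1 this)
  have hn : ∀ (n : ℕ) (y : Vec), f (n • y) = n • f y := fun n y => by
    induction n with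
    | zero => rw [zero_smul, zero_smul, h0]
    | succ n ih => rw [succ_nsmul, succ_nsmul, hf, ih]
  conv_lhs => rw [vec_eq_lin x]
  rw [hf, hf, hn, hn, hn]
  refine Prod.ext ?_ (Prod.ext ?_ ?_) <;>
    simp [lin, Prod.smul_fst, Prod.smul_snd, nsmul_eq_mul, ZMod.natCast_zmod_val]

theorem lin_frame (b1 b2 b3 : Vec) :
    lin b1 b2 b3 (1, 0, 0) = b1 ∧ lin b1 b2 b3 (0, 1, 0) = b2 ∧ lin b1 b2 b3 (0, 0, 1) = b3 := by
  simp [lin]

namespace Core

variable {G : Type u} [Group G] (B : Core G)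

/-- The element `n` acts on the coordinates as `f`. -/
def Acts (n : G) (f : Vec → Vec) : Prop := ∀ x, n * B.j x * n⁻¹ = B.j (f x)

theorem exists_acts {n : G} (hn : n ∈ normalizer (B.J : Set G)) : ∃ f, B.Acts n f := by
  have h : ∀ x, ∃ y, B.j y = n * B.j x * n⁻¹ := fun x =>
    B.mem_J.1 (((mem_normalizer_iff.1 hn) _).1 (B.j_mem x))
  choose f hf using h
  exact ⟨f, fun x => (hf x).symm⟩

variable {B}

theorem Acts.unique {n : G} {f f' : Vec → Vec} (h : B.Acts n f) (h' : B.Acts n f') (x : Vec) : f x = f' x :=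
  B.j_inj ((h x).symm.trans (h' x))

theorem Acts.add {n : G} {f : Vec → Vec} (h : B.Acts n f) (x y : Vec) : f (x + y) = f x + f y := by
  refine B.j_inj ?_
  rw [← h, B.j_add, B.j_add, ← h, ← h]
  group

theorem Acts.inj {n : G} {f : Vec → Vec} (h : B.Acts n f) : Function.Injective f := fun x y e => by
  have e2 := h x
  rw [e, ← h y] at e2
  exact B.j_inj (by simpa using e2)

theorem Acts.surj {n : G} {f : Vec → Vec} (h : B.Acts n f) : Function.Surjective f :=
  (Finite.injective_iff_surjective).1 h.inj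

theorem Acts.eq_lin {n : G} {f : Vec → Vec} (h : B.Acts n f) (x : Vec) :
    f x = lin (f (1, 0, 0)) (f (0, 1, 0)) (f (0, 0, 1)) x := add_map_lin h.add x

theorem Acts.one : B.Acts 1 id := fun x => by simp

theorem Acts.mul {m n : G} {f g : Vec → Vec} (hm : B.Acts m f) (hn : B.Acts n g) :
    B.Acts (m * n) (f ∘ g) := fun x => by
  rw [Function.comp_apply, ← hm, ← hn]
  group

theorem Acts.mem {n : G} [Finite G] {f : Vec → Vec} (h : B.Acts n f) : n ∈ normalizer (B.J : Set G) := by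
  refine mem_normalizer_of_conj fun y hy => ?_
  obtain ⟨x, rfl⟩ := B.mem_J.1 hy
  rw [h]
  exact B.j_mem _

theorem Acts.inv {n : G} {f : Vec → Vec} (h : B.Acts n f) {g : Vec → Vec} (hg : ∀ x, f (g x) = x) :
    B.Acts n⁻¹ g := fun x => by
  have := h (g x)
  rw [hg] at this
  rw [← this]
  group

theorem Acts.mem_J {n : G} {f : Vec → Vec} (h : B.Acts n f) (hf : ∀ x, f x = x) : n ∈ B.J := by
  refine B.cent_J fun y hy => ?_
  obtain ⟨x, rfl⟩ := B.mem_J.1 hy
  exact mul_inv_eq_iff_eq_mul.1 ((h x).trans (by rw [hf]))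

variable (B)

theorem acts_j (v : Vec) : B.Acts (B.j v) id := fun x => by
  rw [id, B.j_comm v x, mul_inv_cancel_right]

theorem pW_inv : pW⁻¹ = pW := inv_eq_of_mul_eq_one_right pW_sq

theorem tW_inv : tW⁻¹ = tW := inv_eq_of_mul_eq_one_right tW_sq

theorem acts_p : B.Acts (B.θ pW) pF := fun x => by
  rw [j, ← map_inv, ← map_mul, ← map_mul, pW_inv, pW_conj]
  rfl

theorem acts_t : B.Acts (B.θ tW) tF := fun x => by
  rw [j, ← map_inv, ← map_mul, ← map_mul, tW_inv, tW_conj]
  rfl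

theorem acts_perms : ∀ π ∈ perms, ∃ n, B.Acts n π := by
  intro π hπ
  have hp := B.acts_p
  have ht := B.acts_t
  simp only [perms, List.mem_cons, List.not_mem_nil, or_false] at hπ
  rcases hπ with rfl | rfl | rfl | rfl | rfl | rfl
  · exact ⟨1, Acts.one⟩
  · exact ⟨_, hp.mul ht⟩
  · exact ⟨_, ht.mul hp⟩
  · exact ⟨_, hp⟩
  · exact ⟨_, ht⟩
  · exact ⟨_, (hp.mul ht).mul hp⟩

/-- An element fixing `a` permutes the coordinates. -/
theorem perm_of_fix {n : G} {f : Vec → Vec} (h : B.Acts n f) (h1 : f (1, 1, 1) = (1, 1, 1)) :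
    ∃ π ∈ perms, ∀ x, f x = π x := by
  obtain ⟨w, rfl⟩ := B.cent n (by
    have e := h (1, 1, 1)
    rw [h1, B.j_center] at e
    exact mul_inv_eq_iff_eq_mul.1 e)
  have e : ∀ x, w * jW x * w⁻¹ = jW (f x) := fun x => B.inj (by rw [map_mul, map_mul, map_inv]; exact h x)
  have key : ∀ π : Vec → Vec, (∀ x, w * jW x * w⁻¹ = jW (π x)) → ∀ x, f x = π x := fun π hπ x =>
    jW_inj _ _ ((e x).symm.trans (hπ x))
  rcases jW_norm w ⟨f (1, 0, 0), e _⟩ with h | h | h | h | h | h
  all_goals refine ⟨_, ?_, key _ h⟩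
  all_goals simp [perms]

theorem isPerm_congr {f g : Vec → Vec} (h : ∀ x, f x = g x) : isPerm f = isPerm g := by
  simp [isPerm, h]

theorem isPerm_of_fix {n : G} {f : Vec → Vec} (h : B.Acts n f) (h1 : f (1, 1, 1) = (1, 1, 1)) :
    isPerm f = true := by
  obtain ⟨π, hπ, e⟩ := B.perm_of_fix h h1
  rw [isPerm_congr e]
  simp only [isPerm, List.any_eq_true]
  exact ⟨π, hπ, by simp⟩

/-- The coordinates of the conjugates of `a`. -/
def O : Set Vec := {x | ∃ g : G, g * B.a * g⁻¹ = B.j x}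

theorem one_mem_O : ((1, 1, 1) : Vec) ∈ B.O := ⟨1, by rw [B.j_center]; simp⟩

variable {B}

theorem Acts.mem_O {n : G} {f : Vec → Vec} (h : B.Acts n f) {x : Vec} (hx : x ∈ B.O) : f x ∈ B.O := by
  obtain ⟨g, hg⟩ := hx
  exact ⟨n * g, by rw [← h, ← hg]; group⟩

variable (B)

theorem exists_acts_to [Finite G] {x : Vec} (hx : x ∈ B.O) : ∃ n f, B.Acts n f ∧ f (1, 1, 1) = x := by
  obtain ⟨g, hg⟩ := hx
  obtain ⟨n, hn, e⟩ := B.fusion (g := g) (y := B.a) (B.j_center ▸ B.j_mem _) (hg ▸ B.j_mem x)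
  obtain ⟨f, hf⟩ := B.exists_acts hn
  refine ⟨n, f, hf, B.j_inj ?_⟩
  rw [← hf, B.j_center, e, hg]

theorem zero_notMem_O : (0 : Vec) ∉ B.O := by
  rintro ⟨g, hg⟩
  rw [B.j_zero, conj_eq_one_iff] at hg
  have := B.orderOf_a
  rw [hg, orderOf_one] at this
  norm_num at this

theorem perm_mem_O {π : Vec → Vec} (hπ : π ∈ perms) {x : Vec} (hx : x ∈ B.O) : π x ∈ B.O :=
  (B.acts_perms π hπ).choose_spec.mem_O hx

/-- No conjugate of `a` lies in the plane of coordinate sum zero outside its own line. -/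
theorem plane_notMem [Finite G] {x : Vec} (hx : x ∈ B.O) (hs : x.1 + x.2.1 + x.2.2 = 0) :
    x = (1, 1, 1) ∨ x = (2, 2, 2) := by
  by_contra hne
  simp only [not_or] at hne
  obtain ⟨π, hπ, e⟩ := plane_orbit x hs hne.1 hne.2 (fun e => B.zero_notMem_O (e ▸ hx))
  obtain ⟨n, f, hf, hf1⟩ := B.exists_acts_to (B.perm_mem_O hπ hx)
  rw [e] at hf1
  choose g hg using hf.surj
  have hσ : B.Acts (B.θ pW * B.θ tW) sF := fun x => (B.acts_p.mul B.acts_t) x
  have hM := (hf.mul hσ).mul (hf.inv hg)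
  set M := (f ∘ sF) ∘ g with hMdef
  have hgf : ∀ y, g (f y) = y := fun y => hf.inj (hg (f y))
  have hM3 : ∀ y, M (M (M y)) = y := fun y => by
    simp only [hMdef, Function.comp_apply, hgf]
    rw [show sF (sF (sF (g y))) = g y by generalize g y = z; revert z; decide +kernel, hg]
  have hMfix : ∀ y, M y = y → y = 0 ∨ y = (0, 1, 2) ∨ y = (0, 2, 1) := fun y hy => by
    have hg' : sF (g y) = g y := hf.inj (by rw [hg]; exact hy)
    have hy' := hg y
    rcases sF_fixed _ hg' with h | h | h <;> rw [h] at hy'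
    · left
      rw [← hy']
      have h00 := hf.add 0 0
      rw [add_zero] at h00
      exact left_eq_add.1 h00
    · exact Or.inr (Or.inl (hy'.symm.trans hf1))
    · refine Or.inr (Or.inr ?_)
      rw [← hy', show ((2, 2, 2) : Vec) = (1, 1, 1) + (1, 1, 1) from rfl, hf.add, hf1]
      rfl
  have hMr : M (0, 1, 2) = (0, 1, 2) := by
    simp only [hMdef, Function.comp_apply]
    rw [← hf1, hgf]
    rfl
  have hb3 : M (0, 0, 1) = M (0, 1, 0) - (0, 1, 2) := by
    have h := hM.add (0, 1, 0) ((0, 0, 1) + (0, 0, 1))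
    rw [hM.add (0, 0, 1) (0, 0, 1),
      show ((0, 1, 0) : Vec) + ((0, 0, 1) + (0, 0, 1)) = (0, 1, 2) from rfl, hMr] at h
    have : ∀ r u v : Vec, r = u + (v + v) → v = u - r := by
      intro r u v hh; subst hh; revert u v; decide +kernel
    exact this _ _ _ h
  have hlin : ∀ y, lin (M (1, 0, 0)) (M (0, 1, 0)) (M (0, 1, 0) - (0, 1, 2)) y = M y := fun y => by
    rw [← hb3]; exact (hM.eq_lin y).symm
  obtain ⟨w, -, hw1, hwP⟩ := plane_words (M (1, 0, 0)) (M (0, 1, 0))
    ⟨fun i => by simp only [hlin, hM3], fun y hy => hMfix y (by rw [← hlin]; exact hy)⟩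
  have hev : ∀ w : List (Fin 3), ∃ m, B.Acts m (evalWord
      (lin (M (1, 0, 0)) (M (0, 1, 0)) (M (0, 1, 0) - (0, 1, 2))) w) := by
    intro w
    induction w with
    | nil => exact ⟨1, fun y => by simp [evalWord]⟩
    | cons i w ih =>
      obtain ⟨m, hm⟩ := ih
      fin_cases i
      · exact ⟨_, fun y => (hσ.mul hm) y⟩
      · exact ⟨_, fun y => (B.acts_t.mul hm) y⟩
      · exact ⟨_, fun y => ((hM.mul hm) y).trans (by rw [Function.comp_apply, ← hlin]; rfl)⟩
  obtain ⟨m, hm⟩ := hev w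
  exact absurd (B.isPerm_of_fix hm hw1) (by rw [hwP]; exact Bool.false_ne_true)

end Core

end CfsgLib.Recog.ThreeLocalSpSix
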