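import Cfsg.Agent.Lib.Known.PSpSemi.Card

/-!
Owner: helper24. A group with a subgroup `PSp(4, 3)` of index two and trivial centraliser is `Aut PSp(4, 3)`.
-/

set_option autoImplicit false

namespace CfsgLib.Recog.ThreeLocalSpSix

theorem mulEquiv_aut_of_index_two {G : Type*} [Group G] [Finite G] (F : Type*) [Field F] [Fintype F]
    (hF : Fintype.card F = 3) (K : Subgroup G) (hK : K.index = 2)
    (hc : Subgroup.centralizer (K : Set G) = ⊥) (e : K ≃* Cfsg.PSp 2 F) :
    Nonempty (G ≃* MulAut (Cfsg.PSp 2 F)) := by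
  have : Fact (Nat.Prime 3) := ⟨Nat.prime_three⟩
  have : K.Normal := Subgroup.normal_of_index_eq_two hK
  have hcard : Nat.card (MulAut (Cfsg.PSp 2 F)) = 2 * Nat.card (Cfsg.PSp 2 F) := by
    rw [CfsgLib.Known.PSpSemi.card_mulAut_full (p := 3) (f := 1) le_rfl (by rw [hF, pow_one]) le_rfl]
    · norm_num
  let φ : G →* MulAut (Cfsg.PSp 2 F) := (MulAut.congr e).toMonoidHom.comp MulAut.conjNormal
  have hinj : Function.Injective φ := by
    refine (MulAut.congr e).injective.comp ?_
    rw [← MonoidHom.ker_eq_bot_iff, eq_bot_iff, ← hc]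
    intro g hg
    rw [Subgroup.mem_centralizer_iff]
    intro k hk
    have h1 := congrArg Subtype.val (DFunLike.congr_fun (MonoidHom.mem_ker.1 hg) (⟨k, hk⟩ : K))
    rw [MulAut.conjNormal_apply] at h1
    exact (mul_inv_eq_iff_eq_mul.1 h1).symm
  have : Finite (MulAut (Cfsg.PSp 2 F)) :=
    Nat.finite_of_card_ne_zero (by
      rw [hcard, ← Nat.card_congr e.toEquiv]; exact Nat.mul_ne_zero two_ne_zero Nat.card_pos.ne')
  refine ⟨MulEquiv.ofBijective φ (hinj.bijective_of_nat_card_le ?_)⟩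
  rw [hcard, ← Nat.card_congr e.toEquiv, ← K.card_mul_index, hK, mul_comm]

end CfsgLib.Recog.ThreeLocalSpSix
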