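import Cfsg.Agent.Lib.Recog.ThreeLocalSpSix.ActTables

/-!
Owner: helper3. Finite checks for the possible sets of conjugates: sets invariant under the permutations of the
coordinates whose size has no factor five or seven consist of the vertices of one cube.
-/

set_option autoImplicit false
set_option linter.all false
set_option maxRecDepth 100000

namespace CfsgLib.Recog.ThreeLocalSpSix

/-- The representatives of the seven orbits of vectors off the plane, and of the negated centre. -/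
def reps : Fin 7 → Vec :=
  ![(2, 2, 2), (2, 1, 1), (1, 2, 2), (1, 0, 0), (2, 0, 0), (0, 1, 1), (0, 2, 2)]

/-- The set with the given representatives. -/
def inSet (b : Fin 7 → Bool) (x : Vec) : Bool :=
  x == (1, 1, 1) || (List.finRange 7).any fun i => b i && perms.any fun π => x == π (reps i)

theorem reps_cover : ∀ x : Vec, x ≠ 0 → (x.1 + x.2.1 + x.2.2 = 0 → x = (1, 1, 1) ∨ x = (2, 2, 2)) →
    x = (1, 1, 1) ∨ ∃ i, ∃ π ∈ perms, x = π (reps i) := by decide +kernel

theorem perms_inverse : ∀ π ∈ perms, ∃ π' ∈ perms, ∀ x, π' (π x) = x := by decide +kernel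

theorem frame_count : ∀ b0 b1 b2 b3 b4 b5 b6 : Bool,
    ((b0 = true → b1 = b2 ∧ b3 = b4 ∧ b5 = b6) ∧ (b0 = false → (b1 && b2) = false ∧ (b3 && b4) = false ∧ (b5 && b6) = false)) →
    (b1 || b2) = true → (b3 || b4 || b5 || b6) = true →
    5 ∣ (Finset.univ.filter fun x => inSet ![b0, b1, b2, b3, b4, b5, b6] x = true).card ∨
      7 ∣ (Finset.univ.filter fun x => inSet ![b0, b1, b2, b3, b4, b5, b6] x = true).card := by
  decide +kernel

theorem frame_eight : ∀ b0 b1 b2 : Bool, ∀ x : Vec,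
    inSet ![b0, b1, b2, false, false, false, false] x = true → x ∈ eight := by decide +kernel

theorem eight_orbit : ∀ x ∈ eight, x = (1, 1, 1) ∨ x = (2, 2, 2) ∨
    ∃ π ∈ perms, x = π (2, 1, 1) ∨ x = π (1, 2, 2) := by decide +kernel

theorem eight_basis : ∀ f : Vec × Vec × Vec,
    (lin f.1 f.2.1 f.2.2 (2, 1, 1) - lin f.1 f.2.1 f.2.2 (1, 1, 1) = f.1) ∧
    (lin f.1 f.2.1 f.2.2 (1, 2, 1) - lin f.1 f.2.1 f.2.2 (1, 1, 1) = f.2.1) ∧
    (lin f.1 f.2.1 f.2.2 (1, 1, 1) - f.1 - f.2.1 = f.2.2) := by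
  rintro ⟨b1, b2, b3⟩
  simp only [lin]
  refine ⟨?_, ?_, ?_⟩ <;> refine Prod.ext ?_ (Prod.ext ?_ ?_) <;> simp <;> ring

end CfsgLib.Recog.ThreeLocalSpSix
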