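import Cfsg.Agent.Lib.Recog.ThreeLocalSpSix.Act
import Cfsg.Agent.Lib.Recog.ThreeLocalSpSix.CasesTables

/-!
Owner: helper3. The possible fusion of `a`: either only `a` and its inverse in the abelian subgroup, or, after a
twist of the coordinates, four or eight vertices of a cube with monomial action.
-/

set_option autoImplicit false
set_option linter.all false
set_option maxRecDepth 100000

namespace CfsgLib.Recog.ThreeLocalSpSix

open Subgroup CfsgLib.Recog.HeisSL

universe u

theorem tw_tw' (c : K) (x : Vec) : tw c (tw (-c) x) = x := by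
  have := tw_tw (-c) x
  rwa [neg_neg] at this

namespace Core

variable {G : Type u} [Group G] (B : Core G)

/-- The conjugation action of the normalizer. -/
theorem prime_not_dvd [Finite G] (p : ℕ) [hp : Fact p.Prime] (h57 : p = 5 ∨ p = 7) :
    ¬ p ∣ Nat.card (normalizer (B.J : Set G)) := by
  intro hd
  obtain ⟨⟨n, hn⟩, hno⟩ := exists_prime_orderOf_dvd_card' p hd
  rw [Subgroup.orderOf_mk] at hno
  obtain ⟨f, hf⟩ := B.exists_acts hn
  have hpow : ∀ m, B.Acts (n ^ m) (f^[m]) := by
    intro m
    induction m with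
    | zero => rw [pow_zero]; exact Acts.one
    | succ m ih => rw [pow_succ, Function.iterate_succ]; exact ih.mul hf
  have hid : ∀ x, f^[p] x = x := fun x => by
    refine (hpow p).unique (f' := id) ?_ x
    rw [← hno, pow_orderOf_eq_one]; exact Acts.one
  have hmod := Equiv.Perm.card_fixedPoints_modEq (f := (f : Function.End Vec)) (p := p) (n := 1) (by
    rw [pow_one]
    have hp' : ∀ (m : ℕ) (y : Vec), ((show Function.End Vec from f) ^ m) y = f^[m] y := by
      intro m
      induction m with
      | zero => intro y; rfl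
      | succ m ih =>
        intro y
        rw [pow_succ]
        exact (ih (f y)).trans rfl
    funext x
    exact (hp' p x).trans (hid x))
  set H : AddSubgroup Vec :=
    { carrier := {x | f x = x}
      zero_mem' := by
        show f 0 = 0
        have h0 := hf.add 0 0
        rw [add_zero] at h0
        exact left_eq_add.1 h0
      add_mem' := fun {x y} hx hy => by
        show f (x + y) = x + y
        rw [hf.add, hx, hy]
      neg_mem' := fun {x} hx => by
        show f (-x) = -x
        have h0 := hf.add 0 0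
        rw [add_zero] at h0
        have h1 := hf.add x (-x)
        rw [add_neg_cancel, hx, left_eq_add.1 h0] at h1
        exact (eq_neg_of_add_eq_zero_right h1.symm) }
  have hcardH : Fintype.card ↑(Function.fixedPoints (f : Function.End Vec)) = Nat.card H := by
    rw [← Nat.card_eq_fintype_card]; rfl
  have hdvd : Nat.card H ∣ 27 := by
    have := AddSubgroup.card_addSubgroup_dvd_card H
    rwa [Nat.card_eq_fintype_card (α := Vec), show Fintype.card Vec = 27 by decide] at this
  have hall : H = ⊤ := by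
    refine (AddSubgroup.card_eq_iff_eq_top H).1 ?_
    rw [Nat.card_eq_fintype_card (α := Vec), show Fintype.card Vec = 27 by decide]
    rw [hcardH, show Fintype.card Vec = 27 by decide] at hmod
    have hle := Nat.le_of_dvd (by norm_num) hdvd
    interval_cases (Nat.card H) <;>
      first
      | rfl
      | omega
      | (exfalso; rcases h57 with rfl | rfl <;> simp only [Nat.ModEq] at hmod <;> omega)
  have hJ : n ∈ B.J := hf.mem_J fun x => (hall ▸ AddSubgroup.mem_top x : x ∈ H)
  have h3 := B.cube_J hJ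
  have := orderOf_dvd_of_pow_eq_one h3
  rw [hno] at this
  rcases h57 with rfl | rfl <;> norm_num at this

/-- The number of conjugates of `a` in the abelian subgroup divides the order of its normalizer. -/
theorem ncard_O_dvd [Finite G] : B.O.ncard ∣ Nat.card (normalizer (B.J : Set G)) := by
  let N := normalizer (B.J : Set G)
  letI : MulAction N G := MulAction.compHom G (ConjAct.toConjAct.toMonoidHom.comp N.subtype)
  have hs : ∀ (m : N) (y : G), m • y = (m : G) * y * (m : G)⁻¹ := fun m y => rfl
  have horb : MulAction.orbit N B.a = B.j '' B.O := by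
    ext y
    constructor
    · rintro ⟨m, rfl⟩
      obtain ⟨f, hf⟩ := B.exists_acts m.2
      refine ⟨f (1, 1, 1), hf.mem_O B.one_mem_O, ?_⟩
      show _ = m • B.a
      rw [hs, ← hf, B.j_center]
    · rintro ⟨x, hx, rfl⟩
      obtain ⟨n, f, hf, hfx⟩ := B.exists_acts_to hx
      refine ⟨⟨n, hf.mem⟩, ?_⟩
      show n * B.a * n⁻¹ = _
      rw [← B.j_center, hf, hfx]
  have h := (MulAction.stabilizer N B.a).index_dvd_card
  rw [MulAction.index_stabilizer, horb, Set.ncard_image_of_injective _ (fun x y => B.j_inj)] at h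
  exact h

/-- If `x` and its negative are conjugates of `a`, so are the negatives of all. -/
theorem neg_mem_O {x y : Vec} (hx : x ∈ B.O) (hnx : -x ∈ B.O) (hy : y ∈ B.O) : -y ∈ B.O := by
  obtain ⟨g, hg⟩ := hx
  obtain ⟨g', hg'⟩ := hnx
  obtain ⟨k, hk⟩ := hy
  refine ⟨k * g⁻¹ * g', ?_⟩
  rw [B.j_neg, ← hk]
  rw [B.j_neg, ← hg] at hg'
  calc k * g⁻¹ * g' * B.a * (k * g⁻¹ * g')⁻¹ = k * g⁻¹ * (g' * B.a * g'⁻¹) * g * k⁻¹ := by group
    _ = k * g⁻¹ * (g * B.a * g⁻¹)⁻¹ * g * k⁻¹ := by rw [hg']
    _ = _ := by group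

/-- The twisted data. -/
def twisted (c : K) : Core G where
  θ := B.θ.comp (twist c)
  inj := B.inj.comp (twist_inj c)
  cent g hg := by
    rw [MonoidHom.comp_apply, (twist_jW c 0).2] at hg
    obtain ⟨w, rfl⟩ := B.cent g hg
    have hs : Function.Surjective (twist c) := Finite.injective_iff_surjective.1 (twist_inj c)
    obtain ⟨w', rfl⟩ := hs w
    exact ⟨w', rfl⟩
  sig L hL h := B.sig L hL fun x l hl => by
    have e := h (tw (-c) x) l hl
    rwa [MonoidHom.comp_apply, (twist_jW c _).1, tw_tw'] at e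

theorem twisted_a (c : K) : (B.twisted c).a = B.a := by
  show B.θ (twist c z0) = _
  rw [(twist_jW c 0).2]; rfl

theorem twisted_j (c : K) (x : Vec) : (B.twisted c).j x = B.j (tw c x) := by
  show B.θ (twist c (jW x)) = _
  rw [(twist_jW c x).1]; rfl

theorem mem_twisted_O (c : K) (x : Vec) : x ∈ (B.twisted c).O ↔ tw c x ∈ B.O := by
  simp only [O, Set.mem_ofPred_eq, twisted_a, twisted_j]

/-- The conjugates of `a` in the abelian subgroup are among the vertices of a cube, one of them proper. -/
structure Framed : Prop where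
  sub : ∀ x ∈ B.O, x ∈ eight
  move : (2, 1, 1) ∈ B.O ∨ (1, 2, 2) ∈ B.O

/-- The fusion of `a`: inside its own subgroup, or framed after a twist. -/
theorem exists_framed [Finite G] :
    (∀ x ∈ B.O, x = (1, 1, 1) ∨ x = (2, 2, 2)) ∨ ∃ c, (B.twisted c).Framed := by
  classical
  by_cases hall : ∀ x ∈ B.O, x = (1, 1, 1) ∨ x = (2, 2, 2)
  · exact Or.inl hall
  push Not at hall
  obtain ⟨x, hx, hx1, hx2⟩ := hall
  refine Or.inr ?_
  obtain ⟨c, π, hπ, hc⟩ := outside_orbit x (fun e => by
    rcases B.plane_notMem hx e with e | e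
    · exact hx1 e
    · exact hx2 e)
  refine ⟨-c, ?_⟩
  set B' := B.twisted (-c) with hB'
  have hxB : tw c x ∈ B'.O := by rw [hB', mem_twisted_O, tw_tw]; exact hx
  have hmove : (2, 1, 1) ∈ B'.O ∨ (1, 2, 2) ∈ B'.O := by
    have := B'.perm_mem_O hπ hxB
    rcases hc with e | e <;> rw [e] at this
    · exact Or.inl this
    · exact Or.inr this
  refine ⟨?_, hmove⟩
  set b : Fin 7 → Bool := fun i => decide (reps i ∈ B'.O) with hb
  have hbe : b = ![b 0, b 1, b 2, b 3, b 4, b 5, b 6] := by funext i; fin_cases i <;> rfl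
  have hset : ∀ y, y ∈ B'.O ↔ inSet b y = true := by
    intro y
    simp only [inSet, Bool.or_eq_true, beq_iff_eq, List.any_eq_true, List.mem_finRange, true_and,
      Bool.and_eq_true, hb, decide_eq_true_eq]
    constructor
    · intro hy
      rcases reps_cover y (fun e => B'.zero_notMem_O (e ▸ hy)) (fun e => B'.plane_notMem hy e) with
        e | ⟨i, π, hπ, e⟩
      · exact Or.inl e
      · obtain ⟨π', hπ', hinv⟩ := perms_inverse π hπ
        refine Or.inr ⟨i, ?_, π, hπ, e⟩
        have h := B'.perm_mem_O hπ' hy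
        rwa [e, hinv] at h
    · rintro (rfl | ⟨i, hi, π, hπ, rfl⟩)
      · exact B'.one_mem_O
      · exact B'.perm_mem_O hπ hi
  have hncard : B'.O.ncard = (Finset.univ.filter fun y => inSet b y = true).card := by
    rw [← Set.ncard_coe_finset]
    congr 1
    ext y
    simp [hset]
  have hneg : ∀ i j : Fin 7, -reps i = reps j → b 0 = true → b i = b j := by
    intro i j hij h0
    simp only [hb, decide_eq_true_eq] at h0 ⊢
    have h0' : -((1, 1, 1) : Vec) ∈ B'.O := h0
    refine decide_eq_decide.2 ⟨fun h => ?_, fun h => ?_⟩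
    · rw [← hij]; exact B'.neg_mem_O B'.one_mem_O h0' h
    · rw [show reps i = -reps j by rw [← hij, neg_neg]]; exact B'.neg_mem_O B'.one_mem_O h0' h
  have hnn : ∀ i j : Fin 7, -reps i = reps j → b 0 = false → (b i && b j) = false := by
    intro i j hij h0
    rw [Bool.eq_false_iff]
    intro h
    simp only [hb, Bool.and_eq_true, decide_eq_true_eq, decide_eq_false_iff_not] at h h0
    exact h0 (B'.neg_mem_O (x := reps i) h.1 (hij ▸ h.2) B'.one_mem_O)
  have hrest : (b 3 || b 4 || b 5 || b 6) = false := by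
    rw [Bool.eq_false_iff]
    intro h
    have hF := frame_count (b 0) (b 1) (b 2) (b 3) (b 4) (b 5) (b 6)
      ⟨fun h0 => ⟨hneg 1 2 rfl h0, hneg 3 4 rfl h0, hneg 5 6 rfl h0⟩,
        fun h0 => ⟨hnn 1 2 rfl h0, hnn 3 4 rfl h0, hnn 5 6 rfl h0⟩⟩
      (by simp only [hb, Bool.or_eq_true, decide_eq_true_eq]; exact hmove) h
    rw [← hbe, ← hncard] at hF
    rcases hF with hF | hF
    · haveI : Fact (Nat.Prime 5) := ⟨by norm_num⟩
      exact B'.prime_not_dvd 5 (Or.inl rfl) (hF.trans B'.ncard_O_dvd)
    · haveI : Fact (Nat.Prime 7) := ⟨by norm_num⟩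
      exact B'.prime_not_dvd 7 (Or.inr rfl) (hF.trans B'.ncard_O_dvd)
  intro y hy
  have h := (hset y).1 hy
  simp only [Bool.or_eq_false_iff] at hrest
  rw [hbe, hrest.1.1.1, hrest.1.1.2, hrest.1.2, hrest.2] at h
  exact frame_eight _ _ _ y h

variable {B}

/-- In a frame the normalizer acts monomially. -/
theorem Acts.monomial [Finite G] {n : G} {f : Vec → Vec} (h : B.Acts n f) (hF : B.Framed) :
    ∃ e ∈ eight, ∃ π ∈ perms, ∀ x, f x = e * π x := by
  -- the three vertices of one sign, and their images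
  obtain ⟨v1, v2, hv1, hv2, hu⟩ : ∃ v1 v2 : Vec, v1 ∈ B.O ∧ v2 ∈ B.O ∧
      ((v1 = (2, 1, 1) ∧ v2 = (1, 2, 1)) ∨ (v1 = -(2, 1, 1) ∧ v2 = -(1, 2, 1))) := by
    rcases hF.move with h | h
    · exact ⟨_, _, h, B.perm_mem_O (π := fun x => (x.2.1, x.1, x.2.2)) (by simp [perms]) h, Or.inl ⟨rfl, rfl⟩⟩
    · exact ⟨_, _, h, B.perm_mem_O (π := fun x => (x.2.1, x.1, x.2.2)) (by simp [perms]) h, Or.inr ⟨rfl, rfl⟩⟩
  have hneg : ∀ x, f (-x) = -f x := fun x => by
    have h0 := h.add 0 0
    rw [add_zero] at h0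
    have h1 := h.add x (-x)
    rw [add_neg_cancel, left_eq_add.1 h0] at h1
    exact eq_neg_of_add_eq_zero_right h1.symm
  have hne : ∀ x ∈ eight, -x ∈ eight := by decide +kernel
  have h1 := hF.sub _ (h.mem_O B.one_mem_O)
  have h2 : f (2, 1, 1) ∈ eight := by
    rcases hu with ⟨e, -⟩ | ⟨e, -⟩
    · exact hF.sub _ (e ▸ h.mem_O hv1)
    · have := hne _ (hF.sub _ (h.mem_O hv1))
      rwa [e, hneg, neg_neg] at this
  have h3 : f (1, 2, 1) ∈ eight := by
    rcases hu with ⟨-, e⟩ | ⟨-, e⟩
    · exact hF.sub _ (e ▸ h.mem_O hv2)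
    · have := hne _ (hF.sub _ (h.mem_O hv2))
      rwa [e, hneg, neg_neg] at this
  obtain ⟨e1, e2, e3⟩ := eight_basis (f (1, 0, 0), f (0, 1, 0), f (0, 0, 1))
  simp only [← h.eq_lin] at e1 e2 e3
  have hlin : ∀ x, lin (f (2, 1, 1) - f (1, 1, 1)) (f (1, 2, 1) - f (1, 1, 1))
      (f (1, 1, 1) - (f (2, 1, 1) - f (1, 1, 1)) - (f (1, 2, 1) - f (1, 1, 1))) x = f x := fun x => by
    rw [e1, e2, e3]; exact (h.eq_lin x).symm
  obtain ⟨ee, he, π, hπ, key⟩ := eight_monomial _ h1 _ h2 _ h3 (fun x hx => by
      rw [hlin]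
      -- every vertex is, up to sign, a conjugate
      rcases eight_orbit x hx with rfl | rfl | ⟨π, hπ, e⟩
      · exact h1
      · rw [show ((2, 2, 2) : Vec) = -(1, 1, 1) from rfl, hneg]; exact hne _ h1
      · have hsign : x ∈ B.O ∨ -x ∈ B.O := by
          rcases hF.move with hm | hm <;> rcases e with e | e <;> subst e
          · exact Or.inl (B.perm_mem_O hπ hm)
          · refine Or.inr ?_
            have : -π (1, 2, 2) = π (2, 1, 1) := by revert π; decide +kernel
            rw [this]; exact B.perm_mem_O hπ hm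
          · refine Or.inr ?_
            have : -π (2, 1, 1) = π (1, 2, 2) := by revert π; decide +kernel
            rw [this]; exact B.perm_mem_O hπ hm
          · exact Or.inl (B.perm_mem_O hπ hm)
        rcases hsign with hs | hs
        · exact hF.sub _ (h.mem_O hs)
        · have := hne _ (hF.sub _ (h.mem_O hs))
          rwa [hneg, neg_neg] at this)
    (fun x hx => h.inj (by
      rw [hlin] at hx
      rw [hx]
      have h0 := h.add 0 0
      rw [add_zero] at h0
      exact (left_eq_add.1 h0).symm))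
  exact ⟨ee, he, π, hπ, fun x => (hlin x).symm.trans (key x)⟩

end Core

end CfsgLib.Recog.ThreeLocalSpSix
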