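import Mathlib
import Cfsg.Agent.Lib.ClassSizes.AlternatingAut

/-!
Owner: helper3. In the symmetric group of degree six: given the standard generators of the normalizer of a
Sylow 3-subgroup, a conjugate of the reflection commuting with both reflections and the exchange exists, is
unique, and satisfies the relators.
-/

set_option autoImplicit false
set_option linter.all false
set_option maxRecDepth 100000

namespace CfsgLib.Recog.ThreeLocalSpSix.SixSearch

open Equiv

/-- The list of images. -/
def code (σ : Perm (Fin 6)) : List ℕ := List.ofFn fun i => (σ i).val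

/-- Composition of lists of images. -/
def mulL (p q : List ℕ) : List ℕ := q.map fun i => p.getD i 0

/-- The identity. -/
def oneL : List ℕ := [0, 1, 2, 3, 4, 5]

/-- The number of fixed points. -/
def fixN (p : List ℕ) : ℕ := ((List.range 6).filter fun i => p.getD i 0 == i).length

theorem code_getD (σ : Perm (Fin 6)) (i : Fin 6) : (code σ).getD i.val 0 = (σ i).val := by
  rw [List.getD_eq_getElem?_getD, code, List.getElem?_ofFn]
  simp

theorem code_mul (σ τ : Perm (Fin 6)) : code (σ * τ) = mulL (code σ) (code τ) := by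
  show code (σ * τ) = (List.ofFn fun i => (τ i).val).map _
  rw [List.map_ofFn]
  refine congrArg List.ofFn (funext fun i => ?_)
  exact (code_getD σ (τ i)).symm

theorem code_one : code 1 = oneL := by decide

theorem code_inj {σ τ : Perm (Fin 6)} (h : code σ = code τ) : σ = τ :=
  Equiv.ext fun i => Fin.ext (by rw [← code_getD, ← code_getD, h])

theorem code_mem (σ : Perm (Fin 6)) : code σ ∈ (List.range 6).permutations' := by
  rw [List.mem_permutations', ← List.map_coe_finRange_eq_range]
  have h : code σ = ((List.finRange 6).map σ).map Fin.val := by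
    rw [code, List.ofFn_eq_map, List.map_map]; rfl
  rw [h]
  exact (Equiv.Perm.map_finRange_perm σ).map _

theorem fixN_eq (σ : Perm (Fin 6)) : fixN (code σ) = (Finset.univ.filter fun i => σ i = i).card := by
  rw [fixN, ← List.map_coe_finRange_eq_range, List.filter_map, List.length_map]
  show _ = ((List.finRange 6).filter fun i => decide (σ i = i)).length
  congr 1
  refine List.filter_congr fun i _ => ?_
  show ((code σ).getD i.val 0 == i.val) = _
  rw [code_getD, Bool.eq_iff_iff, beq_iff_eq, decide_eq_true_iff]
  exact Fin.val_inj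

theorem fixN_conj (σ g : Perm (Fin 6)) : fixN (code (g * σ * g⁻¹)) = fixN (code σ) := by
  rw [fixN_eq, fixN_eq]
  exact (Finset.card_equiv g fun i => by
    rw [Finset.mem_filter, Finset.mem_filter, Perm.mul_apply, Perm.mul_apply, show g⁻¹ (g i) = i from g.symm_apply_apply i]
    simp).symm

/-- The involutions. -/
def invs : List (List ℕ) :=
  (List.range 6).permutations'.filter fun p => mulL p p == oneL && p != oneL

/-- The elements of order three. -/
def threes : List (List ℕ) :=
  (List.range 6).permutations'.filter fun p => mulL p (mulL p p) == oneL && p != oneL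

/-- The words. -/
def wordsOK (a b s t v : List ℕ) : Bool :=
  let va := mulL v a
  let vsa := mulL v (mulL s a)
  let e := mulL a b
  let e' := mulL e e
  let vab := mulL v e
  let vab' := mulL v (mulL a (mulL b b))
  let w := mulL va (mulL v (mulL a a))
  mulL (mulL va va) (mulL va va) == oneL && mulL vsa (mulL vsa vsa) == oneL &&
    mulL (mulL vab (mulL vab vab)) (mulL vab (mulL vab vab)) == oneL &&
    mulL (mulL vab' (mulL vab' vab')) (mulL vab' (mulL vab' vab')) == oneL &&
    mulL w (mulL w w) == oneL &&
    mulL v (mulL e (mulL v (mulL e' (mulL e (mulL e (mulL v (mulL e' (mulL e' t)))))))) == oneL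

/-- Eighth power. -/
def eightL (p : List ℕ) : List ℕ :=
  let p2 := mulL p p
  let p4 := mulL p2 p2
  mulL p4 p4

/-- All products of sublists. -/
def span : List (List ℕ) → List (List ℕ)
  | [] => [oneL]
  | x :: l => let r := span l; r ++ r.map (mulL x)

/-- The centralizer of the exchange: orders, and absorption of the reflection. -/
def absorbOK (a b t v : List ℕ) : Bool :=
  let e := mulL a b
  let e' := mulL e e
  ((List.range 6).permutations'.filter fun g => mulL g t == mulL t g).all fun g =>
    let g8 := eightL g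
    let g1 := mulL e (mulL g e')
    mulL g8 (mulL g8 g8) == oneL &&
      if g8 == oneL && g != oneL && g != t && eightL (mulL g g1) == oneL then
        (span [g, g1, mulL e (mulL g1 e'), t]).contains v
      else true

/-- The three conjugates of the reflection and the centralizer of the product of two reflections. -/
def triOK (a b s t v : List ℕ) : Bool :=
  let e := mulL a b
  let e' := mulL e e
  let v1 := mulL e (mulL v e')
  let v2 := mulL e (mulL v1 e')
  let c := mulL s (mulL t (mulL s t))
  mulL v (mulL v1 v2) == t && mulL v v1 == mulL v1 v &&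
    ((List.range 6).permutations'.filter fun g => mulL g c == mulL c g).all fun g => eightL g == oneL

/-- The candidates. -/
def cands (s t : List ℕ) : List (List ℕ) :=
  invs.filter fun v => mulL v s == mulL s v && mulL v t == mulL t v &&
    mulL v (mulL t (mulL s t)) == mulL (mulL t (mulL s t)) v && fixN v == fixN s

/-- The search over all configurations. -/
def check : Bool :=
  [[1, 2, 0, 3, 4, 5], [1, 2, 0, 4, 5, 3]].all fun a =>
    threes.all fun b =>
      if mulL a b == mulL b a && b != a && b != mulL a a then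
        invs.all fun t =>
          if mulL t a == mulL b t then
            invs.all fun s =>
              if mulL s a == mulL (mulL a a) s && mulL s b == mulL b s &&
                  mulL (mulL t s) (mulL t s) == mulL (mulL s t) (mulL s t) then
                match cands s t with
                | [v] => wordsOK a b s t v && absorbOK a b t v && triOK a b s t v && (List.range 6).permutations'.any fun g => mulL g s == mulL v g
                | _ => false
              else true
          else true
      else true

theorem check_true : check = true := by decide +kernel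

theorem exists_code {p : List ℕ} (hp : p ∈ (List.range 6).permutations') : ∃ σ : Perm (Fin 6), code σ = p := by
  rw [List.mem_permutations'] at hp
  have hlen : p.length = 6 := by rw [hp.length_eq, List.length_range]
  have hlt : ∀ i : Fin 6, p.getD i.val 0 < 6 := fun i => by
    rw [List.getD_eq_getElem _ _ (by rw [hlen]; exact i.2)]
    exact List.mem_range.1 (hp.subset (List.getElem_mem _))
  have hnd : p.Nodup := hp.nodup_iff.2 List.nodup_range
  have hinj : Function.Injective fun i : Fin 6 => (⟨p.getD i.val 0, hlt i⟩ : Fin 6) := fun i k e => by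
    have e' := congrArg Fin.val e
    simp only [List.getD_eq_getElem _ _ (show i.val < p.length by rw [hlen]; exact i.2),
      List.getD_eq_getElem _ _ (show k.val < p.length by rw [hlen]; exact k.2)] at e'
    exact Fin.ext ((hnd.getElem_inj_iff).1 e')
  refine ⟨Equiv.ofBijective _ (Finite.injective_iff_bijective.1 hinj), List.ext_getElem ?_ fun n h1 h2 => ?_⟩
  · simp [code, hlen]
  · simp only [code, List.getElem_ofFn, Equiv.ofBijective_apply]
    exact List.getD_eq_getElem _ _ h2

/-- The properties of the reflection looked for. -/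
def IsVee (s t v : Perm (Fin 6)) : Prop :=
  Commute v s ∧ Commute v t ∧ Commute v (t * (s * t)) ∧ ∃ g : Perm (Fin 6), v = g * s * g⁻¹

/-- The relators inside the symmetric group. -/
def Words (a b s t v : Perm (Fin 6)) : Prop :=
  v * a * (v * a) * (v * a * (v * a)) = 1 ∧ v * (s * a) * (v * (s * a) * (v * (s * a))) = 1 ∧
    v * (a * b) * (v * (a * b) * (v * (a * b))) * (v * (a * b) * (v * (a * b) * (v * (a * b)))) = 1 ∧
    v * (a * (b * b)) * (v * (a * (b * b)) * (v * (a * (b * b)))) *
      (v * (a * (b * b)) * (v * (a * (b * b)) * (v * (a * (b * b))))) = 1 ∧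
    v * a * (v * (a * a)) * (v * a * (v * (a * a)) * (v * a * (v * (a * a)))) = 1 ∧
    v * (a * b * (v * (a * b * (a * b) * (a * b * (a * b * (v * (a * b * (a * b) * (a * b * (a * b) * t)))))))) = 1

/-- The centralizer of the exchange: orders, and absorption of the reflection. -/
def Absorb (a b t v : Perm (Fin 6)) : Prop :=
  (∀ g, Commute g t → g ^ 24 = 1) ∧
    ∀ g, Commute g t → g ^ 8 = 1 → g ≠ 1 → g ≠ t → (g * (a * b * g * (a * b * (a * b)))) ^ 8 = 1 →
      v ∈ Subgroup.closure ({g, a * b * g * (a * b * (a * b)),
        a * b * (a * b * g * (a * b * (a * b))) * (a * b * (a * b)), t} : Set (Perm (Fin 6)))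

/-- The three conjugates of the reflection and the centralizer of the product of two reflections. -/
def Tri (a b s t v : Perm (Fin 6)) : Prop :=
  let e := a * b
  v * (e * (v * (e * e)) * (e * (e * (v * (e * e)) * (e * e)))) = t ∧ Commute v (e * (v * (e * e))) ∧
    ∀ g, Commute g (s * (t * (s * t))) → g ^ 8 = 1

theorem code_eq_oneL {σ : Perm (Fin 6)} : code σ = oneL ↔ σ = 1 :=
  ⟨fun h => code_inj (h.trans code_one.symm), fun h => h ▸ code_one⟩

theorem code_eq {σ τ : Perm (Fin 6)} : code σ = code τ ↔ σ = τ := ⟨code_inj, congrArg code⟩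

theorem mem_invs {σ : Perm (Fin 6)} (h : σ * σ = 1) (h1 : σ ≠ 1) : code σ ∈ invs := by
  refine List.mem_filter.2 ⟨code_mem σ, ?_⟩
  simp [← code_mul, code_eq_oneL, h, h1]

theorem eightL_code (σ : Perm (Fin 6)) : eightL (code σ) = code (σ ^ 8) := by
  simp only [eightL, ← code_mul, ← pow_two, ← pow_mul]
  norm_num

theorem mem_of_span (xs : List (Perm (Fin 6))) (S : Subgroup (Perm (Fin 6))) (hS : ∀ x ∈ xs, x ∈ S) :
    ∀ p ∈ span (xs.map code), ∃ σ ∈ S, code σ = p := by
  induction xs with
  | nil =>
    intro p hp
    simp only [List.map_nil, span, List.mem_singleton] at hp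
    exact ⟨1, S.one_mem, hp ▸ code_one⟩
  | cons x l ih =>
    intro p hp
    have ih' := ih fun y hy => hS y (List.mem_cons_of_mem _ hy)
    simp only [List.map_cons, span, List.mem_append, List.mem_map] at hp
    rcases hp with hp | ⟨q, hq, rfl⟩
    · exact ih' p hp
    · obtain ⟨σ, hσ, rfl⟩ := ih' q hq
      exact ⟨x * σ, S.mul_mem (hS x List.mem_cons_self) hσ, code_mul x σ⟩

theorem absorb_of_check {a b t v : Perm (Fin 6)} (h : absorbOK (code a) (code b) (code t) (code v) = true) :
    Absorb a b t v := by
  have key := List.all_eq_true.1 h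
  have hm : ∀ g, Commute g t → code g ∈ (List.range 6).permutations'.filter
      fun p => mulL p (code t) == mulL (code t) p :=
    fun g hg => List.mem_filter.2 ⟨code_mem g, by simp [← code_mul, hg.eq]⟩
  refine ⟨fun g hg => ?_, fun g hg h8 h1 h2 h3 => ?_⟩
  · have := key _ (hm g hg)
    simp only [eightL_code, ← code_mul, Bool.and_eq_true, beq_iff_eq, code_eq_oneL] at this
    rw [show g ^ 24 = g ^ 8 * (g ^ 8 * g ^ 8) by rw [← pow_add, ← pow_add], this.1]
  · have := key _ (hm g hg)
    simp only [eightL_code, ← code_mul, Bool.and_eq_true, ← mul_assoc] at this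
    simp only [← mul_assoc] at h3 ⊢
    rw [if_pos (by simp [code_eq_oneL, code_eq, h8, h1, h2, h3])] at this
    have hmem := this.2
    rw [List.contains_iff_mem] at hmem
    obtain ⟨σ, hσ, e⟩ := mem_of_span [g, a * b * g * a * b * a * b,
        a * b * a * b * g * a * b * a * b * a * b * a * b, t]
      (Subgroup.closure ({g, a * b * g * a * b * a * b, a * b * a * b * g * a * b * a * b * a * b * a * b, t} :
        Set (Perm (Fin 6)))) (fun x hx => Subgroup.subset_closure (by simpa using hx)) _ hmem
    rwa [code_inj e] at hσ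

theorem tri_of_check {a b s t v : Perm (Fin 6)} (h : triOK (code a) (code b) (code s) (code t) (code v) = true) :
    Tri a b s t v := by
  simp only [triOK, ← code_mul, Bool.and_eq_true, beq_iff_eq, code_eq] at h
  refine ⟨h.1.1, h.1.2, fun g hg => ?_⟩
  have := List.all_eq_true.1 h.2 _ (List.mem_filter.2 ⟨code_mem g, by simp [← code_mul, hg.eq]⟩)
  rwa [beq_iff_eq, eightL_code, code_eq_oneL] at this

theorem vee_of_rep {a b s t : Perm (Fin 6)} (har : code a ∈ [[1, 2, 0, 3, 4, 5], [1, 2, 0, 4, 5, 3]])
    (hb : b * (b * b) = 1) (hb1 : b ≠ 1) (hab : a * b = b * a) (hba : b ≠ a) (hba' : b ≠ a * a) (ht : t * t = 1)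
    (ht1 : t ≠ 1) (hta : t * a = b * t) (hs : s * s = 1) (hs1 : s ≠ 1) (hsa : s * a = a * a * s) (hsb : s * b = b * s)
    (hst : t * s * (t * s) = s * t * (s * t)) :
    ∃ v, IsVee s t v ∧ (∀ v', IsVee s t v' → v' = v) ∧ Words a b s t v ∧ Absorb a b t v ∧ Tri a b s t v := by
  have hbm : code b ∈ threes := by
    refine List.mem_filter.2 ⟨code_mem b, ?_⟩
    simp [← code_mul, code_eq_oneL, hb, hb1]
  have h := List.all_eq_true.1 (List.all_eq_true.1 check_true _ har) _ hbm
  simp only [← code_mul, hab, beq_self_eq_true, Bool.true_and, bne_iff_ne, ne_eq, code_eq, hba, hba', not_false_eq_true,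
    Bool.and_self, decide_true, if_true, Bool.and_true] at h
  rw [if_pos (by simp [code_eq, hba, hba'])] at h
  have h := List.all_eq_true.1 h _ (mem_invs ht ht1)
  rw [if_pos (by simp [← code_mul, hta])] at h
  have h := List.all_eq_true.1 h _ (mem_invs hs hs1)
  rw [if_pos (by simp [← code_mul, hsa, hsb, hst])] at h
  have hmem : ∀ v', IsVee s t v' → code v' ∈ cands (code s) (code t) := by
    rintro v' ⟨h1, h2, h3, g, rfl⟩
    refine List.mem_filter.2 ⟨mem_invs ?_ ?_, ?_⟩
    · rw [conj_mul, hs, mul_one, mul_inv_cancel]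
    · exact fun e => hs1 (conj_eq_one_iff.1 e)
    · simp only [← code_mul, h1.eq, h2.eq, h3.eq, fixN_conj, beq_self_eq_true, Bool.and_self]
  revert h hmem
  generalize hc : cands (code s) (code t) = l
  intro h hmem
  match l, h with
  | [p], h =>
    simp only [Bool.and_eq_true, List.any_eq_true, beq_iff_eq] at h
    obtain ⟨⟨⟨hw, hab'⟩, htri⟩, q, hq, hqe⟩ := h
    obtain ⟨g, rfl⟩ := exists_code hq
    have hp : p ∈ cands (code s) (code t) := hc ▸ List.mem_singleton_self p
    obtain ⟨v, rfl⟩ := exists_code (List.mem_filter.1 (List.mem_filter.1 hp).1).1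
    have hp2 := (List.mem_filter.1 hp).2
    simp only [← code_mul, code_eq, Bool.and_eq_true, beq_iff_eq] at hp2
    rw [← code_mul, ← code_mul, code_eq] at hqe
    refine ⟨v, ⟨hp2.1.1.1, hp2.1.1.2, hp2.1.2, g, by rw [hqe, mul_inv_cancel_right]⟩,
      fun v' hv' => code_inj (List.mem_singleton.1 (hmem v' hv')), ?_⟩
    simp only [wordsOK, ← code_mul, Bool.and_eq_true, beq_iff_eq, code_eq_oneL] at hw
    obtain ⟨⟨⟨⟨⟨w1, w2⟩, w3⟩, w4⟩, w5⟩, w6⟩ := hw
    exact ⟨⟨w1, w2, w3, w4, w5, w6⟩, absorb_of_check hab', tri_of_check htri⟩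
  | [], h => simp at h
  | _ :: _ :: _, h => simp at h

/-- The reflection exists, is unique and satisfies the relators. -/
theorem exists_vee {a b s t : Perm (Fin 6)} (ha : a * (a * a) = 1) (ha1 : a ≠ 1)
    (hb : b * (b * b) = 1) (hb1 : b ≠ 1) (hab : a * b = b * a) (hba : b ≠ a) (hba' : b ≠ a * a) (ht : t * t = 1)
    (ht1 : t ≠ 1) (hta : t * a = b * t) (hs : s * s = 1) (hs1 : s ≠ 1) (hsa : s * a = a * a * s) (hsb : s * b = b * s)
    (hst : t * s * (t * s) = s * t * (s * t)) :
    ∃ v, IsVee s t v ∧ (∀ v', IsVee s t v' → v' = v) ∧ Words a b s t v ∧ Absorb a b t v ∧ Tri a b s t v := by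
  obtain ⟨r, hr, hrc⟩ : ∃ r : Perm (Fin 6), code r ∈ [[1, 2, 0, 3, 4, 5], [1, 2, 0, 4, 5, 3]] ∧ IsConj a r := by
    have h3 : orderOf a = 3 :=
      have : Fact (Nat.Prime 3) := ⟨Nat.prime_three⟩
      orderOf_eq_prime (by rw [pow_succ', pow_two]; exact ha) ha1
    rcases CfsgLib.ClassSizes.AlternatingAut.cycleType_cases_six (Fintype.card_fin 6) a h3 with e | e
    · exact ⟨c[0, 1, 2], by decide, Perm.isConj_iff_cycleType_eq.2 (e.trans (by decide))⟩
    · exact ⟨c[0, 1, 2] * c[3, 4, 5], by decide, Perm.isConj_iff_cycleType_eq.2 (e.trans (by decide))⟩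
  obtain ⟨g, hg⟩ := isConj_iff.1 hrc
  set φ := (MulAut.conj g : Perm (Fin 6) ≃* Perm (Fin 6)) with hφ
  have hφa : φ a = r := hg
  obtain ⟨v, ⟨c1, c2, c3, k, hk⟩, huniq, hw, hA, hT1, hT2, hT3⟩ := vee_of_rep (a := φ a) (b := φ b) (s := φ s) (t := φ t)
    (hφa ▸ hr) (by simp only [← map_mul, hb, map_one]) (by simpa using hb1)
    (by simp only [← map_mul, hab]) (φ.injective.ne hba) (by rw [← map_mul]; exact φ.injective.ne hba')
    (by simp only [← map_mul, ht, map_one]) (by simpa using ht1) (by simp only [← map_mul, hta])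
    (by simp only [← map_mul, hs, map_one]) (by simpa using hs1) (by simp only [← map_mul, hsa])
    (by simp only [← map_mul, hsb]) (by simp only [← map_mul, hst])
  obtain ⟨v, rfl⟩ := φ.surjective v
  obtain ⟨k, rfl⟩ := φ.surjective k
  refine ⟨v, ⟨?_, ?_, ?_, k, φ.injective (by rw [map_mul, map_mul, map_inv]; exact hk)⟩, ?_, ?_, ?_, ?_⟩
  · exact φ.injective (by rw [map_mul, map_mul]; exact c1.eq)
  · exact φ.injective (by rw [map_mul, map_mul]; exact c2.eq)
  · exact φ.injective (by simp only [map_mul]; exact c3.eq)
  · rintro v' ⟨d1, d2, d3, k', rfl⟩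
    refine φ.injective (huniq _ ⟨d1.map φ, d2.map φ, ?_, φ k', by simp only [map_mul, map_inv]⟩)
    have := d3.map φ
    simp only [map_mul] at this ⊢
    exact this
  · unfold Words at hw ⊢
    simp only [← map_mul, MulEquiv.map_eq_one_iff] at hw
    exact hw
  · refine ⟨fun g hg => φ.injective ?_, fun g hg h8 h1 h2 h3 => ?_⟩
    · rw [map_pow, map_one]; exact hA.1 _ (hg.map φ)
    · have := hA.2 (φ g) (hg.map φ) (by rw [← map_pow, h8, map_one]) (by simpa using h1) (φ.injective.ne h2)
        (by simp only [← map_mul, ← map_pow, h3, map_one])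
      simp only [← map_mul] at this
      rwa [← Subgroup.mem_map_iff_mem (f := φ.toMonoidHom) φ.injective, MonoidHom.map_closure, Set.image_insert_eq,
        Set.image_insert_eq, Set.image_insert_eq, Set.image_singleton]
  · refine ⟨φ.injective (by simp only [map_mul]; exact hT1), φ.injective (by simp only [map_mul]; exact hT2.eq),
      fun g hg => φ.injective ?_⟩
    rw [map_pow, map_one]
    refine hT3 _ ?_
    have := hg.map φ
    simp only [map_mul] at this
    exact this

end CfsgLib.Recog.ThreeLocalSpSix.SixSearch
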