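import Cfsg.Agent.Lib.Recog.ThreeLocalSpSix.Middle
import Cfsg.Agent.Lib.Recog.ThreeLocalSpSix.SixSearch

/-!
Owner: helper3. When the centralizer of a short vector is the symmetric group of degree six modulo the vector:
the seventh generator and its relators inside that centralizer.
-/

set_option autoImplicit false
set_option linter.all false
set_option maxRecDepth 100000

namespace CfsgLib.Recog.ThreeLocalSpSix

open Subgroup CfsgLib.Recog.HeisSL

universe u

theorem wordShort_fst : ∀ s : DihedralGroup 4, ∀ u : Vec, ((repWord (wordShort s)).2 u).1 = u.1 := by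
  decide +kernel

theorem mult_eight : ∀ x : Multiplicative K, x ^ 8 = 1 → x = 1 := by decide +kernel

theorem mult_sq : ∀ x : Multiplicative K, x * x = 1 → x = 1 := by decide +kernel

namespace Core

theorem exists_pow_j {G : Type u} [Group G] [Finite G] (B : Core G) {x : Vec} (hx : x ≠ 0) {g : G}
    (hg : g ∈ zpowers (B.j x)) : ∃ n, n < 3 ∧ B.j x ^ n = g := by
  classical
  obtain ⟨n, hn, e⟩ := (mem_zpowers_iff_mem_range_orderOf.trans Finset.mem_image).1 hg
  rw [Finset.mem_range, B.orderOf_j hx] at hn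
  exact ⟨n, hn, e⟩

namespace Eight

variable {G : Type u} [Group G] {B : Core G} (E : B.Eight)

/-- The six generators. -/
def gen6 (v : G) : Fin 6 → G := ![E.r, E.r * E.y, B.θ pW, B.θ tW, E.k, v]

theorem gen6_four (v : G) (w : List (Fin 4)) :
    (w.map fun i => E.gen6 v (i.castLE (by norm_num))) = w.map E.gen4 :=
  List.map_congr_left fun i _ => by fin_cases i <;> rfl

theorem word_congr (w w' : List (Fin 4))
    (h : (repWord w).1 = (repWord w').1 ∧ ∀ x, (repWord w).2 x = (repWord w').2 x) :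
    (w.map E.gen4).prod = (w'.map E.gen4).prod := by
  obtain ⟨m, hm, e⟩ := E.rep_word w
  obtain ⟨m', hm', e'⟩ := E.rep_word w'
  rw [e, e', h.1, E.I.lift_unique hm hm' h.2]

theorem word_acts_rep (w : List (Fin 4)) : B.Acts (w.map E.gen4).prod (repWord w).2 := by
  obtain ⟨m, hm, e⟩ := E.rep_word w
  rw [e]
  exact fun x => ((B.acts_j _).mul hm.1) x

/-- A reflection of the frame. -/
def refl2 : G := (([2, 0, 2] : List (Fin 4)).map E.gen4).prod

/-- Another reflection of the frame. -/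
def refl3 : G := (([3, 2, 0, 2, 3] : List (Fin 4)).map E.gen4).prod

/-- The seventh generator. -/
structure Vee where
  v : G
  sq : v * v = 1
  conj : ∃ g ∈ B.D (1, 0, 0), v = g * E.refl2 * g⁻¹
  rels : ∀ w ∈ (Model.relsSeven.drop 21).take 11, (w.map (E.gen6 v)).prod = 1
  order : ∀ g : G, Commute g (B.j (1, 0, 0)) → Commute g (B.θ tW) → g ^ 72 = 1
  tri : v * (B.a * v * B.a⁻¹ * (B.a * (B.a * v * B.a⁻¹) * B.a⁻¹)) = B.θ tW
  tri_comm : Commute v (B.a * v * B.a⁻¹)
  cc8 : ∀ g : G, Commute g (B.j (1, 0, 0)) → Commute g (E.refl2 * E.refl3) →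
    g ^ 8 ∈ zpowers (B.j (1, 0, 0))
  absorb : ∀ L : Subgroup G, (∀ g ∈ L, Commute g (B.j (1, 0, 0)) ∧ Commute g (B.θ tW) ∧ g ^ 8 = 1) →
    B.θ tW ∈ L → (∀ g ∈ L, B.a * g * B.a⁻¹ ∈ L) → (∃ g ∈ L, g ≠ 1 ∧ g ≠ B.θ tW) → v ∈ L

set_option maxHeartbeats 1600000 in
include E in
/-- If the centralizer of a short vector is the larger one, the seventh generator exists. -/
theorem exists_gen_seven [Finite G]
    (h6 : Nonempty ((B.D (1, 0, 0)) ⧸ B.Z (1, 0, 0) ≃* Equiv.Perm (Fin 6))) : Nonempty E.Vee := by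
  obtain ⟨e⟩ := h6
  set D := B.D (1, 0, 0) with hD
  let f : D →* Equiv.Perm (Fin 6) := e.toMonoidHom.comp (B.π (1, 0, 0))
  have hfs : Function.Surjective f := e.surjective.comp (B.π_surj _)
  obtain ⟨χ, hχ⟩ := PSpFourAmalgam.exists_hom_extend (B.J_le_D (1, 0, 0)) B.isPGroup_J
    (B.relIndex_J (B.J_le_D _) fun n hn hN => E.four_mem short_words hn hN) (fun a ha b hb => B.comm_J ha hb)
    (B.coord (AddMonoidHom.fst K (K × K))) (fun a => by revert a; decide) (by
      intro n hn hnN u hu hu'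
      obtain ⟨s, d, rfl⟩ := E.exists_word short_words hnN (B.mem_D.1 hn)
      obtain ⟨x, rfl⟩ := B.mem_J.1 hu
      have hA := ((B.acts_j d).mul (E.word_acts short_words s).1) x
      simp only [hA, coord_j]
      exact congrArg Multiplicative.ofAdd (wordShort_fst s x))
  have hker : ∀ {g : D}, f g = 1 → χ g = 1 → g = 1 := by
    intro g h1 h2
    have hZ : g ∈ B.Z (1, 0, 0) := (QuotientGroup.eq_one_iff g).1 (e.injective (h1.trans (map_one e).symm))
    obtain ⟨n, -, hn⟩ := B.exists_pow_j (x := (1, 0, 0)) (by decide) (mem_subgroupOf.1 hZ)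
    have hg : g = ⟨B.j (n • (1, 0, 0)), B.J_le_D _ (B.j_mem _)⟩ := Subtype.ext (hn.symm.trans (B.j_nsmul n _).symm)
    rw [hg, hχ _ (B.j_mem _), coord_j, ofAdd_eq_one] at h2
    have h3 : (n : K) = 0 := by simpa using h2
    have h3' := (ZMod.natCast_eq_zero_iff n 3).1 h3
    obtain ⟨m, rfl⟩ := h3'
    exact Subtype.ext (by rw [← hn, pow_mul, B.j_cube, one_pow]; rfl)
  have hχ2 : ∀ {g : D}, g * g = 1 → χ g = 1 := fun {g} h => mult_sq _ (by rw [← map_mul, h, map_one])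
  have hinj : ∀ {g g' : D}, f g = f g' → χ g = χ g' → g = g' := fun {g g'} h1 h2 =>
    eq_of_inv_mul_eq_one (hker (by rw [map_mul, map_inv, h1, inv_mul_cancel])
      (by rw [map_mul, map_inv, h2, inv_mul_cancel]))
  have hmem : ∀ w : List (Fin 4), (repWord w).2 (1, 0, 0) = (1, 0, 0) → (w.map E.gen4).prod ∈ D := fun w h => by
    have h' := E.word_acts_rep w (1, 0, 0)
    rw [h] at h'
    exact B.mem_D.2 (mul_inv_eq_iff_eq_mul.1 h')
  let W : (w : List (Fin 4)) → (repWord w).2 (1, 0, 0) = (1, 0, 0) → D := fun w h => ⟨_, hmem w h⟩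
  set a := W [2, 0, 1, 2] (by decide) with ha
  set b := W [3, 2, 0, 1, 2, 3] (by decide) with hb
  set s := W [2, 0, 2] (by decide) with hs
  set t := W [3] (by decide) with ht
  have hW : ∀ w w' (h : (repWord w).1 = (repWord w').1 ∧ ∀ x, (repWord w).2 x = (repWord w').2 x),
      ((w.map E.gen4).prod : G) = (w'.map E.gen4).prod := E.word_congr
  have haJ : (a : G) = B.j (0, 1, 0) := E.word_eq_j _ _ (by decide +kernel)
  have hbJ : (b : G) = B.j (0, 0, 1) := E.word_eq_j _ _ (by decide +kernel)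
  have hχa : χ a = 1 := by
    rw [show a = ⟨B.j (0, 1, 0), B.J_le_D _ (B.j_mem _)⟩ from Subtype.ext haJ, hχ _ (B.j_mem _), coord_j]; rfl
  have hχb : χ b = 1 := by
    rw [show b = ⟨B.j (0, 0, 1), B.J_le_D _ (B.j_mem _)⟩ from Subtype.ext hbJ, hχ _ (B.j_mem _), coord_j]; rfl
  have hne : ∀ (w : List (Fin 4)) (h : (repWord w).2 (1, 0, 0) = (1, 0, 0)),
      ((repWord w).1 ∈ ([0, (1, 0, 0), (2, 0, 0)] : List Vec) → ∃ x, (repWord w).2 x ≠ x) → f (W w h) ≠ 1 := by
    intro w h hh he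
    have hZ : W w h ∈ B.Z (1, 0, 0) := (QuotientGroup.eq_one_iff (W w h)).1 (e.injective (he.trans (map_one e).symm))
    obtain ⟨n, hn, hn'⟩ := B.exists_pow_j (x := (1, 0, 0)) (by decide) (mem_subgroupOf.1 hZ)
    obtain ⟨m, hm, he'⟩ := E.rep_word w
    have hm' : m = B.j (-(repWord w).1 + n • (1, 0, 0)) := by
      rw [B.j_add, B.j_nsmul, hn', B.j_neg]
      show m = _ * (w.map E.gen4).prod
      rw [he', inv_mul_cancel_left]
    have hid : ∀ x, (repWord w).2 x = x := fun x => (hm.1.unique (by rw [hm']; exact B.acts_j _) x).trans rfl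
    refine absurd hid (not_forall.2 (hh ?_))
    have hm1 : m = 1 := E.I.lift_unique hm E.I.lift_one hid
    rw [hm1] at hm'
    have h0 := B.j_eq_one hm'.symm
    rw [neg_add_eq_zero] at h0
    rw [h0]
    interval_cases n <;> decide
  have e1 : ∀ {g g' : D}, (g : G) = g' → f g = f g' := fun {g g'} h => congrArg f (Subtype.ext h)
  have hww : ∀ w w' : List (Fin 4), ((w.map E.gen4).prod : G) * (w'.map E.gen4).prod = ((w ++ w').map E.gen4).prod :=
    fun w w' => by rw [List.map_append, List.prod_append]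
  have rel : ∀ {g g' : D} (w w' : List (Fin 4)), (g : G) = (w.map E.gen4).prod → (g' : G) = (w'.map E.gen4).prod →
      ((repWord w).1 = (repWord w').1 ∧ ∀ x, (repWord w).2 x = (repWord w').2 x) → g = g' :=
    fun w w' h h' hr => Subtype.ext (by rw [h, h', hW w w' hr])
  obtain ⟨v0, ⟨c1, c2, c3, k0, hk0⟩, huniq, hwords, habs, htri1, htri2, htri3⟩ := SixSearch.exists_vee (a := f a) (b := f b) (s := f s) (t := f t)
    (by rw [← map_mul, ← map_mul, ← map_one f]
        exact congrArg f (rel ([2, 0, 1, 2] ++ ([2, 0, 1, 2] ++ [2, 0, 1, 2])) [] (by simp only [← hww]; rfl) (by rfl)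
          (by decide +kernel)))
    (hne [2, 0, 1, 2] (by decide) (by decide +kernel))
    (by rw [← map_mul, ← map_mul, ← map_one f]
        exact congrArg f (rel ([3, 2, 0, 1, 2, 3] ++ ([3, 2, 0, 1, 2, 3] ++ [3, 2, 0, 1, 2, 3])) []
          (by simp only [← hww]; rfl) (by rfl) (by decide +kernel)))
    (hne [3, 2, 0, 1, 2, 3] (by decide) (by decide +kernel))
    (by rw [← map_mul, ← map_mul]
        exact congrArg f (rel ([2, 0, 1, 2] ++ [3, 2, 0, 1, 2, 3]) ([3, 2, 0, 1, 2, 3] ++ [2, 0, 1, 2])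
          (by simp only [← hww]; rfl) (by simp only [← hww]; rfl) (by decide +kernel)))
    (fun h => hne ([2, 1, 0, 2] ++ [3, 2, 0, 1, 2, 3]) (by decide) (by decide +kernel) (by
      rw [show W ([2, 1, 0, 2] ++ [3, 2, 0, 1, 2, 3]) (by decide) = a⁻¹ * b from Subtype.ext (by
        show (([2, 1, 0, 2] ++ [3, 2, 0, 1, 2, 3] : List (Fin 4)).map E.gen4).prod = (a : G)⁻¹ * b
        rw [haJ, ← B.j_neg, ← hww, E.word_eq_j [2, 1, 0, 2] (-(0, 1, 0)) (by decide +kernel)]),
        map_mul, map_inv, h, inv_mul_cancel]))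
    (fun h => hne ([2, 0, 1, 2] ++ [3, 2, 0, 1, 2, 3]) (by decide) (by decide +kernel) (by
      rw [show W ([2, 0, 1, 2] ++ [3, 2, 0, 1, 2, 3]) (by decide) = a * b from Subtype.ext (by show (([2, 0, 1, 2] ++ [3, 2, 0, 1, 2, 3] : List (Fin 4)).map E.gen4).prod = (a : G) * b; rw [← hww]),
        map_mul, h, ← map_mul, ← map_mul, ← map_one f]
      exact congrArg f (rel ([2, 0, 1, 2] ++ ([2, 0, 1, 2] ++ [2, 0, 1, 2])) [] (by simp only [← hww]; rfl) (by rfl)
        (by decide +kernel))))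
    (by rw [← map_mul, ← map_one f]
        exact congrArg f (rel ([3] ++ [3]) [] (by simp only [← hww]; rfl) (by rfl) (by decide +kernel)))
    (hne [3] (by decide) (by decide +kernel))
    (by rw [← map_mul, ← map_mul]
        exact congrArg f (rel ([3] ++ [2, 0, 1, 2]) ([3, 2, 0, 1, 2, 3] ++ [3])
          (by simp only [← hww]; rfl) (by simp only [← hww]; rfl) (by decide +kernel)))
    (by rw [← map_mul, ← map_one f]
        exact congrArg f (rel ([2, 0, 2] ++ [2, 0, 2]) [] (by simp only [← hww]; rfl) (by rfl) (by decide +kernel)))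
    (hne [2, 0, 2] (by decide) (by decide +kernel))
    (by simp only [← map_mul]
        exact congrArg f (rel ([2, 0, 2] ++ [2, 0, 1, 2]) ([2, 0, 1, 2] ++ [2, 0, 1, 2] ++ [2, 0, 2])
          (by simp only [← hww]; rfl) (by simp only [← hww]; rfl) (by decide +kernel)))
    (by simp only [← map_mul]
        exact congrArg f (rel ([2, 0, 2] ++ [3, 2, 0, 1, 2, 3]) ([3, 2, 0, 1, 2, 3] ++ [2, 0, 2])
          (by simp only [← hww]; rfl) (by simp only [← hww]; rfl) (by decide +kernel)))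
    (by simp only [← map_mul]
        exact congrArg f (rel ([3] ++ [2, 0, 2] ++ ([3] ++ [2, 0, 2])) ([2, 0, 2] ++ [3] ++ ([2, 0, 2] ++ [3]))
          (by simp only [← hww]; rfl) (by simp only [← hww]; rfl) (by decide +kernel)))
  -- the lift
  obtain ⟨k, rfl⟩ := hfs k0
  obtain ⟨v, hv⟩ : ∃ v, v = k * s * k⁻¹ := ⟨_, rfl⟩
  have hfv : f v = v0 := by rw [hk0, hv, map_mul, map_mul, map_inv]
  have hs2 : s * s = 1 := rel ([2, 0, 2] ++ [2, 0, 2]) [] (by simp only [← hww]; rfl) (by rfl) (by decide +kernel)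
  have ht2 : t * t = 1 := rel ([3] ++ [3]) [] (by simp only [← hww]; rfl) (by rfl) (by decide +kernel)
  have hv2 : v * v = 1 := by rw [hv, conj_mul, hs2, mul_one, mul_inv_cancel]
  have hχv := hχ2 hv2
  have hχs := hχ2 hs2
  have hχt := hχ2 ht2
  have hcs : Commute v s := hinj (by rw [map_mul, map_mul, hfv]; exact c1.eq) (by simp only [map_mul]; exact mul_comm _ _)
  have hct : Commute v t := hinj (by rw [map_mul, map_mul, hfv]; exact c2.eq) (by simp only [map_mul]; exact mul_comm _ _)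
  have hc3 : Commute v (t * (s * t)) := hinj (by simp only [map_mul, hfv]; exact c3.eq)
    (by simp only [map_mul, hχv, hχs, hχt, mul_one, one_mul])
  -- the first reflection commutes with it
  have hrD : ∀ g : D, E.r * g * E.r⁻¹ ∈ D := fun g => by
    have hr := E.hr.1.inv (g := rF) (fun x => by simp [rF])
    refine B.mem_D.2 ?_
    have h1 : Commute (g : G) (B.j (2, 0, 0)) := by
      rw [show ((2, 0, 0) : Vec) = -(1, 0, 0) from rfl, B.j_neg]; exact (B.mem_D.1 g.2).inv_right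
    have h2 := h1.conj E.r
    rwa [E.hr.1, show rF (2, 0, 0) = (1, 0, 0) from rfl] at h2
  have hri : E.r⁻¹ = E.r := inv_eq_of_mul_eq_one_right E.hr2
  let c : D →* D := ((MulAut.conj E.r).toMonoidHom.comp D.subtype).codRestrict D hrD
  have hcw : ∀ (w : List (Fin 4)) (h : (repWord w).2 (1, 0, 0) = (1, 0, 0)),
      ((repWord ([0] ++ w ++ [0])).1 = (repWord w).1 ∧ ∀ x, (repWord ([0] ++ w ++ [0])).2 x = (repWord w).2 x) →
      c (W w h) = W w h := fun w h hr => Subtype.ext (by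
    show E.r * (w.map E.gen4).prod * E.r⁻¹ = _
    have hw0 : E.r = (([0] : List (Fin 4)).map E.gen4).prod := (List.prod_singleton).symm
    rw [hri, hw0, hww, hww]
    exact hW _ _ hr)
  have hcv : c v = v := by
    refine hinj ?_ ?_
    · have hcv2 : c v * c v = 1 := by rw [← map_mul, hv2, map_one]
      have hcs' : c s = s := hcw [2, 0, 2] (by decide) (by decide +kernel)
      have hct' : c t = t := hcw [3] (by decide) (by decide +kernel)
      refine (huniq _ ⟨?_, ?_, ?_, f (c k), ?_⟩).trans hfv.symm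
      · have := (hcs.map c).map f; rwa [hcs'] at this
      · have := (hct.map c).map f; rwa [hct'] at this
      · have := (hc3.map c).map f
        simp only [map_mul, hcs', hct'] at this ⊢
        exact this
      · rw [hv, map_mul, map_mul, map_mul, map_mul, map_inv, map_inv, hcs']
    · rw [hχv, hχ2 (by rw [← map_mul, hv2, map_one])]
  have hrv : E.r * (v : G) = v * E.r := mul_inv_eq_iff_eq_mul.1 (congrArg Subtype.val hcv)
  have hy : Commute (v : G) E.y := B.mem_D.1 v.2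
  have hye : B.j (1, 0, 0) ∈ D := B.J_le_D _ (B.j_mem _)
  have haD : B.a ∈ D := B.j_center ▸ B.J_le_D _ (B.j_mem _)
  have hfa : f ⟨B.a, haD⟩ = f a * f b := by
    have hy1 : f ⟨B.j (1, 0, 0), hye⟩ = 1 := by
      refine (congrArg e ?_).trans (map_one e)
      exact (QuotientGroup.eq_one_iff _).2 (mem_zpowers _)
    rw [← map_mul, ← one_mul (f (a * b)), ← hy1, ← map_mul]
    refine congrArg f (Subtype.ext ?_)
    show B.a = B.j (1, 0, 0) * ((a : G) * b)
    rw [haJ, hbJ, ← B.j_add, ← B.j_add, ← B.j_center]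
    rfl
  have hfai : f (⟨B.a, haD⟩ : D)⁻¹ = f a * f b * (f a * f b) := by
    rw [map_inv]
    refine inv_eq_of_mul_eq_one_right ?_
    rw [hfa, ← hfa, ← map_mul, ← map_mul, ← map_one f]
    refine congrArg f (Subtype.ext ?_)
    show B.a * (B.a * B.a) = 1
    rw [← pow_two, ← pow_succ', show (2 + 1 : ℕ) = orderOf B.a from B.orderOf_a.symm, pow_orderOf_eq_one]
  have hconjv : ∀ x : D, χ (⟨B.a, haD⟩ * x * ⟨B.a, haD⟩⁻¹) = χ x := fun x => by
    rw [map_mul, map_mul, map_inv, mul_comm (χ _) (χ x), mul_assoc, mul_inv_cancel, mul_one]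
  refine ⟨⟨v, congrArg Subtype.val hv2, ⟨k, k.2, congrArg Subtype.val hv⟩, ?_, ?_, ?_, ?_, ?_, ?_⟩⟩
  rotate_left
  · -- orders in the centralizer of the exchange
    intro g hg hgt
    have hgD : g ∈ D := B.mem_D.2 hg
    have h24 : f (⟨g, hgD⟩ ^ 24) = 1 := by
      rw [map_pow]
      refine habs.1 _ ((show Commute (⟨g, hgD⟩ : D) t from Subtype.ext ?_).map f)
      show g * (t : G) = (t : G) * g
      rw [show (t : G) = B.θ tW from List.prod_singleton, hgt.eq]
    have : (⟨g, hgD⟩ : D) ^ 24 ∈ B.Z (1, 0, 0) := (QuotientGroup.eq_one_iff _).1 (e.injective (h24.trans (map_one e).symm))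
    obtain ⟨n, -, hn⟩ := B.exists_pow_j (x := (1, 0, 0)) (by decide) (mem_subgroupOf.1 this)
    have h72 : g ^ 72 = (g ^ 24) ^ 3 := by rw [← pow_mul]
    rw [h72, show g ^ 24 = B.j (1, 0, 0) ^ n from hn.symm, ← pow_mul, mul_comm, pow_mul, B.j_cube, one_pow]
  · -- the three conjugates
    have h : v * (⟨B.a, haD⟩ * v * ⟨B.a, haD⟩⁻¹ * (⟨B.a, haD⟩ * (⟨B.a, haD⟩ * v * ⟨B.a, haD⟩⁻¹) * ⟨B.a, haD⟩⁻¹)) = t := by
      refine hinj ?_ ?_
      · simp only [map_mul, hfai]
        simp only [hfa, hfv]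
        rw [← htri1]
        simp only [mul_assoc]
      · rw [map_mul, map_mul, hconjv, hconjv, hconjv, hχv, hχt, one_mul, one_mul]
    have h' := congrArg Subtype.val h
    rw [show (t : G) = B.θ tW from List.prod_singleton] at h'
    exact h'
  · -- they commute
    have h : Commute v (⟨B.a, haD⟩ * v * ⟨B.a, haD⟩⁻¹) := by
      refine hinj ?_ ?_
      · simp only [map_mul, hfai]
        simp only [hfa, hfv]
        have := htri2.eq
        simp only [mul_assoc] at this ⊢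
        exact this
      · simp only [map_mul]; exact mul_comm _ _
    exact congrArg Subtype.val h.eq
  · -- the product of two reflections
    intro g hg hgc
    have hgD : g ∈ D := B.mem_D.2 hg
    have hc : (s : G) * ((t : G) * ((s : G) * t)) = E.refl2 * E.refl3 := by
      show _ = (([2, 0, 2] : List (Fin 4)).map E.gen4).prod * (([3, 2, 0, 2, 3] : List (Fin 4)).map E.gen4).prod
      rw [show ([3, 2, 0, 2, 3] : List (Fin 4)) = [3] ++ ([2, 0, 2] ++ [3]) from rfl, ← hww, ← hww]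
    have h8 : f (⟨g, hgD⟩ ^ 8) = 1 := by
      rw [map_pow]
      refine htri3 _ ?_
      rw [← map_mul, ← map_mul, ← map_mul]
      refine (show Commute (⟨g, hgD⟩ : D) (s * (t * (s * t))) from Subtype.ext ?_).map f
      show g * ((s : G) * ((t : G) * ((s : G) * t))) = (s : G) * ((t : G) * ((s : G) * t)) * g
      rw [hc, hgc.eq]
    have hz : (⟨g, hgD⟩ : D) ^ 8 ∈ B.Z (1, 0, 0) :=
      (QuotientGroup.eq_one_iff _).1 (e.injective (h8.trans (map_one e).symm))
    exact mem_subgroupOf.1 hz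
  · -- absorption
    intro L hL htL hLa ⟨g, hgL, hg1, hgt⟩
    have hLD : L ≤ D := fun x hx => B.mem_D.2 (hL x hx).1
    have hfix : ∀ x : D, (x : G) ∈ L → χ x = 1 := fun x hx => mult_eight _ (by
      rw [← map_pow, show x ^ 8 = 1 from Subtype.ext (by push_cast; exact (hL _ hx).2.2), map_one])
    set M := (L.subgroupOf D).map f with hM
    set σ := f ⟨g, hLD hgL⟩ with hσ
    have hσM : σ ∈ M := mem_map_of_mem _ hgL
    have hconj : ∀ τ ∈ M, f a * f b * τ * (f a * f b * (f a * f b)) ∈ M := by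
      rintro _ ⟨x, hx, rfl⟩
      refine ⟨⟨B.a, haD⟩ * x * ⟨B.a, haD⟩⁻¹, hLa _ hx, ?_⟩
      rw [map_mul, map_mul, map_inv, hfa]
      congr 1
      refine inv_eq_of_mul_eq_one_right ?_
      rw [← hfa, ← map_mul, ← map_mul, ← map_one f]
      refine congrArg f (Subtype.ext ?_)
      show B.a * (B.a * B.a) = 1
      rw [← pow_two, ← pow_succ', show (2 + 1 : ℕ) = orderOf B.a from B.orderOf_a.symm, pow_orderOf_eq_one]
    have htf : f t ∈ M := mem_map_of_mem _ (show (t : G) ∈ L by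
      rw [show (t : G) = B.θ tW from List.prod_singleton]; exact htL)
    have hpow : ∀ τ ∈ M, τ ^ 8 = 1 := by
      rintro _ ⟨x, hx, rfl⟩
      rw [← map_pow, show x ^ 8 = 1 from Subtype.ext (by push_cast; exact (hL _ hx).2.2), map_one]
    have hinj' : ∀ x y : D, (x : G) ∈ L → (y : G) ∈ L → f x = f y → x = y := fun x y hx hy hxy =>
      hinj hxy (by rw [hfix x hx, hfix y hy])
    have hvM : f v ∈ M := by
      rw [hfv]
      refine (closure_le M).2 ?_ (habs.2 σ ?_ (hpow _ hσM) ?_ ?_ (hpow _ (mul_mem hσM (hconj _ hσM))))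
      · simp only [Set.insert_subset_iff, Set.singleton_subset_iff]
        exact ⟨hσM, hconj _ hσM, hconj _ (hconj _ hσM), htf⟩
      · refine (show Commute (⟨g, hLD hgL⟩ : D) t from Subtype.ext ?_).map f
        show g * (t : G) = (t : G) * g
        rw [show (t : G) = B.θ tW from List.prod_singleton, (hL g hgL).2.1.eq]
      · intro h1
        exact hg1 (congrArg Subtype.val (hinj' ⟨g, hLD hgL⟩ 1 hgL L.one_mem (h1.trans (map_one f).symm)))
      · intro h1
        refine hgt ((congrArg Subtype.val (hinj' ⟨g, hLD hgL⟩ t hgL ?_ h1)).trans List.prod_singleton)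
        rw [show (t : G) = B.θ tW from List.prod_singleton]; exact htL
    obtain ⟨l, hl, hlv⟩ := hvM
    rw [← hinj hlv (by rw [hfix l hl, hχv])]
    exact hl
  -- the relators
  obtain ⟨w1, w2, w3, w4, w5, w6⟩ := hwords
  have hword : ∀ {g : D}, f g = 1 → χ g = 1 → (g : G) = 1 := fun h1 h2 => congrArg Subtype.val (hker h1 h2)
  subst hfv
  simp only [← map_mul] at w1 w2 w3 w4 w5 w6
  have g1 := hword w1 (by simp [hχv, hχa])
  have g2 := hword w2 (by simp [hχv, hχa, hχs])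
  have g3 := hword w3 (by simp [hχv, hχa, hχb])
  have g4 := hword w4 (by simp [hχv, hχa, hχb])
  have g5 := hword w5 (by simp [hχv, hχa])
  have g6 := hword w6 (by simp [hχv, hχa, hχb, hχt])
  have seg : ∀ w : List (Fin 4), ((w.map fun i : Fin 4 => (i.castLE (by norm_num) : Fin 6)).map (E.gen6 v)).prod =
      (w.map E.gen4).prod := fun w => by rw [List.map_map, Function.comp_def, E.gen6_four]
  have sa : (([2, 0, 1, 2] : List (Fin 6)).map (E.gen6 v)).prod = (a : G) := seg [2, 0, 1, 2]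
  have sb : (([3, 2, 0, 1, 2, 3] : List (Fin 6)).map (E.gen6 v)).prod = (b : G) := seg [3, 2, 0, 1, 2, 3]
  have ss : (([2, 0, 2] : List (Fin 6)).map (E.gen6 v)).prod = (s : G) := seg [2, 0, 2]
  have st : (([3] : List (Fin 6)).map (E.gen6 v)).prod = (t : G) := seg [3]
  have ss3 : (([3, 2, 0, 2, 3] : List (Fin 6)).map (E.gen6 v)).prod = ((t * (s * t) : D) : G) := by
    rw [show ([3, 2, 0, 2, 3] : List (Fin 6)) = [3] ++ ([2, 0, 2] ++ [3]) from rfl]
    simp only [List.map_append, List.prod_append, ss, st]; rfl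
  have sai : (([2, 1, 0, 2] : List (Fin 6)).map (E.gen6 v)).prod = (a : G) * a := by
    rw [show (a : G) * a = (([2, 0, 1, 2] ++ [2, 0, 1, 2] : List (Fin 4)).map E.gen4).prod from hww _ _]
    exact (seg [2, 1, 0, 2]).trans (hW _ _ (by decide +kernel))
  have sbi : (([3, 2, 1, 0, 2, 3] : List (Fin 6)).map (E.gen6 v)).prod = (b : G) * b := by
    rw [show (b : G) * b = (([3, 2, 0, 1, 2, 3] ++ [3, 2, 0, 1, 2, 3] : List (Fin 4)).map E.gen4).prod from hww _ _]
    exact (seg [3, 2, 1, 0, 2, 3]).trans (hW _ _ (by decide +kernel))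
  have sei : (([3, 2, 1, 0, 2, 3, 2, 1, 0, 2] : List (Fin 6)).map (E.gen6 v)).prod = (a : G) * b * (a * b) := by
    rw [show (a : G) * b * (a * b) = (([2, 0, 1, 2] ++ [3, 2, 0, 1, 2, 3] ++ ([2, 0, 1, 2] ++ [3, 2, 0, 1, 2, 3])
      : List (Fin 4)).map E.gen4).prod by simp only [← hww]; rfl]
    exact (seg [3, 2, 1, 0, 2, 3, 2, 1, 0, 2]).trans (hW _ _ (by decide +kernel))
  have sv : (([5] : List (Fin 6)).map (E.gen6 v)).prod = (v : G) := List.prod_singleton
  have sr : (([0] : List (Fin 6)).map (E.gen6 v)).prod = E.r := List.prod_singleton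
  have sy : (([0, 1] : List (Fin 6)).map (E.gen6 v)).prod = E.y := by
    show E.r * (E.r * E.y * 1) = _
    rw [mul_one, ← mul_assoc, E.hr2, one_mul]
  have syi : (([1, 0] : List (Fin 6)).map (E.gen6 v)).prod = E.y⁻¹ := by
    refine (seg [1, 0]).trans ((E.word_eq_j [1, 0] (-(1, 0, 0)) (by decide +kernel)).trans (B.j_neg _))
  simp only [Model.relsSeven, List.drop_succ_cons, List.drop_zero, List.take_succ_cons, List.take_zero, List.mem_cons,
    List.not_mem_nil, or_false, forall_eq_or_imp, forall_eq]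
  have hvv : (v : G) * v = 1 := congrArg Subtype.val hv2
  have comm : ∀ {x : G}, Commute (v : G) x → x * x = 1 → (v : G) * x * v * x = 1 := fun {x} h hx => by
    rw [h.eq, mul_assoc x, hvv, mul_one, hx]
  refine ⟨?_, ?_, ?_, ?_, ?_, ?_, ?_, ?_, ?_, ?_, ?_⟩
  · rw [show ([5, 0, 5, 0] : List (Fin 6)) = [5] ++ [0] ++ [5] ++ [0] from rfl]
    simp only [List.map_append, List.prod_append, sv, sr]
    exact comm hrv.symm E.hr2
  · rw [show ([5, 0, 1, 5, 1, 0] : List (Fin 6)) = [5] ++ [0, 1] ++ [5] ++ [1, 0] from rfl]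
    simp only [List.map_append, List.prod_append, sv, sy, syi]
    rw [hy.eq, mul_assoc E.y, hvv, mul_one, mul_inv_cancel]
  · rw [show ([5, 2, 0, 2, 5, 2, 0, 2] : List (Fin 6)) = [5] ++ [2, 0, 2] ++ [5] ++ [2, 0, 2] from rfl]
    simp only [List.map_append, List.prod_append, sv, ss]
    exact comm (congrArg Subtype.val hcs.eq) (congrArg Subtype.val hs2)
  · rw [show ([5, 3, 2, 0, 2, 3, 5, 3, 2, 0, 2, 3] : List (Fin 6)) =
      [5] ++ [3, 2, 0, 2, 3] ++ [5] ++ [3, 2, 0, 2, 3] from rfl]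
    simp only [List.map_append, List.prod_append, sv, ss3]
    refine comm (congrArg Subtype.val hc3.eq) (congrArg Subtype.val
      (show t * (s * t) * (t * (s * t)) = 1 from ?_))
    calc t * (s * t) * (t * (s * t)) = t * (s * (t * t) * s) * t := by group
      _ = 1 := by rw [ht2, mul_one, hs2, mul_one, ht2]
  · rw [show ([5, 3, 5, 3] : List (Fin 6)) = [5] ++ [3] ++ [5] ++ [3] from rfl]
    simp only [List.map_append, List.prod_append, sv, st]
    exact comm (congrArg Subtype.val hct.eq) (congrArg Subtype.val ht2)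
  · rw [show ([5, 2, 0, 1, 2, 5, 2, 0, 1, 2, 5, 2, 0, 1, 2, 5, 2, 0, 1, 2] : List (Fin 6)) =
      [5] ++ [2, 0, 1, 2] ++ ([5] ++ [2, 0, 1, 2]) ++ (([5] ++ [2, 0, 1, 2]) ++ ([5] ++ [2, 0, 1, 2])) from rfl]
    simp only [List.map_append, List.prod_append, sv, sa]
    exact g1
  · rw [show ([5, 2, 0, 2, 2, 0, 1, 2, 5, 2, 0, 2, 2, 0, 1, 2, 5, 2, 0, 2, 2, 0, 1, 2] : List (Fin 6)) =
      [5] ++ ([2, 0, 2] ++ [2, 0, 1, 2]) ++ ([5] ++ ([2, 0, 2] ++ [2, 0, 1, 2]) ++
        ([5] ++ ([2, 0, 2] ++ [2, 0, 1, 2]))) from rfl]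
    simp only [List.map_append, List.prod_append, sv, sa, ss]
    exact g2
  · rw [show ([5, 2, 0, 1, 2, 3, 2, 0, 1, 2, 3, 5, 2, 0, 1, 2, 3, 2, 0, 1, 2, 3, 5, 2, 0, 1, 2, 3, 2, 0, 1, 2, 3,
        5, 2, 0, 1, 2, 3, 2, 0, 1, 2, 3, 5, 2, 0, 1, 2, 3, 2, 0, 1, 2, 3, 5, 2, 0, 1, 2, 3, 2, 0, 1, 2, 3] :
        List (Fin 6)) =
      [5] ++ ([2, 0, 1, 2] ++ [3, 2, 0, 1, 2, 3]) ++ ([5] ++ ([2, 0, 1, 2] ++ [3, 2, 0, 1, 2, 3]) ++
        ([5] ++ ([2, 0, 1, 2] ++ [3, 2, 0, 1, 2, 3]))) ++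
      ([5] ++ ([2, 0, 1, 2] ++ [3, 2, 0, 1, 2, 3]) ++ ([5] ++ ([2, 0, 1, 2] ++ [3, 2, 0, 1, 2, 3]) ++
        ([5] ++ ([2, 0, 1, 2] ++ [3, 2, 0, 1, 2, 3])))) from rfl]
    simp only [List.map_append, List.prod_append, sv, sa, sb]
    exact g3
  · rw [show ([5, 2, 0, 1, 2, 3, 2, 1, 0, 2, 3, 5, 2, 0, 1, 2, 3, 2, 1, 0, 2, 3, 5, 2, 0, 1, 2, 3, 2, 1, 0, 2, 3,
        5, 2, 0, 1, 2, 3, 2, 1, 0, 2, 3, 5, 2, 0, 1, 2, 3, 2, 1, 0, 2, 3, 5, 2, 0, 1, 2, 3, 2, 1, 0, 2, 3] :
        List (Fin 6)) =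
      [5] ++ ([2, 0, 1, 2] ++ [3, 2, 1, 0, 2, 3]) ++ ([5] ++ ([2, 0, 1, 2] ++ [3, 2, 1, 0, 2, 3]) ++
        ([5] ++ ([2, 0, 1, 2] ++ [3, 2, 1, 0, 2, 3]))) ++
      ([5] ++ ([2, 0, 1, 2] ++ [3, 2, 1, 0, 2, 3]) ++ ([5] ++ ([2, 0, 1, 2] ++ [3, 2, 1, 0, 2, 3]) ++
        ([5] ++ ([2, 0, 1, 2] ++ [3, 2, 1, 0, 2, 3])))) from rfl]
    simp only [List.map_append, List.prod_append, sv, sa, sbi]
    exact g4
  · rw [show ([5, 2, 0, 1, 2, 5, 2, 1, 0, 2, 5, 2, 0, 1, 2, 5, 2, 1, 0, 2, 5, 2, 0, 1, 2, 5, 2, 1, 0, 2] :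
        List (Fin 6)) =
      [5] ++ [2, 0, 1, 2] ++ ([5] ++ [2, 1, 0, 2]) ++ ([5] ++ [2, 0, 1, 2] ++ ([5] ++ [2, 1, 0, 2]) ++
        ([5] ++ [2, 0, 1, 2] ++ ([5] ++ [2, 1, 0, 2]))) from rfl]
    simp only [List.map_append, List.prod_append, sv, sa, sai]
    exact g5
  · rw [show ([5, 2, 0, 1, 2, 3, 2, 0, 1, 2, 3, 5, 3, 2, 1, 0, 2, 3, 2, 1, 0, 2, 2, 0, 1, 2, 3, 2, 0, 1, 2, 3,
        2, 0, 1, 2, 3, 2, 0, 1, 2, 3, 5, 3, 2, 1, 0, 2, 3, 2, 1, 0, 2, 3, 2, 1, 0, 2, 3, 2, 1, 0, 2, 3] :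
        List (Fin 6)) =
      [5] ++ ([2, 0, 1, 2] ++ [3, 2, 0, 1, 2, 3] ++ ([5] ++ ([3, 2, 1, 0, 2, 3, 2, 1, 0, 2] ++
        ([2, 0, 1, 2] ++ [3, 2, 0, 1, 2, 3] ++ ([2, 0, 1, 2] ++ [3, 2, 0, 1, 2, 3] ++
        ([5] ++ ([3, 2, 1, 0, 2, 3, 2, 1, 0, 2] ++ ([3, 2, 1, 0, 2, 3, 2, 1, 0, 2] ++ [3])))))))) from rfl]
    simp only [List.map_append, List.prod_append, sv, sa, sb, sei, st]
    exact g6

end Eight

end Core

end CfsgLib.Recog.ThreeLocalSpSix
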