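import Cfsg.Agent.Lib.Recog.ThreeLocalSpSix.QSmall
import Cfsg.Agent.Lib.Recog.ThreeLocalSpSix.Short
import Cfsg.Agent.Lib.LocalEven.Generation

/-!
Owner: helper3. The centralizer of the quaternion group: its part of order prime to three is generated by the
centralizers of the operators, so it contains the second quaternion group or meets the centralizer of the short
vector outside the exchange.
-/

set_option autoImplicit false
set_option linter.all false
set_option maxRecDepth 100000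

namespace CfsgLib.Recog.ThreeLocalSpSix

open Subgroup CfsgLib.Recog.HeisSL
open scoped Pointwise

universe u

theorem short_ne : ((1, 0, 0) : Vec) ≠ 0 := by decide +kernel

theorem middle_ne : ((0, 1, 1) : Vec) ≠ 0 := by decide +kernel

theorem rF_short : rF (-(1, 0, 0)) = ((1, 0, 0) : Vec) := by decide +kernel

namespace Core

namespace Eight

variable {G : Type u} [Group G] {B : Core G} (E : B.Eight)

theorem commute_neg_j {g : G} {x : Vec} (h : Commute g (B.j (-x))) : Commute g (B.j x) := by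
  rw [B.j_neg] at h
  exact Commute.inv_right_iff.1 h

/-- The four lines of the plane of operators. -/
theorem ops_lines : ∀ c b : K, (c, b) ≠ 0 →
    (c, b, b) ∈ ([(1, 0, 0), -(1, 0, 0)] : List Vec) ∨ (c, b, b) ∈ ([(0, 1, 1), -(0, 1, 1)] : List Vec) ∨
      (c, b, b) ∈ ([(1, 1, 1), -(1, 1, 1)] : List Vec) ∨ (c, b, b) ∈ ([(2, 1, 1), -(2, 1, 1)] : List Vec) := by
  decide +kernel

theorem ops_line {e : G} (he : e ∈ B.ops) (he1 : e ≠ 1) {g : G} (hg : Commute g e) :
    Commute g (B.j (1, 0, 0)) ∨ Commute g (B.j (0, 1, 1)) ∨ Commute g B.a ∨ Commute g (B.j (2, 1, 1)) := by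
  obtain ⟨c, b, rfl⟩ := B.mem_ops.1 he
  have hcb : (c, b) ≠ 0 := fun h => he1 (by
    simp only [Prod.mk_eq_zero] at h
    rw [h.1, h.2]; exact B.j_zero)
  rw [← B.j_center]
  have key : ∀ x : Vec, (c, b, b) ∈ [x, -x] → Commute g (B.j x) := fun x hx => by
    simp only [List.mem_cons, List.not_mem_nil, or_false] at hx
    rcases hx with h | h <;> rw [h] at hg
    · exact hg
    · exact commute_neg_j hg
  exact (ops_lines c b hcb).imp (key _) (Or.imp (key _) (Or.imp (key _) (key _)))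

include E in
theorem pow_short [Finite G] {g : G} (hg : Commute g (B.j (1, 0, 0))) (hgt : Commute g B.tG) : g ^ 648 = 1 := by
  rcases E.cent_short with h | h
  · obtain ⟨v, hv⟩ := B.mem_J.1 (E.four_mem short_words (B.mem_D.2 hg) (h g hg))
    rw [show (648 : ℕ) = 4 * (3 * 54) from rfl, pow_mul, show g ^ 4 = g * g * (g * g) by
      rw [← pow_two, ← pow_two, ← pow_mul], ← hv, pow_mul, B.j_cube, one_pow]
  · obtain ⟨V⟩ := E.exists_gen_seven h
    rw [show (648 : ℕ) = 72 * 9 from rfl, pow_mul, V.order g hg hgt, one_pow]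

include E in
theorem pow_ops [Finite G] {e : G} (he : e ∈ B.ops) (he1 : e ≠ 1) {g : G} (hg : Commute g e)
    (hgt : Commute g B.tG) : g ^ 648 = 1 := by
  have hW : ∀ h : G, Commute h B.a → h ^ 648 = 1 := fun h hh => by
    obtain ⟨u, rfl⟩ := B.cent h hh
    rw [← map_pow, ← card_W, pow_card_eq_one', map_one]
  rcases ops_line he he1 hg with h | h | h | h
  · exact E.pow_short h hgt
  · obtain ⟨v, hv⟩ := B.mem_J.1 (E.four_mem middle_words (B.mem_D.2 h) (E.cent_middle h))
    rw [show (648 : ℕ) = 4 * (3 * 54) from rfl, pow_mul, show g ^ 4 = g * g * (g * g) by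
      rw [← pow_two, ← pow_two, ← pow_mul], ← hv, pow_mul, B.j_cube, one_pow]
  · exact hW g h
  · have h' := h.conj E.r
    rw [E.hr.1, show rF (2, 1, 1) = (1, 1, 1) from rfl, B.j_center] at h'
    have := hW _ h'
    rwa [conj_pow, conj_eq_one_iff] at this

include E in
/-- An element of the centralizer of the quaternion group lying in the normalizer of the abelian subgroup,
of order prime to three with its commutator with `a`. -/
theorem mem_t_of_normalizer [Finite G] {g : G} (hg : g ∈ B.CQ) (hgN : g ∈ normalizer (B.J : Set G))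
    (h8 : g ^ 8 = 1) (hc8 : (g * (B.a * g⁻¹ * B.a⁻¹)) ^ 8 = 1) : g ∈ zpowers B.tG := by
  refine B.CQ_cent_a_two hg ?_ h8
  have haJ : B.a ∈ B.J := B.j_center ▸ B.j_mem _
  have hJ : g * (B.a * g⁻¹ * B.a⁻¹) ∈ B.J := by
    rw [show g * (B.a * g⁻¹ * B.a⁻¹) = g * B.a * g⁻¹ * B.a⁻¹ by group]
    exact mul_mem (((mem_normalizer_iff.1 hgN) _).1 haJ) (inv_mem haJ)
  have h1 : g * (B.a * g⁻¹ * B.a⁻¹) = 1 := by
    have := congrArg (fun x => x ^ 3) hc8
    simp only [one_pow] at this
    calc g * (B.a * g⁻¹ * B.a⁻¹) = (g * (B.a * g⁻¹ * B.a⁻¹)) ^ (8 * 2) * ((g * (B.a * g⁻¹ * B.a⁻¹)) ^ 3) ^ 5 *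
          ((g * (B.a * g⁻¹ * B.a⁻¹)) ^ 30)⁻¹ := by
            rw [← pow_mul, ← pow_add, show 8 * 2 + 3 * 5 = 1 + 30 from rfl, pow_add, pow_one, mul_inv_cancel_right]
      _ = 1 := by
        rw [pow_mul, hc8, one_pow, B.cube_J hJ, one_pow, one_mul, one_mul,
          show 30 = 3 * 10 from rfl, pow_mul, B.cube_J hJ, one_pow, inv_one]
  show g * B.a = B.a * g
  calc g * B.a = g * (B.a * g⁻¹ * B.a⁻¹) * (B.a * g) := by group
    _ = _ := by rw [h1, one_mul]

set_option maxHeartbeats 1600000 in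
include E in
theorem cent_Q_structure [Finite G] :
    (∃ L : Subgroup G, L ≤ B.CQ ∧ (∀ g ∈ L, Commute g (B.j (1, 0, 0)) ∧ Commute g B.tG ∧ g ^ 8 = 1) ∧
      B.tG ∈ L ∧ (∀ g ∈ L, B.a * g * B.a⁻¹ ∈ L) ∧ ∃ g ∈ L, g ≠ 1 ∧ g ≠ B.tG) ∨
    (E.Q' ≤ B.CQ ∧ ∀ c ∈ B.CQ, ∃ n ∈ E.Q', Commute (n * c) B.a) := by
  classical
  have : Fact (Nat.Prime 3) := ⟨Nat.prime_three⟩
  set C := B.CQ with hC
  set Zt : Subgroup C := (zpowers B.tG).subgroupOf C with hZt
  have hZtn : Zt.Normal := ⟨fun n hn c => by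
    obtain ⟨k, hk⟩ := mem_zpowers_iff.1 (mem_subgroupOf.1 hn)
    have h := (Commute.zpow_right (B.CQ_commute_t c.2) k).eq
    rw [hk] at h
    rwa [show c * n * c⁻¹ = n from Subtype.ext (show (c : G) * n * (c : G)⁻¹ = n by rw [h, mul_inv_cancel_right])]⟩
  set mk := QuotientGroup.mk' Zt with hmk
  have hmks : Function.Surjective mk := QuotientGroup.mk'_surjective Zt
  have h3 : B.a ^ 3 = 1 := B.orderOf_a ▸ pow_orderOf_eq_one B.a
  set a' : C := ⟨B.a, B.a_mem_CQ⟩ with ha'
  have hmk1 : ∀ c : C, mk c = 1 → (c : G) = 1 ∨ (c : G) = B.tG := fun c h =>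
    B.mem_zpowers_t (mem_subgroupOf.1 ((QuotientGroup.eq_one_iff c).1 h))
  have ha3 : orderOf (mk a') = 3 := by
    refine orderOf_eq_prime (by rw [← map_pow, show a' ^ 3 = 1 from Subtype.ext h3, map_one]) fun h => ?_
    rcases hmk1 _ h with e | e
    · have := B.orderOf_a; rw [show B.a = 1 from e, orderOf_one] at this; norm_num at this
    · have e' := h3
      rw [show B.a = B.tG from e, pow_succ, pow_two, B.t_sq, one_mul] at e'
      exact B.t_ne_one e'
  have hself : centralizer (zpowers (mk a') : Set (C ⧸ Zt)) = zpowers (mk a') := by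
    refine le_antisymm ?_ fun g hg => mem_centralizer_iff.2 fun h hh => by
      obtain ⟨i, rfl⟩ := mem_zpowers_iff.1 hg
      obtain ⟨k, rfl⟩ := mem_zpowers_iff.1 hh
      exact (Commute.zpow_zpow (Commute.refl _) k i).eq
    intro g hg
    obtain ⟨c, rfl⟩ := hmks g
    have h := mem_centralizer_iff.1 hg _ (mem_zpowers (mk a'))
    have hk : mk (c * a' * c⁻¹ * a'⁻¹) = 1 := by
      rw [map_mul, map_mul, map_mul, map_inv, map_inv, ← h, mul_inv_cancel_right, mul_inv_cancel]
    have hca : Commute (c : G) B.a := by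
      rcases hmk1 _ hk with e | e <;> simp only [coe_mul, coe_inv, ha'] at e
      · exact mul_inv_eq_iff_eq_mul.1 (mul_inv_eq_one.1 e)
      · exfalso
        have e2 : (c : G) * B.a * (c : G)⁻¹ = B.tG * B.a := mul_inv_eq_iff_eq_mul.1 e
        have h' := congrArg (fun x => x ^ 3) e2
        simp only [conj_pow, h3, mul_one, mul_inv_cancel] at h'
        rw [(B.ops_commute_t B.a_mem_ops).symm.mul_pow, h3, mul_one, pow_succ, pow_two, B.t_sq, one_mul] at h'
        exact B.t_ne_one h'.symm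
    obtain ⟨k, hk' | hk'⟩ := B.CQ_cent_a c.2 hca <;> rw [B.j_const] at hk'
    · rw [show c = a' ^ k.val from Subtype.ext hk', map_pow]
      exact pow_mem (mem_zpowers _) _
    · rw [show c = a' ^ k.val * ⟨B.tG, B.t_mem_CQ⟩ from Subtype.ext hk', map_mul, map_pow,
        show mk ⟨B.tG, B.t_mem_CQ⟩ = 1 from (QuotientGroup.eq_one_iff _).2 (mem_zpowers B.tG), mul_one]
      exact pow_mem (mem_zpowers _) _
  have hcardC : Nat.card C = 2 * Nat.card (C ⧸ Zt) := by
    rw [card_eq_card_quotient_mul_card_subgroup Zt, mul_comm, hZt,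
      Nat.card_congr (subgroupOfEquivOfLe (zpowers_le.2 B.t_mem_CQ)).toEquiv, Nat.card_zpowers,
      orderOf_eq_prime (p := 2) (by rw [pow_two, B.t_sq]) B.t_ne_one]
  rcases PSpFourAmalgam.self_cent_cases (zpowers (mk a')) (by rw [Nat.card_zpowers, ha3]) hself with
    ⟨Nb, hNb, -, hcop, hidx, hmax⟩ | hbig
  swap
  · exfalso
    refine PSpFourAmalgam.false_of_operators B.card_ops B.ops_normalizer (X := C) ?_ ?_
    · rw [hcardC]
      rcases hbig with ⟨k, hk⟩ | hk <;> rw [hk]
      · exact Or.inl ⟨k + 1, by rw [pow_succ]; ring⟩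
      · exact Or.inr (Or.inr rfl)
    · intro y hy hy1 w hw hc
      exact orderOf_dvd_of_pow_eq_one (E.pow_ops hy hy1 hc.symm (B.CQ_commute_t hw))
  set N' := Nb.comap mk with hN'
  have hN'n : N'.Normal := hNb.comap mk
  have hker : mk.ker ≤ N' := fun c hc => by
    show mk c ∈ Nb
    rw [MonoidHom.mem_ker.1 hc]; exact one_mem _
  have hcard' : Nat.card N' = 2 * Nat.card Nb := by
    have h1 := card_mul_index N'
    have h2 := card_mul_index Nb
    rw [hN', index_comap_of_surjective _ hmks] at h1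
    rw [hcardC, ← h2, ← mul_assoc] at h1
    exact Nat.eq_of_mul_eq_mul_right (Nat.pos_of_ne_zero index_ne_zero_of_finite) h1
  have hcop' : (Nat.card N').Coprime 3 := by
    rw [hcard']; exact Nat.Coprime.mul_left (by norm_num) hcop
  set N1 := N'.map C.subtype with hN1
  have hN1C : N1 ≤ C := map_subtype_le _
  have hops : B.ops ≤ normalizer (N1 : Set G) := fun e he =>
    PSpFourAmalgam.mem_normalizer_of_max N' hN'n hcop' (fun K hK hKc => by
      intro k hk
      exact hmax (K.map mk) (Normal.map hK _ hmks) (hKc.coprime_dvd_left (card_map_dvd _ _)) (mem_map_of_mem _ hk))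
      (B.ops_normalizer he)
  have hopsconj : ∀ e ∈ B.ops, ∀ g ∈ N1, e * g * e⁻¹ ∈ N1 := fun e he g hg =>
    ((mem_normalizer_iff.1 (hops he)) g).1 hg
  have htN : B.tG ∈ N1 := ⟨⟨B.tG, B.t_mem_CQ⟩, hker ((QuotientGroup.eq_one_iff _).2 (mem_zpowers _)), rfl⟩
  have hcop1 : (Nat.card N1).Coprime 3 := by rwa [hN1, card_map_of_injective C.subtype_injective]
  have h8 : ∀ g ∈ N1, ∀ e ∈ B.ops, e ≠ 1 → Commute g e → g ^ 8 = 1 := by
    intro g hg e he he1 hge
    refine orderOf_dvd_iff_pow_eq_one.1 ?_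
    have h1 : orderOf g ∣ 648 := orderOf_dvd_of_pow_eq_one (E.pow_ops he he1 hge (B.CQ_commute_t (hN1C hg)))
    have h2 : (orderOf g).Coprime 81 := by
      have := hcop1.coprime_dvd_left (N1.orderOf_dvd_natCard hg)
      exact this.pow_right 4
    exact h2.dvd_of_dvd_mul_right (show orderOf g ∣ 8 * 81 from h1)
  have hy : B.j (1, 0, 0) ∈ B.ops := B.mem_ops.2 ⟨1, 0, rfl⟩
  have hy1 : B.j (1, 0, 0) ≠ 1 := fun h => short_ne (B.j_eq_one h)
  by_cases hsec : ∃ g ∈ N1, Commute g (B.j (1, 0, 0)) ∧ g ≠ 1 ∧ g ≠ B.tG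
  · left
    obtain ⟨g, hg, hgy, hg1, hgt⟩ := hsec
    refine ⟨N1 ⊓ centralizer ({B.j (1, 0, 0)} : Set G), inf_le_left.trans hN1C, ?_, ⟨htN,
      mem_centralizer_singleton_iff.2 (B.ops_commute_t hy).eq.symm⟩, ?_,
      g, ⟨hg, mem_centralizer_singleton_iff.2 hgy⟩, hg1, hgt⟩
    · rintro x ⟨hx, hxy⟩
      exact ⟨mem_centralizer_singleton_iff.1 hxy, B.CQ_commute_t (hN1C hx),
        h8 x hx _ hy hy1 (mem_centralizer_singleton_iff.1 hxy)⟩
    · rintro x ⟨hx, hxy⟩
      refine ⟨hopsconj _ B.a_mem_ops x hx, mem_centralizer_singleton_iff.2 ?_⟩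
      have h := (show Commute x (B.j (1, 0, 0)) from mem_centralizer_singleton_iff.1 hxy).conj B.a
      rwa [show B.a * B.j (1, 0, 0) * B.a⁻¹ = B.j (1, 0, 0) by
        rw [← B.j_center, B.j_comm, mul_inv_cancel_right]] at h
  right
  push Not at hsec
  have htle : ∀ g, g = 1 ∨ g = B.tG → g ∈ E.Q' := fun g hg => by
    rcases hg with rfl | rfl
    exacts [one_mem _, E.t_mem_Q']
  have hNQ : N1 ≤ E.Q' := by
    have : Fact (Nat.Prime 3) := ⟨Nat.prime_three⟩
    refine CfsgLib.LocalEven.le_of_centralizers_le (A := B.ops) (p := 3) (fun e he => B.ops_cube he)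
      (by rw [B.card_ops]; norm_num) hops ((Nat.Prime.coprime_iff_not_dvd Nat.prime_three).1 hcop1.symm) ?_
    rintro e he he1 g ⟨hg, hge⟩
    have hge' : Commute g e := mem_centralizer_singleton_iff.1 hge
    have hg8 := h8 g hg e he he1 hge'
    rcases ops_line he he1 hge' with h | h | h | h
    · exact htle g (or_iff_not_imp_left.2 fun hn => hsec g hg h hn)
    · refine htle g (B.mem_zpowers_t (E.mem_t_of_normalizer (hN1C hg) (E.cent_middle h) hg8 (h8 _ ?_ _
        (B.mem_ops.2 ⟨0, 1, rfl⟩) (fun h => middle_ne (B.j_eq_one h)) ?_)))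
      · exact mul_mem hg (hopsconj _ B.a_mem_ops _ (inv_mem hg))
      · refine h.mul_left ((Commute.mul_left ?_ h.inv_left).mul_left ?_)
        · rw [← B.j_center]; exact B.commute_j _ _
        · rw [← B.j_center]; exact (B.commute_j _ _).inv_left
    · exact htle g (B.mem_zpowers_t (B.CQ_cent_a_two (hN1C hg) h hg8))
    · refine E.mem_Q'.2 ?_
      have h' := h.conj E.r
      rw [E.hr.1, show rF (2, 1, 1) = (1, 1, 1) from rfl, B.j_center, E.rinv] at h'
      obtain ⟨u, hu⟩ := B.cent _ h'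
      have hut : Commute (B.θ u) B.tG := by
        rw [hu]
        exact (E.r_commute_t.mul_left (B.CQ_commute_t (hN1C hg))).mul_left E.r_commute_t
      have hu8 : u ^ 8 = 1 := B.inj (by
        rw [map_pow, hu, map_one]
        conv_lhs => rw [show E.r * g * E.r = E.r * g * E.r⁻¹ by rw [E.rinv]]
        rw [conj_pow, hg8, mul_one, mul_inv_cancel])
      refine B.mem_quat.2 ⟨u, cent_t_two u (B.inj (by rw [map_mul, map_mul]; exact hut.eq)) ?_, hu⟩
      rwa [show (8 : ℕ) = 2 * 2 * 2 from rfl, pow_mul, pow_mul, pow_two, pow_two, pow_two] at hu8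
  let f : C →* (C ⧸ Zt) ⧸ Nb := (QuotientGroup.mk' Nb).comp mk
  have hfk : ∀ c : C, f c = 1 ↔ c ∈ N' := fun c => QuotientGroup.eq_one_iff (mk c)
  have hdecomp : ∀ c ∈ C, ∃ n ∈ N1, (n * c) * B.a * (n * c)⁻¹ ∈ zpowers B.a := by
    intro c hc
    have hQt : Nat.card ((C ⧸ Zt) ⧸ Nb) ≤ 6 := by rw [← index_eq_card]; exact hidx
    have hfa : orderOf (f a') = 3 := by
      refine orderOf_eq_prime (by rw [← map_pow, show a' ^ 3 = 1 from Subtype.ext h3, map_one]) fun h => ?_
      have hd := orderOf_dvd_natCard (⟨a', (hfk a').1 h⟩ : N')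
      rw [Subgroup.orderOf_mk, ← Subgroup.orderOf_coe, show ((a' : C) : G) = B.a from rfl, B.orderOf_a] at hd
      exact absurd (Nat.eq_one_of_dvd_coprimes hcop' hd dvd_rfl) (by norm_num)
    set Z := zpowers (f a') with hZ
    have hi : Z.index ≤ 2 := by
      have := card_mul_index Z
      rw [hZ, Nat.card_zpowers, hfa] at this
      rw [hZ]; omega
    set x : C := ⟨c, hc⟩ * a' * ⟨c, hc⟩⁻¹ with hx
    have hx3 : x ^ 3 = 1 := by
      rw [hx, conj_pow, show a' ^ 3 = 1 from Subtype.ext h3, mul_one, mul_inv_cancel]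
    have hfx : f x ∈ Z := by
      have hs : f x ^ 2 ∈ Z := by
        have h0 : Z.index ≠ 0 := index_ne_zero_of_finite
        rcases (by omega : Z.index = 1 ∨ Z.index = 2) with hh | hh
        · rw [index_eq_one.1 hh]; trivial
        · exact sq_mem_of_index_two hh _
      have := pow_mem hs 2
      rwa [← pow_mul, show 2 * 2 = 3 + 1 from rfl, pow_succ, ← map_pow, hx3, map_one, one_mul] at this
    set K := Z.comap f with hK
    have haK : a' ∈ K := mem_zpowers _
    have hxK : x ∈ K := hfx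
    have hKi : ¬ 3 ∣ (zpowers (⟨a', haK⟩ : K)).index := by
      intro hd
      have h1 := card_mul_index (zpowers (⟨a', haK⟩ : K))
      rw [Nat.card_zpowers, Subgroup.orderOf_mk, ← Subgroup.orderOf_coe, show ((a' : C) : G) = B.a from rfl,
        B.orderOf_a] at h1
      have h2 : Nat.card K = 3 * Nat.card N' := by
        have e1 := card_mul_index K
        have e2 := card_mul_index N'
        have e3 := card_mul_index Z
        rw [hK, index_comap_of_surjective _ (show Function.Surjective f from (QuotientGroup.mk'_surjective Nb).comp hmks)] at e1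
        rw [hN', index_comap_of_surjective _ hmks] at e2
        rw [hZ, Nat.card_zpowers, hfa] at e3
        rw [hZ] at e1
        rw [← hN'] at e2
        refine Nat.eq_of_mul_eq_mul_right (Nat.pos_of_ne_zero (index_ne_zero_of_finite (H := zpowers (f a')))) ?_
        rw [e1, ← e2, index_eq_card Nb, ← e3]
        ring
      rw [h2] at h1
      have h4 : (zpowers (⟨a', haK⟩ : K)).index = Nat.card N' := by omega
      rw [h4] at hd
      exact absurd (Nat.eq_one_of_dvd_coprimes hcop' hd dvd_rfl) (by norm_num)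
    have hpa : IsPGroup 3 (zpowers (⟨a', haK⟩ : K)) := IsPGroup.of_card (n := 1) (by
      rw [Nat.card_zpowers, Subgroup.orderOf_mk, ← Subgroup.orderOf_coe, show ((a' : C) : G) = B.a from rfl,
        B.orderOf_a, pow_one])
    have hpx : IsPGroup 3 (zpowers (⟨x, hxK⟩ : K)) := by
      rintro ⟨z, hz⟩
      obtain ⟨i, rfl⟩ := mem_zpowers_iff.1 hz
      refine ⟨1, Subtype.ext ?_⟩
      show ((⟨x, hxK⟩ : K) ^ i) ^ (3 ^ 1) = 1
      rw [pow_one, ← zpow_natCast, ← zpow_mul, mul_comm, zpow_mul, zpow_natCast,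
        show (⟨x, hxK⟩ : K) ^ 3 = 1 from Subtype.ext (by push_cast; exact hx3), one_zpow]
    obtain ⟨P, hP⟩ := hpx.exists_le_sylow
    obtain ⟨k, hk⟩ := MulAction.exists_smul_eq K P (hpa.toSylow hKi)
    have hkx : k * (⟨x, hxK⟩ : K) * k⁻¹ ∈ zpowers (⟨a', haK⟩ : K) := by
      have := Subgroup.smul_mem_pointwise_smul _ (MulAut.conj k) _ (hP (mem_zpowers _))
      rw [show MulAut.conj k • (P : Subgroup K) = zpowers (⟨a', haK⟩ : K) by
        rw [← IsPGroup.toSylow_coe hpa hKi, ← hk]; rfl] at this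
      exact this
    obtain ⟨i, hi⟩ := mem_zpowers_iff.1 (show f (k : C) ∈ Z from k.2)
    have hn : a' ^ (-i) * (k : C) ∈ N' := (hfk _).1 (by rw [map_mul, map_zpow, zpow_neg, hi, inv_mul_cancel])
    refine ⟨_, mem_map_of_mem C.subtype hn, ?_⟩
    obtain ⟨m, hm⟩ := mem_zpowers_iff.1 hkx
    refine mem_zpowers_iff.2 ⟨m, ?_⟩
    have hm' : B.a ^ m = (k : C) * (c * B.a * c⁻¹) * ((k : C) : G)⁻¹ := by
      have := congrArg (fun z : K => ((z : C) : G)) hm
      simpa [hx, ha'] using this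
    have : B.a ^ m = B.a ^ (-i) * B.a ^ m * B.a ^ i := by group
    rw [this, hm']
    simp only [coe_subtype, coe_mul, SubgroupClass.coe_zpow, ha']
    group
  have hbig' : ∃ g ∈ N1, g ≠ 1 ∧ g ≠ B.tG := by
    by_contra hnone
    push Not at hnone
    refine E.card_CQ_not_small fun c hc => ?_
    obtain ⟨n, hn, hnc⟩ := hdecomp c hc
    have hna : Commute n B.a := by
      by_cases h1 : n = 1
      · rw [h1]; exact Commute.one_left _
      · rw [hnone n hn h1]; exact (B.ops_commute_t B.a_mem_ops).symm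
    obtain ⟨m, hm⟩ := mem_zpowers_iff.1 hnc
    refine mem_zpowers_iff.2 ⟨m, ?_⟩
    have h := (hna.inv_left.zpow_right m).eq
    calc B.a ^ m = n⁻¹ * B.a ^ m * n := by rw [h, inv_mul_cancel_right]
      _ = c * B.a * c⁻¹ := by rw [hm]; group
  obtain ⟨g, hgN, hg1, hgt⟩ := hbig'
  have hQN : E.Q' ≤ N1 := by
    intro x hx
    obtain ⟨u, hu, hux⟩ := B.mem_quat.1 (E.mem_Q'.1 hx)
    obtain ⟨p, hp, hpg⟩ := B.mem_quat.1 (E.mem_Q'.1 (hNQ hgN))
    have hspan := List.all_eq_true.1 qList_span p hp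
    have hp1 : p ≠ 1 := fun h => hg1 (by
      rw [h, map_one] at hpg
      calc g = E.r * (E.r * g * E.r) * E.r := by
            rw [show E.r * (E.r * g * E.r) * E.r = E.r * E.r * g * (E.r * E.r) by group, E.hr2, one_mul, mul_one]
        _ = 1 := by rw [← hpg, mul_one, E.hr2])
    have hpt : p ≠ tW := fun h => hgt (by
      rw [h] at hpg
      calc g = E.r * (E.r * g * E.r) * E.r := by
            rw [show E.r * (E.r * g * E.r) * E.r = E.r * E.r * g * (E.r * E.r) by group, E.hr2, one_mul, mul_one]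
        _ = B.tG := by rw [← hpg, ← E.rinv, ← tG]; nth_rw 1 [E.rinv]; exact E.r_conj_t)
    simp only [Bool.or_eq_true, beq_iff_eq, hp1, hpt, false_or] at hspan
    have hu' := List.contains_iff_mem.1 (List.all_eq_true.1 hspan u hu)
    set M := N1.map (MulAut.conj E.r).toMonoidHom with hM
    have hMc : ∀ z, z ∈ N1 → E.r * z * E.r ∈ M := fun z hz =>
      ⟨z, hz, by simp [E.rinv]⟩
    have hpM : B.θ p ∈ M := hpg ▸ hMc g hgN
    have htM : B.θ tW ∈ M := ⟨B.tG, htN, E.r_conj_t⟩
    have hyM : B.θ (yW * p * yW⁻¹) ∈ M := by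
      have := hMc _ (hopsconj _ (inv_mem hy) g hgN)
      rw [map_mul, map_mul, map_inv, hpg]
      have e1 : E.r * (B.j (1, 0, 0))⁻¹ * E.r = B.θ yW := by
        show _ = B.j (1, 0, 0)
        rw [← B.j_neg]
        nth_rw 2 [← E.rinv]
        rw [E.hr.1, rF_short]
      rw [show E.r * ((B.j (1, 0, 0))⁻¹ * g * (B.j (1, 0, 0))⁻¹⁻¹) * E.r =
        E.r * (B.j (1, 0, 0))⁻¹ * (E.r * E.r) * g * (E.r * E.r) * (B.j (1, 0, 0))⁻¹⁻¹ * E.r by
          rw [E.hr2, mul_one, mul_one]; group] at this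
      rw [← e1]
      convert this using 1
      simp only [_root_.mul_inv_rev, E.rinv, mul_assoc]
    have key : B.θ u ∈ M := by
      have h1 : B.θ 1 ∈ M := by rw [map_one]; exact one_mem _
      simp only [List.mem_cons, List.not_mem_nil, or_false] at hu'
      rcases hu' with rfl | rfl | rfl | rfl | rfl | rfl | rfl | rfl
      exacts [h1, htM, hpM, map_mul B.θ _ _ ▸ mul_mem hpM htM, hyM, map_mul B.θ _ _ ▸ mul_mem hyM htM,
        map_mul B.θ _ _ ▸ mul_mem hpM hyM,
        map_mul B.θ _ _ ▸ mul_mem (map_mul B.θ _ _ ▸ mul_mem hpM hyM) htM]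
    rw [hux] at key
    obtain ⟨z, hz, hzx⟩ := key
    rwa [show x = z from ?_]
    simp only [MulEquiv.coe_toMonoidHom, MulAut.conj_apply, E.rinv] at hzx
    exact (mul_left_cancel (mul_right_cancel hzx)).symm
  refine ⟨hQN.trans hN1C, fun c hc => ?_⟩
  obtain ⟨n, hn, hnc⟩ := hdecomp c hc
  refine ⟨n, hNQ hn, ?_⟩
  have hncC : n * c ∈ B.CQ := mul_mem (hN1C hn) hc
  obtain ⟨m, hm, e⟩ := (mem_zpowers_iff_mem_range_orderOf.trans Finset.mem_image).1 hnc
  rw [Finset.mem_range, B.orderOf_a] at hm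
  interval_cases m
  · rw [pow_zero] at e
    have h1 := B.orderOf_a
    rw [conj_eq_one_iff.1 e.symm, orderOf_one] at h1
    norm_num at h1
  · exact mul_inv_eq_iff_eq_mul.1 (e.symm.trans (pow_one _))
  · exact absurd (e.symm.trans (eq_inv_of_mul_eq_one_left (by rw [← pow_succ]; exact h3)))
      (E.not_invert hncC)

end Eight

end Core

end CfsgLib.Recog.ThreeLocalSpSix
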