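import Cfsg.Agent.Lib.Recog.ThreeLocalSpSix.CentQ

/-!
Owner: helper3. The first reflection is conjugate neither to the exchange nor to a product of two reflections.
-/

set_option autoImplicit false
set_option linter.all false
set_option maxRecDepth 100000

namespace CfsgLib.Recog.ThreeLocalSpSix

open Subgroup CfsgLib.Recog.HeisSL
open scoped Pointwise

universe u

theorem stab_pair : (eight.all fun e => perms.all fun π =>
    !(e * π (0, 1, 1) == (0, 1, 1) && e * π (0, 1, 2) == (0, 1, 2)) ||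
      ([(1, 0, 0), (0, 1, 0), (0, 0, 1)] : List Vec).all fun u => e * π (e * π u) == u) = true := by decide +kernel

theorem stab_refl : (eight.all fun e => perms.all fun π =>
    !(([(1, 0, 0), (0, 1, 0), (0, 0, 1)] : List Vec).all fun u => e * π (rF u) == rF (e * π u)) ||
      ([(1, 0, 0), (0, 1, 0), (0, 0, 1)] : List Vec).all fun u => e * π (e * π (e * π (e * π u))) == u) = true := by
  decide +kernel

theorem rF_fix : ∀ u : Vec, rF u = u → u.1 = 0 := by decide +kernel

theorem refl23_fix : ∀ u : Vec, (repWord ([2, 0, 2] ++ [3, 2, 0, 2, 3])).2 u = u →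
    u = 0 ∨ u = (1, 0, 0) ∨ u = (2, 0, 0) := by decide +kernel

theorem third_ne : ((0, 0, 1) : Vec) ≠ 0 := by decide +kernel

theorem mid_two : ((0, 1, 2) : Vec) ≠ 0 ∧ ((0, 1, 2) : Vec) ≠ (0, 1, 1) ∧ ((0, 1, 2) : Vec) ≠ -(0, 1, 1) := by
  decide +kernel

theorem two_neg : ((2, 0, 0) : Vec) = -(1, 0, 0) := by decide +kernel

theorem word_third : (repWord [3, 2]).2 (1, 0, 0) = (0, 0, 1) := by decide +kernel

theorem c_fix_third : (rF ∘ (repWord [2, 0, 2]).2) (0, 0, 1) = (0, 0, 1) := by decide +kernel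

theorem eight_first : ∀ x ∈ eight, x.1 ≠ 0 := by decide +kernel

namespace Core

variable {G : Type u} [Group G] (B : Core G)

/-- The plane fixed by the first reflection. -/
def planeHom : Multiplicative (K × K) →* G where
  toFun e := B.j (0, e.toAdd.1, e.toAdd.2)
  map_one' := B.j_zero
  map_mul' e e' := B.j_add (0, e.toAdd.1, e.toAdd.2) (0, e'.toAdd.1, e'.toAdd.2)

theorem card_plane : Nat.card B.planeHom.range = 9 := by
  have h : Function.Injective B.planeHom := fun e e' he => by
    have h := B.j_inj he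
    simp only [Prod.mk.injEq] at h
    exact Prod.ext h.2.1 h.2.2
  rw [← Nat.card_congr (MonoidHom.ofInjective h).toEquiv, Nat.card_eq_fintype_card]
  rfl

theorem id_of_frame {n : G} {f : Vec → Vec} (h : B.Acts n f)
    (hf : ∀ u ∈ ([(1, 0, 0), (0, 1, 0), (0, 0, 1)] : List Vec), f u = u) : ∀ x, f x = x := fun x => by
  have e1 := h.eq_lin x
  have e2 := (Acts.one (B := B)).eq_lin x
  rw [hf (1, 0, 0) (by simp), hf (0, 1, 0) (by simp), hf (0, 0, 1) (by simp)] at e1
  exact e1.trans e2.symm

theorem pow_mem_zpowers_of_conj [Finite G] {x e : G} (he : orderOf e = 3) (hx : x ^ 9 = 1)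
    (h : x * e * x⁻¹ ∈ zpowers e) : Commute x e := by
  classical
  obtain ⟨n, hn, hxe⟩ := (mem_zpowers_iff_mem_range_orderOf.trans Finset.mem_image).1 h
  rw [Finset.mem_range, he] at hn
  have h2 : x * x * e * (x * x)⁻¹ = e := by
    rw [show x * x * e * (x * x)⁻¹ = x * (x * e * x⁻¹) * x⁻¹ by group, ← hxe, ← conj_pow, ← hxe, ← pow_mul]
    interval_cases n
    · rw [pow_zero] at hxe
      have := orderOf_one (G := G)
      rw [conj_eq_one_iff.1 hxe.symm] at he
      rw [he] at this
      norm_num at this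
    · rw [mul_one, pow_one]
    · rw [show 2 * 2 = 3 + 1 from rfl, pow_succ, ← he, pow_orderOf_eq_one, one_mul]
  have h3 : Commute (x * x) e := mul_inv_eq_iff_eq_mul.1 h2
  have h4 := h3.pow_left 5
  rwa [← pow_two, ← pow_mul, show 2 * 5 = 9 + 1 from rfl, pow_succ, hx, one_mul] at h4

namespace Eight

variable {B} (E : B.Eight)

theorem plane_le_cent_r : B.planeHom.range ≤ centralizer ({E.r} : Set G) := by
  rintro _ ⟨e, rfl⟩
  refine mem_centralizer_singleton_iff.2 ?_
  have h := E.hr.1 (0, e.toAdd.1, e.toAdd.2)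
  rw [show rF (0, e.toAdd.1, e.toAdd.2) = (0, e.toAdd.1, e.toAdd.2) by simp [rF]] at h
  exact (mul_inv_eq_iff_eq_mul.1 h).symm

include E in
theorem plane_sylow [Finite G] : ¬ 3 ∣ B.planeHom.range.relIndex (centralizer ({E.r} : Set G)) := by
  refine PSpFourAmalgam.not_dvd_relIndex E.plane_le_cent_r (n := 2) (by rw [B.card_plane]; norm_num)
    fun Kg hK hKN hd => ?_
  have : Fact (Nat.Prime 3) := ⟨Nat.prime_three⟩
  obtain ⟨P, hP⟩ := Sylow.exists_subgroup_card_pow_prime 3 hd
  have hle : P.map Kg.subtype ≤ B.planeHom.range := by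
    rintro _ ⟨g, hg, rfl⟩
    have h27 : (g : G) ^ 27 = 1 := by
      have := pow_card_eq_one' (G := P) (x := ⟨g, hg⟩)
      rw [hP] at this
      simpa using congrArg (fun y : P => ((y : Kg) : G)) this
    have hgr : Commute (g : G) E.r := mem_centralizer_singleton_iff.1 (hK g.2)
    have hgi := (mem_normalizer_iff''.1 (hKN g.2))
    have hmov : ∀ b c : K, ∃ b' c' : K, (g : G)⁻¹ * B.j (0, b, c) * g = B.j (0, b', c') := fun b c => by
      obtain ⟨e, he⟩ := (hgi _).1 (⟨Multiplicative.ofAdd (b, c), rfl⟩ : B.j (0, b, c) ∈ B.planeHom.range)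
      exact ⟨e.toAdd.1, e.toAdd.2, he.symm⟩
    have hgN : (g : G) ∈ normalizer (B.J : Set G) := by
      refine mem_normalizer_of_conj fun y hy => ?_
      have hc : ∀ b c : K, Commute ((g : G) * y * (g : G)⁻¹) (B.j (0, b, c)) := by
        intro b c
        obtain ⟨b', c', e⟩ := hmov b c
        have h := (show Commute y ((g : G)⁻¹ * B.j (0, b, c) * g) from e ▸ B.comm_J hy (B.j_mem _)).conj (g : G)
        rwa [show (g : G) * ((g : G)⁻¹ * B.j (0, b, c) * g) * (g : G)⁻¹ = B.j (0, b, c) by group] at h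
      have hN := cent_two E.hF (x := (0, 1, 1)) (x' := (0, 1, 2)) (by simp) mid_two.1 mid_two.2.1 mid_two.2.2
        (hc 1 1) (hc 1 2)
      obtain ⟨f, hf⟩ := B.exists_acts hN
      obtain ⟨e, he, π, hπ, key⟩ := hf.monomial E.hF
      have hfix : ∀ b c : K, f (0, b, c) = (0, b, c) := fun b c =>
        B.j_inj (by rw [← hf, (hc b c).eq, mul_inv_cancel_right])
      have h := List.all_eq_true.1 (List.all_eq_true.1 stab_pair e he) π hπ
      rw [← key, ← key, hfix, hfix] at h
      simp only [beq_self_eq_true, Bool.and_self, Bool.not_true, Bool.false_or, List.all_eq_true, beq_iff_eq] at h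
      have hsq : (g : G) * y * (g : G)⁻¹ * ((g : G) * y * (g : G)⁻¹) ∈ B.J :=
        (hf.mul hf).mem_J (B.id_of_frame (hf.mul hf) fun u hu => by
          rw [Function.comp_apply, key, key, h u hu])
      rw [conj_mul] at hsq
      have := mul_mem hsq hsq
      rwa [conj_mul, show y * y * (y * y) = y by
        rw [← pow_two, ← pow_two, ← pow_mul, show 2 * 2 = 3 + 1 from rfl, pow_succ, B.cube_J hy, one_mul]] at this
    obtain ⟨f, hf⟩ := B.exists_acts hgN
    obtain ⟨e, he, π, hπ, key⟩ := hf.monomial E.hF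
    have hcomm : ∀ u, f (rF u) = rF (f u) := fun u => by
      have h1 := (hf.mul E.hr.1) u
      have h2 := (E.hr.1.mul hf) u
      rw [hgr.eq] at h1
      exact B.j_inj (h1.symm.trans h2)
    have h := List.all_eq_true.1 (List.all_eq_true.1 stab_refl e he) π hπ
    simp only [← key, hcomm, beq_self_eq_true, List.all_cons, List.all_nil, Bool.and_self, Bool.not_true,
      Bool.false_or] at h
    simp only [Bool.and_eq_true, beq_iff_eq] at h
    have hA := (hf.mul hf).mul (hf.mul hf)
    have h4 : (g : G) * g * ((g : G) * g) ∈ B.J := hA.mem_J (B.id_of_frame hA fun u hu => by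
      simp only [List.mem_cons, List.not_mem_nil, or_false] at hu
      rcases hu with rfl | rfl | rfl
      exacts [h.1, h.2.1, h.2.2.1])
    have hgJ : (g : G) ∈ B.J := by
      have := B.J.pow_mem h4 7
      rwa [← pow_two, ← pow_two, ← pow_mul, ← pow_mul, show 2 * (2 * 7) = 27 + 1 from rfl, pow_succ, h27,
        one_mul] at this
    obtain ⟨u, hu⟩ := B.mem_J.1 hgJ
    have hu1 : u.1 = 0 := rF_fix u (B.j_inj (by
      rw [← E.hr.1, hu, hgr.symm.eq, mul_inv_cancel_right]))
    refine ⟨Multiplicative.ofAdd (u.2.1, u.2.2), ?_⟩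
    show B.j (0, u.2.1, u.2.2) = _
    rw [show ((0, u.2.1, u.2.2) : Vec) = u from Prod.ext hu1.symm rfl]
    exact hu
  have h2 := card_dvd_of_le hle
  rw [card_map_of_injective Kg.subtype_injective, hP, B.card_plane] at h2
  norm_num at h2

include E in
/-- No conjugate of `a` centralizes the first reflection. -/
theorem not_commute_r [Finite G] {g : G} : ¬ Commute (g * B.a * g⁻¹) E.r := by
  intro h
  have : Fact (Nat.Prime 3) := ⟨Nat.prime_three⟩
  set H := centralizer ({E.r} : Set G)
  set x : H := ⟨g * B.a * g⁻¹, mem_centralizer_singleton_iff.2 h.eq⟩ with hx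
  have hp : IsPGroup 3 (zpowers x) := by
    rintro ⟨z, hz⟩
    obtain ⟨i, rfl⟩ := mem_zpowers_iff.1 hz
    refine ⟨1, Subtype.ext ?_⟩
    show (x ^ i) ^ (3 ^ 1) = 1
    rw [pow_one, ← zpow_natCast, ← zpow_mul, mul_comm, zpow_mul, zpow_natCast,
      show x ^ 3 = 1 from Subtype.ext (by
        rw [SubgroupClass.coe_pow, conj_pow, ← B.orderOf_a, pow_orderOf_eq_one]; simp), one_zpow]
  obtain ⟨P, hP⟩ := hp.exists_le_sylow
  have hpp : IsPGroup 3 (B.planeHom.range.subgroupOf H) :=
    IsPGroup.of_equiv (IsPGroup.of_card (n := 2) (by rw [B.card_plane]; norm_num))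
      (subgroupOfEquivOfLe E.plane_le_cent_r).symm
  obtain ⟨k, hk⟩ := MulAction.exists_smul_eq H P (hpp.toSylow E.plane_sylow)
  have hkx : MulAut.conj k x ∈ B.planeHom.range.subgroupOf H := by
    have := Subgroup.smul_mem_pointwise_smul _ (MulAut.conj k) _ (hP (mem_zpowers x))
    rw [show MulAut.conj k • (P : Subgroup H) = B.planeHom.range.subgroupOf H by
      rw [← IsPGroup.toSylow_coe hpp E.plane_sylow, ← hk]; rfl] at this
    exact this
  obtain ⟨e, he⟩ := hkx
  refine eight_first _ (E.hF.sub (0, e.toAdd.1, e.toAdd.2) ⟨(k : G) * g, ?_⟩) rfl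
  refine Eq.trans ?_ he.symm
  show _ = (k : G) * (g * B.a * g⁻¹) * (k : G)⁻¹
  group

include E in
theorem r_not_conj_t [Finite G] (g : G) : g * E.r * g⁻¹ ≠ B.θ tW := by
  intro h
  have hat : Commute B.a (B.θ tW) := (B.commute_a tW).symm
  have hc := hat.conj g⁻¹
  rw [← h, show g⁻¹ * (g * E.r * g⁻¹) * g⁻¹⁻¹ = E.r by group] at hc
  exact E.not_commute_r hc

include E in
theorem third_sylow [Finite G] :
    ¬ 3 ∣ (zpowers (B.j (0, 0, 1))).relIndex (centralizer ({E.r * E.refl2} : Set G)) := by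
  classical
  have he3 : orderOf (B.j (0, 0, 1)) = 3 := B.orderOf_j third_ne
  have hfix : Commute (B.j (0, 0, 1)) (E.r * E.refl2) := by
    have hA : B.Acts (E.r * E.refl2) (rF ∘ (repWord [2, 0, 2]).2) := E.hr.1.mul (E.word_acts_rep [2, 0, 2])
    have h := hA (0, 0, 1)
    exact (mul_inv_eq_iff_eq_mul.1 (h.trans (congrArg B.j (by decide +kernel)))).symm
  refine PSpFourAmalgam.not_dvd_relIndex (zpowers_le.2 (mem_centralizer_singleton_iff.2 hfix.eq)) (n := 1)
    (by rw [Nat.card_zpowers, he3]; norm_num) fun Kg hK hKN hd => ?_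
  have : Fact (Nat.Prime 3) := ⟨Nat.prime_three⟩
  obtain ⟨P, hP⟩ := Sylow.exists_subgroup_card_pow_prime 3 hd
  set h0 := (([3, 2] : List (Fin 4)).map E.gen4).prod with hh0
  have hh0y : h0 * B.j (1, 0, 0) * h0⁻¹ = B.j (0, 0, 1) :=
    (E.word_acts_rep [3, 2] (1, 0, 0)).trans (congrArg B.j word_third)
  have hh0c : h0 * (E.refl2 * E.refl3) * h0⁻¹ = E.r * E.refl2 := by
    have h0i : h0⁻¹ = (([2, 3] : List (Fin 4)).map E.gen4).prod := inv_eq_of_mul_eq_one_right (by
      rw [hh0, ← List.prod_append, ← List.map_append]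
      exact (E.word_congr _ [] (by decide +kernel)).trans rfl)
    rw [h0i, hh0, refl2, refl3, show E.r = (([0] : List (Fin 4)).map E.gen4).prod from List.prod_singleton.symm]
    simp only [← List.prod_append, ← List.map_append]
    exact E.word_congr _ _ (by decide +kernel)
  have hle : P.map Kg.subtype ≤ zpowers (B.j (0, 0, 1)) := by
    rintro _ ⟨g, hg, rfl⟩
    have h9 : (g : G) ^ 9 = 1 := by
      have := pow_card_eq_one' (G := P) (x := ⟨g, hg⟩)
      rw [hP] at this
      simpa using congrArg (fun y : P => ((y : Kg) : G)) this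
    have hge : Commute (g : G) (B.j (0, 0, 1)) :=
      pow_mem_zpowers_of_conj he3 h9 (((mem_normalizer_iff.1 (hKN g.2)) _).1 (mem_zpowers _))
    have hgc : Commute (g : G) (E.r * E.refl2) := mem_centralizer_singleton_iff.1 (hK g.2)
    set x := h0⁻¹ * g * h0 with hx
    have hxy : Commute x (B.j (1, 0, 0)) := by
      have h := hge.conj h0⁻¹
      rw [← hh0y, inv_inv, show h0⁻¹ * (h0 * B.j (1, 0, 0) * h0⁻¹) * h0 = B.j (1, 0, 0) by group] at h
      exact h
    have hxc : Commute x (E.refl2 * E.refl3) := by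
      have h := hgc.conj h0⁻¹
      rw [← hh0c, inv_inv, show h0⁻¹ * (h0 * (E.refl2 * E.refl3) * h0⁻¹) * h0 = E.refl2 * E.refl3 by group] at h
      exact h
    have hx9 : x ^ 9 = 1 := by
      rw [show x = h0⁻¹ * g * h0⁻¹⁻¹ by rw [inv_inv], conj_pow, h9]; group
    have hxm : x ∈ zpowers (B.j (1, 0, 0)) := by
      rcases E.cent_short with hA | hB
      · have h4 := E.four_mem short_words (B.mem_D.2 hxy) (hA x hxy)
        have hxJ : x ∈ B.J := by
          have := B.J.pow_mem h4 7
          rwa [← pow_two, ← pow_two, ← pow_mul, ← pow_mul, show 2 * (2 * 7) = 9 * 3 + 1 from rfl, pow_succ,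
            pow_mul, hx9, one_pow, one_mul] at this
        obtain ⟨u, hu⟩ := B.mem_J.1 hxJ
        have hA' : B.Acts (E.refl2 * E.refl3) (repWord ([2, 0, 2] ++ [3, 2, 0, 2, 3])).2 := by
          have := E.word_acts_rep ([2, 0, 2] ++ [3, 2, 0, 2, 3])
          rwa [List.map_append, List.prod_append] at this
        have huf : (repWord ([2, 0, 2] ++ [3, 2, 0, 2, 3])).2 u = u := B.j_inj (by
          rw [← hA', hu, hxc.symm.eq, mul_inv_cancel_right])
        rcases refl23_fix u huf with rfl | rfl | rfl <;> rw [← hu]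
        · rw [B.j_zero]; exact one_mem _
        · exact mem_zpowers _
        · rw [two_neg, B.j_neg]; exact inv_mem (mem_zpowers _)
      · obtain ⟨V⟩ := E.exists_gen_seven hB
        have := pow_mem (V.cc8 x hxy hxc) 8
        rwa [← pow_mul, show 8 * 8 = 9 * 7 + 1 from rfl, pow_succ, pow_mul, hx9, one_pow, one_mul] at this
    obtain ⟨i, hi⟩ := mem_zpowers_iff.1 hxm
    refine mem_zpowers_iff.2 ⟨i, ?_⟩
    rw [← hh0y, conj_zpow, hi, hx]
    show h0 * (h0⁻¹ * (g : G) * h0) * h0⁻¹ = (g : G)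
    group
  have h2 := card_dvd_of_le hle
  rw [card_map_of_injective Kg.subtype_injective, hP, Nat.card_zpowers, he3] at h2
  norm_num at h2

include E in
theorem r_not_conj_c [Finite G] (g : G) : g * E.r * g⁻¹ ≠ E.r * E.refl2 := by
  intro h
  have : Fact (Nat.Prime 3) := ⟨Nat.prime_three⟩
  set H := centralizer ({E.r * E.refl2} : Set G) with hH
  have hle : B.planeHom.range.map (MulAut.conj g).toMonoidHom ≤ H := by
    rintro _ ⟨x, hx, rfl⟩
    refine mem_centralizer_singleton_iff.2 ?_
    rw [← h]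
    exact ((show Commute x E.r from mem_centralizer_singleton_iff.1 (E.plane_le_cent_r hx)).conj g).eq
  have he3 : orderOf (B.j (0, 0, 1)) = 3 := B.orderOf_j third_ne
  have hz : zpowers (B.j (0, 0, 1)) ≤ H := zpowers_le.2 (by
    refine mem_centralizer_singleton_iff.2 ?_
    have hA : B.Acts (E.r * E.refl2) (rF ∘ (repWord [2, 0, 2]).2) := E.hr.1.mul (E.word_acts_rep [2, 0, 2])
    exact (mul_inv_eq_iff_eq_mul.1 ((hA (0, 0, 1)).trans (congrArg B.j c_fix_third))).symm)
  have hp : IsPGroup 3 ((B.planeHom.range.map (MulAut.conj g).toMonoidHom).subgroupOf H) :=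
    IsPGroup.of_equiv (IsPGroup.of_card (n := 2) (by
      rw [card_map_of_injective (MulAut.conj g).injective, B.card_plane]; norm_num))
      (subgroupOfEquivOfLe hle).symm
  obtain ⟨P, hP⟩ := hp.exists_le_sylow
  have hq : IsPGroup 3 ((zpowers (B.j (0, 0, 1))).subgroupOf H) :=
    IsPGroup.of_equiv (IsPGroup.of_card (n := 1) (by rw [Nat.card_zpowers, he3, pow_one]))
      (subgroupOfEquivOfLe hz).symm
  obtain ⟨k, hk⟩ := MulAction.exists_smul_eq H P (hq.toSylow E.third_sylow)
  have h1 := card_le_of_le hP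
  have h2 : Nat.card (P : Subgroup H) = 3 := by
    have e : MulAut.conj k • (P : Subgroup H) = (zpowers (B.j (0, 0, 1))).subgroupOf H := by
      rw [← IsPGroup.toSylow_coe hq E.third_sylow, ← hk]; rfl
    calc Nat.card (P : Subgroup H) = Nat.card (MulAut.conj k • (P : Subgroup H) : Subgroup H) :=
          Nat.card_congr (Subgroup.equivSMul (MulAut.conj k) (P : Subgroup H)).toEquiv
      _ = Nat.card ((zpowers (B.j (0, 0, 1))).subgroupOf H) := by rw [e]
      _ = _ := by rw [Nat.card_congr (subgroupOfEquivOfLe hz).toEquiv, Nat.card_zpowers, he3]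
  rw [Nat.card_congr (subgroupOfEquivOfLe hle).toEquiv, card_map_of_injective (MulAut.conj g).injective,
    B.card_plane, h2] at h1
  norm_num at h1

end Eight

end Core

end CfsgLib.Recog.ThreeLocalSpSix
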