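import Cfsg.Agent.Lib.Recog.ThreeLocalSpSix.Model3
import Cfsg.Agent.Lib.Recog.PSpFourAmalgam.Basics

/-!
Owner: helper3. A group with the centralizer of a 3-central element of PSp(4,3) whose abelian subgroup of order
27 normalizes no non-trivial 3'-subgroup: the Sylow subgroup, the fusion of elements of order three.
-/

set_option autoImplicit false
set_option linter.all false
set_option maxRecDepth 100000

namespace CfsgLib.Recog.ThreeLocalSpSix

open Subgroup CfsgLib.Recog.HeisSL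
open scoped Pointwise

universe u

/-- The data: the centralizer of `θ z0` in coordinates, and the signalizer hypothesis. -/
structure Core (G : Type u) [Group G] where
  θ : W →* G
  inj : Function.Injective θ
  cent : ∀ g : G, Commute g (θ z0) → ∃ w, θ w = g
  sig : ∀ L : Subgroup G, (Nat.card L).Coprime 3 →
    (∀ x : Vec, ∀ l ∈ L, θ (jW x) * l * (θ (jW x))⁻¹ ∈ L) → L = ⊥

theorem jW_zero : jW 0 = 1 := by decide +kernel

/-- The coordinates as a homomorphism. -/
def jHom : Multiplicative Vec →* W where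
  toFun x := jW x.toAdd
  map_one' := jW_zero
  map_mul' x y := jW_mul x.toAdd y.toAdd

/-- An element conjugating a finite subgroup into itself normalizes it. -/
theorem mem_normalizer_of_conj {G : Type*} [Group G] [Finite G] {H : Subgroup G} {g : G}
    (h : ∀ y ∈ H, g * y * g⁻¹ ∈ H) : g ∈ normalizer (H : Set G) := by
  have e : H.map (MulAut.conj g).toMonoidHom = H :=
    eq_of_le_of_card_ge (by rintro _ ⟨y, hy, rfl⟩; exact h y hy)
      (le_of_eq (card_map_of_injective (MulAut.conj g).injective).symm)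
  refine mem_normalizer_iff.2 fun y => ⟨h y, fun hy => ?_⟩
  rw [← e] at hy
  obtain ⟨z, hz, hzy⟩ := hy
  rwa [show y = z from (MulAut.conj g).injective hzy.symm]

namespace Core

variable {G : Type u} [Group G] (B : Core G)

/-- The element of the abelian subgroup with the given coordinates. -/
def j (x : Vec) : G := B.θ (jW x)

theorem j_add (x x' : Vec) : B.j (x + x') = B.j x * B.j x' := by rw [j, j, j, jW_mul, map_mul]

theorem j_zero : B.j 0 = 1 := by rw [j, jW_zero, map_one]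

theorem j_inj {x x' : Vec} (h : B.j x = B.j x') : x = x' := jW_inj _ _ (B.inj h)

theorem j_eq_one {x : Vec} (h : B.j x = 1) : x = 0 := B.j_inj (h.trans B.j_zero.symm)

theorem j_comm (x x' : Vec) : B.j x * B.j x' = B.j x' * B.j x := by
  rw [← B.j_add, add_comm, B.j_add]

theorem j_neg (x : Vec) : B.j (-x) = (B.j x)⁻¹ :=
  eq_inv_of_mul_eq_one_left (by rw [← B.j_add, neg_add_cancel, B.j_zero])

theorem j_cube (x : Vec) : B.j x ^ 3 = 1 := by
  rw [pow_three, ← B.j_add, ← B.j_add, show x + (x + x) = 0 by revert x; decide, B.j_zero]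

/-- The distinguished element. -/
def a : G := B.θ z0

theorem j_center : B.j (1, 1, 1) = B.a := by rw [j, a, jW_center]

theorem orderOf_a : orderOf B.a = 3 := by rw [a, orderOf_injective B.θ B.inj, orderOf_z0]

theorem commute_a (w : W) : Commute (B.θ w) B.a := by
  show _ * _ = _ * _
  rw [a, ← map_mul, z0_comm, map_mul]

theorem cent_a {g : G} : Commute g B.a ↔ ∃ w, B.θ w = g :=
  ⟨B.cent g, fun ⟨w, hw⟩ => hw ▸ B.commute_a w⟩

/-- The abelian subgroup of order 27. -/
def J : Subgroup G := (B.θ.comp jHom).range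

theorem mem_J {g : G} : g ∈ B.J ↔ ∃ x, B.j x = g :=
  ⟨fun ⟨x, hx⟩ => ⟨x.toAdd, hx⟩, fun ⟨x, hx⟩ => ⟨Multiplicative.ofAdd x, hx⟩⟩

theorem j_mem (x : Vec) : B.j x ∈ B.J := B.mem_J.2 ⟨x, rfl⟩

theorem card_J : Nat.card B.J = 27 := by
  have h : Function.Injective (B.θ.comp jHom) := fun x y e => jW_inj x.toAdd y.toAdd (B.inj e)
  rw [J, ← Nat.card_congr (MonoidHom.ofInjective h).toEquiv, Nat.card_eq_fintype_card]
  decide

theorem isPGroup_J : IsPGroup 3 B.J := IsPGroup.of_card (n := 3) (by rw [card_J]; norm_num)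

theorem comm_J {g h : G} (hg : g ∈ B.J) (hh : h ∈ B.J) : g * h = h * g := by
  obtain ⟨x, rfl⟩ := B.mem_J.1 hg
  obtain ⟨y, rfl⟩ := B.mem_J.1 hh
  exact B.j_comm x y

theorem cube_J {g : G} (hg : g ∈ B.J) : g ^ 3 = 1 := by
  obtain ⟨x, rfl⟩ := B.mem_J.1 hg
  exact B.j_cube x

/-- The signalizer hypothesis. -/
theorem signalizer {L : Subgroup G} (hL : (Nat.card L).Coprime 3) (h : B.J ≤ normalizer (L : Set G)) :
    L = ⊥ :=
  B.sig L hL fun x l hl => ((mem_normalizer_iff.1 (h (B.j_mem x))) l).1 hl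

/-- The abelian subgroup is its own centralizer. -/
theorem cent_J {g : G} (h : ∀ y ∈ B.J, Commute g y) : g ∈ B.J := by
  obtain ⟨w, rfl⟩ := B.cent g (by have := h _ (B.j_mem (1, 1, 1)); rwa [B.j_center] at this)
  have e : ∀ x, w * jW x = jW x * w := fun x => B.inj (by
    rw [map_mul, map_mul]; exact h _ (B.j_mem x))
  obtain ⟨x, rfl⟩ := jW_cent w (e _) (e _)
  exact B.j_mem x

/-- A Sylow 3-subgroup. -/
def S : Subgroup G := sylW.map B.θ

theorem mem_S {g : G} : g ∈ B.S ↔ ∃ w, (w.g = uu 0 ∨ w.g = uu 1 ∨ w.g = uu 2) ∧ B.θ w = g := Iff.rfl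

theorem jW_mem : ∀ x : Vec, (jW x).g = uu 0 ∨ (jW x).g = uu 1 ∨ (jW x).g = uu 2 := by decide +kernel

theorem J_le_S : B.J ≤ B.S := by
  intro g hg
  obtain ⟨x, rfl⟩ := B.mem_J.1 hg
  exact B.mem_S.2 ⟨_, jW_mem x, rfl⟩

theorem card_S : Nat.card B.S = 81 := by
  have h : Nat.card {w : W // w.g = uu 0 ∨ w.g = uu 1 ∨ w.g = uu 2} = 81 := by
    rw [Nat.card_eq_fintype_card]; decide +kernel
  rw [S, Subgroup.card_map_of_injective B.inj, ← h]
  rfl

theorem isPGroup_S : IsPGroup 3 B.S := IsPGroup.of_card (n := 4) (by rw [card_S]; norm_num)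

theorem commute_a_S {g : G} (hg : g ∈ B.S) : Commute g B.a := by
  obtain ⟨w, -, rfl⟩ := hg
  exact B.commute_a w

/-- An element of the Sylow subgroup centralizing the whole of it is a power of `a`. -/
theorem center_S {g : G} (hg : g ∈ B.S) (h : ∀ s ∈ B.S, Commute g s) :
    ∃ c : K, g = B.j (c, c, c) := by
  obtain ⟨x, rfl⟩ := B.mem_J.1 (B.cent_J fun y hy => h y (B.J_le_S hy))
  obtain ⟨w, hw, hne⟩ : ∃ w : W, (w.g = uu 0 ∨ w.g = uu 1 ∨ w.g = uu 2) ∧ ¬ ∃ x', w = jW x' :=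
    ⟨⟨![0, 1], 0, 1⟩, by decide +kernel, by decide +kernel⟩
  have e : w * jW x = jW x * w :=
    B.inj (by rw [map_mul, map_mul]; exact (h _ (B.mem_S.2 ⟨w, hw, rfl⟩)).symm)
  obtain ⟨h1, h2⟩ := (sylW_fix w hw x e).resolve_left hne
  exact ⟨x.1, by rw [show x = (x.1, x.1, x.1) from Prod.ext rfl (Prod.ext h1.symm (h2.symm.trans h1.symm))]⟩

theorem j_const : ∀ c : K, B.j (c, c, c) = B.a ^ c.val := by
  intro c
  have h2 : B.j (2, 2, 2) = B.a ^ 2 := by
    rw [pow_two, ← B.j_center, ← B.j_add]; rfl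
  fin_cases c
  · exact (B.j_zero).trans (pow_zero _).symm
  · exact B.j_center.trans (pow_one _).symm
  · exact h2

/-- Conjugating the Sylow subgroup into itself fixes or inverts `a`. -/
theorem conj_a_cases {g : G} (hg : g ∈ normalizer (B.S : Set G)) :
    g * B.a * g⁻¹ = B.a ∨ g * B.a * g⁻¹ = B.a⁻¹ := by
  have hm : g * B.a * g⁻¹ ∈ B.S :=
    ((mem_normalizer_iff.1 hg) _).1 (B.j_center ▸ B.J_le_S (B.j_mem _))
  obtain ⟨c, hc⟩ := B.center_S hm fun s hs => by
    have hs' : g⁻¹ * s * g ∈ B.S := by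
      have := ((mem_normalizer_iff.1 (inv_mem hg)) s).1 hs
      rwa [inv_inv] at this
    have := (B.commute_a_S hs').symm.conj g
    simpa [mul_assoc] using this
  rw [B.j_const] at hc
  have h3 : B.a ^ 3 = 1 := B.orderOf_a ▸ pow_orderOf_eq_one B.a
  fin_cases c
  · exfalso
    have e1 : g * B.a * g⁻¹ = 1 := hc.trans (pow_zero _)
    have := B.orderOf_a
    rw [conj_eq_one_iff.1 e1, orderOf_one] at this
    norm_num at this
  · exact Or.inl (hc.trans (pow_one _))
  · refine Or.inr (hc.trans (eq_inv_of_mul_eq_one_left ?_))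
    rw [← pow_succ]; exact h3

theorem relIndex_S [Finite G] : ¬ 3 ∣ B.S.relIndex (⊤ : Subgroup G) := by
  refine PSpFourAmalgam.not_dvd_relIndex le_top (n := 4) (by rw [card_S]; norm_num) fun L _ hLN hd => ?_
  have : Fact (Nat.Prime 3) := ⟨Nat.prime_three⟩
  obtain ⟨P, hP⟩ := Sylow.exists_subgroup_card_pow_prime 3 hd
  set P' := P.map L.subtype with hP'
  have hcP : Nat.card P' = 243 := by
    rw [hP', Subgroup.card_map_of_injective L.subtype_injective, hP]; norm_num
  have hle : P' ≤ B.θ.range := by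
    rintro _ ⟨g, hg, rfl⟩
    have hh := pow_card_eq_one' (G := P) (x := ⟨g, hg⟩)
    rw [hP] at hh
    have hg243 : (g : G) ^ 243 = 1 := by simpa using congrArg (fun y : P => ((y : L) : G)) hh
    obtain ⟨b, hb⟩ : ∃ b, b = (g : G) ^ 122 := ⟨_, rfl⟩
    have hbb : (g : G) = b * b := by
      rw [hb, ← pow_add, show 122 + 122 = 243 + 1 from rfl, pow_succ, hg243, one_mul]
    have hcomm : b * b * B.a * (b * b)⁻¹ = B.a := by
      rcases B.conj_a_cases (hLN (hb ▸ L.pow_mem g.2 122)) with e | e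
      · calc b * b * B.a * (b * b)⁻¹ = b * (b * B.a * b⁻¹) * b⁻¹ := by group
          _ = B.a := by rw [e, e]
      · calc b * b * B.a * (b * b)⁻¹ = b * (b * B.a * b⁻¹) * b⁻¹ := by group
          _ = B.a := by rw [e, ← conj_inv, e, inv_inv]
    rw [← hbb] at hcomm
    exact B.cent _ (mul_inv_eq_iff_eq_mul.1 hcomm)
  have hd' := Subgroup.card_dvd_of_le hle
  rw [hcP, ← Nat.card_congr (MonoidHom.ofInjective B.inj).toEquiv, card_W] at hd'
  norm_num at hd'

/-- An abelian subgroup of order 27 of the Sylow subgroup is `J`. -/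
theorem eq_J_of_le_S [Finite G] {A : Subgroup G} (hA : A ≤ B.S) (h27 : Nat.card A = 27)
    (hc : ∀ g ∈ A, ∀ h ∈ A, Commute g h) : A = B.J := by
  refine Subgroup.eq_of_le_of_card_ge (fun g hg => ?_) (by rw [h27, card_J])
  by_contra hgJ
  obtain ⟨w, hw, rfl⟩ := B.mem_S.1 (hA hg)
  have hle : A ⊓ B.J ≤ zpowers B.a := by
    rintro y ⟨hyA, hyJ⟩
    obtain ⟨x, rfl⟩ := B.mem_J.1 hyJ
    have e : w * jW x = jW x * w := B.inj (by rw [map_mul, map_mul]; exact hc _ hg _ hyA)
    rcases sylW_fix w hw x e with ⟨x', rfl⟩ | ⟨h1, h2⟩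
    · exact absurd (B.j_mem x') hgJ
    · rw [show x = (x.1, x.1, x.1) from Prod.ext rfl (Prod.ext h1.symm (h2.symm.trans h1.symm)), B.j_const]
      exact pow_mem (mem_zpowers _) _
  have h3 : Nat.card ↥(A ⊓ B.J) ≤ 3 := by
    refine le_trans (Subgroup.card_le_of_le hle) ?_
    rw [Nat.card_zpowers, B.orderOf_a]
  have h1 : B.J.relIndex A ≤ B.J.relIndex B.S :=
    relIndex_le_of_le_right hA index_ne_zero_of_finite
  have h2 : B.J.relIndex B.S = 3 := by
    have := card_mul_index (B.J.subgroupOf B.S)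
    rw [Nat.card_congr (subgroupOfEquivOfLe B.J_le_S).toEquiv, card_J, card_S] at this
    show (B.J.subgroupOf B.S).index = 3
    omega
  have h4 := card_mul_index (B.J.subgroupOf A)
  rw [← card_map_of_injective A.subtype_injective, subgroupOf_map_subtype, h27, inf_comm] at h4
  have : Nat.card ↥(A ⊓ B.J) * (B.J.subgroupOf A).index ≤ 3 * 3 := Nat.mul_le_mul h3 (h1.trans h2.le)
  omega

theorem S_le_normalizer [Finite G] : B.S ≤ normalizer (B.J : Set G) := by
  intro g hg
  have h : B.J.map (MulAut.conj g).toMonoidHom = B.J := by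
    refine B.eq_J_of_le_S ?_ (by rw [Subgroup.card_map_of_injective (MulAut.conj g).injective, card_J]) ?_
    · rintro _ ⟨y, hy, rfl⟩
      exact mul_mem (mul_mem hg (B.J_le_S hy)) (inv_mem hg)
    · rintro _ ⟨y, hy, rfl⟩ _ ⟨y', hy', rfl⟩
      exact Commute.map (show Commute y y' from B.comm_J hy hy') (MulAut.conj g).toMonoidHom
  refine mem_normalizer_of_conj fun y hy => ?_
  rw [← h]
  exact ⟨y, hy, rfl⟩

/-- Any 3-subgroup is conjugate into the Sylow subgroup. -/
theorem exists_conj_le_S [Finite G] {P : Subgroup G} (hP : IsPGroup 3 P) :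
    ∃ g : G, ∀ y ∈ P, g * y * g⁻¹ ∈ B.S := by
  have : Fact (Nat.Prime 3) := ⟨Nat.prime_three⟩
  obtain ⟨T, hT⟩ := hP.exists_le_sylow
  have hidx : ¬ 3 ∣ B.S.index := by
    have := B.relIndex_S
    rwa [relIndex_top_right] at this
  obtain ⟨g, hg⟩ := MulAction.exists_smul_eq G T (B.isPGroup_S.toSylow hidx)
  refine ⟨g, fun y hy => ?_⟩
  have := Subgroup.smul_mem_pointwise_smul _ (MulAut.conj g) (T : Subgroup G) (hT hy)
  rw [show MulAut.conj g • (T : Subgroup G) = B.S by
    rw [← IsPGroup.toSylow_coe B.isPGroup_S hidx, ← hg]; rfl] at this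
  simpa using this

include B in
/-- The abelian subgroup is, in any subgroup containing it, a Sylow subgroup or inside a conjugate of `S`. -/
theorem conj_J_eq [Finite G] {T : Subgroup G} (hT : IsPGroup 3 T) {A A' : Subgroup G} (hA : A ≤ T) (hA' : A' ≤ T)
    (h : Nat.card A = 27) (h' : Nat.card A' = 27) (hc : ∀ g ∈ A, ∀ k ∈ A, Commute g k)
    (hc' : ∀ g ∈ A', ∀ k ∈ A', Commute g k) : A = A' := by
  obtain ⟨g, hg⟩ := B.exists_conj_le_S hT
  have key : ∀ A : Subgroup G, A ≤ T → Nat.card A = 27 → (∀ g ∈ A, ∀ k ∈ A, Commute g k) →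
      A.map (MulAut.conj g).toMonoidHom = B.J := by
    intro A hA h hc
    refine B.eq_J_of_le_S ?_ (by rw [Subgroup.card_map_of_injective (MulAut.conj g).injective, h]) ?_
    · rintro _ ⟨y, hy, rfl⟩; exact hg y (hA hy)
    · rintro _ ⟨y, hy, rfl⟩ _ ⟨y', hy', rfl⟩; exact (hc y hy y' hy').map (MulAut.conj g).toMonoidHom
  exact Subgroup.map_injective (MulAut.conj g).injective ((key A hA h hc).trans (key A' hA' h' hc').symm)

/-- Fusion in the abelian subgroup is controlled by its normalizer. -/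
theorem fusion [Finite G] {g : G} {y : G} (hy : y ∈ B.J) (hgy : g * y * g⁻¹ ∈ B.J) :
    ∃ n ∈ normalizer (B.J : Set G), n * y * n⁻¹ = g * y * g⁻¹ := by
  have : Fact (Nat.Prime 3) := ⟨Nat.prime_three⟩
  set H := centralizer ({g * y * g⁻¹} : Set G) with hH
  have h1 : B.J ≤ H := fun z hz => mem_centralizer_singleton_iff.2 (B.comm_J hz hgy)
  set A := B.J.map (MulAut.conj g).toMonoidHom with hA
  have h2 : A ≤ H := by
    rintro _ ⟨z, hz, rfl⟩
    refine mem_centralizer_singleton_iff.2 ?_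
    exact (show Commute z y from B.comm_J hz hy).map (MulAut.conj g).toMonoidHom
  have hpA : IsPGroup 3 A := B.isPGroup_J.map _
  obtain ⟨T, hT⟩ := (IsPGroup.of_equiv B.isPGroup_J (subgroupOfEquivOfLe h1).symm).exists_le_sylow
  obtain ⟨T', hT'⟩ := (IsPGroup.of_equiv hpA (subgroupOfEquivOfLe h2).symm).exists_le_sylow
  obtain ⟨c, hc⟩ := MulAction.exists_smul_eq H T' T
  set n := (c : G) * g with hn
  have hle : B.J.map (MulAut.conj n).toMonoidHom ≤ (T : Subgroup H).map H.subtype := by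
    rintro _ ⟨z, hz, rfl⟩
    have hz' : (⟨g * z * g⁻¹, h2 ⟨z, hz, rfl⟩⟩ : H) ∈ (T' : Subgroup H) := hT' ⟨z, hz, rfl⟩
    have h3 := Subgroup.smul_mem_pointwise_smul _ (MulAut.conj c) (T' : Subgroup H) hz'
    rw [show MulAut.conj c • (T' : Subgroup H) = (T : Subgroup H) by rw [← hc]; rfl] at h3
    exact ⟨_, h3, by simp [hn, mul_assoc]⟩
  have hJT : B.J ≤ (T : Subgroup H).map H.subtype := fun z hz => ⟨⟨z, h1 hz⟩, hT hz, rfl⟩
  have e := B.conj_J_eq (T.isPGroup'.map H.subtype) hle hJT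
    (by rw [Subgroup.card_map_of_injective (MulAut.conj n).injective, card_J]) B.card_J
    (by rintro _ ⟨z, hz, rfl⟩ _ ⟨z', hz', rfl⟩; exact (show Commute z z' from B.comm_J hz hz').map _)
    (fun z hz z' hz' => B.comm_J hz hz')
  refine ⟨n, ?_, ?_⟩
  · refine mem_normalizer_of_conj fun z hz => ?_
    rw [← e]
    exact ⟨z, hz, rfl⟩
  · have hcy : (c : G) * (g * y * g⁻¹) = g * y * g⁻¹ * c := mem_centralizer_singleton_iff.1 c.2
    calc n * y * n⁻¹ = (c : G) * (g * y * g⁻¹) * (c : G)⁻¹ := by rw [hn]; group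
      _ = _ := by rw [hcy, mul_inv_cancel_right]

/-- Every element of order three is conjugate into the abelian subgroup. -/
theorem exists_conj_mem_J [Finite G] {y : G} (hy : y ^ 3 = 1) : ∃ g : G, g * y * g⁻¹ ∈ B.J := by
  have hp : IsPGroup 3 (zpowers y) := by
    rintro ⟨z, hz⟩
    obtain ⟨i, rfl⟩ := mem_zpowers_iff.1 hz
    refine ⟨1, Subtype.ext ?_⟩
    show (y ^ i) ^ (3 ^ 1) = 1
    rw [pow_one, ← zpow_natCast, ← zpow_mul, mul_comm, zpow_mul, zpow_natCast, hy, one_zpow]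
  obtain ⟨g, hg⟩ := B.exists_conj_le_S hp
  obtain ⟨w, hw, hwy⟩ := B.mem_S.1 (hg y (mem_zpowers y))
  have hw3 : w * w * w = 1 := B.inj (by
    rw [map_mul, map_mul, hwy, map_one, ← pow_two, ← pow_succ, conj_pow, hy, mul_one, mul_inv_cancel])
  rcases sylW_three w hw hw3 with h1 | ⟨x, rfl⟩
  · obtain ⟨h, x, hx⟩ := kernel_conj w.v w.s
    rw [show (⟨w.v, w.s, 1⟩ : W) = w from W.ext rfl rfl h1.symm] at hx
    refine ⟨B.θ ⟨0, 0, h⟩ * g, B.mem_J.2 ⟨x, ?_⟩⟩
    rw [j, ← hx, map_mul, map_mul, map_inv, hwy]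
    group
  · exact ⟨g, hwy ▸ B.j_mem x⟩

end Core

end CfsgLib.Recog.ThreeLocalSpSix
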