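import Cfsg.Agent.Lib.Recog.ThreeLocalSpSix.Neg

/-!
Owner: helper3. The cube: the conjugates of `a` in the abelian subgroup are all eight vertices or four of them,
and the normalizer acts as the monomial maps with signs among these.
-/

set_option autoImplicit false
set_option linter.all false
set_option maxRecDepth 100000

namespace CfsgLib.Recog.ThreeLocalSpSix

open Subgroup CfsgLib.Recog.HeisSL

universe u

theorem eight_neg_mem : ∀ x ∈ eight, -x ∈ eight := by decide +kernel

theorem eight_signs : ∀ x ∈ eight, x = (1, 1, 1) ∨ x = -(1, 1, 1) ∨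
    ∃ π ∈ perms, x = π (2, 1, 1) ∨ x = -π (2, 1, 1) := by decide +kernel

/-- The four vertices with an even number of signs. -/
def four : List Vec := [(1, 1, 1), (1, 2, 2), (2, 1, 2), (2, 2, 1)]

theorem four_perms : ∀ x ∈ four, x = (1, 1, 1) ∨ ∃ π ∈ perms, x = π (1, 2, 2) := by decide +kernel

theorem eight_cases : ∀ x ∈ eight, x ∈ four ∨ -x ∈ four := by decide +kernel

theorem perms_one : ∀ π ∈ perms, π (1, 1, 1) = (1, 1, 1) := by
  intro π hπ
  simp only [perms, List.mem_cons, List.not_mem_nil, or_false] at hπ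
  rcases hπ with rfl | rfl | rfl | rfl | rfl | rfl <;> rfl

theorem rF_eq : ∀ x : Vec, rF x = (2, 1, 1) * x := by decide +kernel

namespace Core

variable {G : Type u} [Group G] {B : Core G}

theorem Framed.pure_sign [Finite G] (hF : B.Framed) {e : Vec} (he : e ∈ B.O) :
    ∃ n, B.Acts n (fun x => e * x) := by
  obtain ⟨n, f, hf, hf1⟩ := B.exists_acts_to he
  obtain ⟨e', -, π, hπ, key⟩ := hf.monomial hF
  have hee : e' = e := by
    have := key (1, 1, 1)
    rw [hf1, perms_one π hπ] at this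
    rw [this]
    ext <;> simp
  obtain ⟨π', hπ', hinv⟩ := perms_inverse π hπ
  obtain ⟨m, hm⟩ := B.acts_perms π' hπ'
  refine ⟨n * m, fun x => ((hf.mul hm) x).trans ?_⟩
  have hright : π (π' x) = x := by
    have hinj : Function.Injective π' := hm.inj
    exact hinj (hinv (π' x))
  rw [Function.comp_apply, key, hright, hee]

/-- When `a` is conjugate to its inverse all eight vertices are conjugates. -/
theorem Framed.eight_mem (hF : B.Framed) (hinv : ∃ g : G, g * B.a * g⁻¹ = B.a⁻¹) {x : Vec} (hx : x ∈ eight) :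
    x ∈ B.O := by
  have hn1 : (-(1, 1, 1) : Vec) ∈ B.O := by
    obtain ⟨g, hg⟩ := hinv
    exact ⟨g, by rw [hg, B.j_neg, B.j_center]⟩
  have hneg : ∀ y ∈ B.O, -y ∈ B.O := fun y hy => B.neg_mem_O B.one_mem_O hn1 hy
  have h2 : ((2, 1, 1) : Vec) ∈ B.O := by
    rcases hF.move with h | h
    · exact h
    · exact (show -((1, 2, 2) : Vec) = (2, 1, 1) from rfl) ▸ hneg _ h
  rcases eight_signs x hx with rfl | rfl | ⟨π, hπ, rfl | rfl⟩
  · exact B.one_mem_O
  · exact hn1
  · exact B.perm_mem_O hπ h2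
  · exact hneg _ (B.perm_mem_O hπ h2)

/-- When `a` is not conjugate to its inverse the conjugates are the four even vertices. -/
theorem Framed.mem_iff_four [Finite G] (hF : B.Framed) (hne : ∀ g : G, g * B.a * g⁻¹ ≠ B.a⁻¹) {x : Vec} :
    x ∈ B.O ↔ x ∈ four := by
  have hn1 : ∀ y ∈ B.O, -y ∉ B.O := by
    intro y hy hny
    obtain ⟨g, hg⟩ := B.neg_mem_O hy hny B.one_mem_O
    exact hne g (by rw [hg, B.j_neg, B.j_center])
  have h1 : ((2, 1, 1) : Vec) ∉ B.O := by
    intro h
    obtain ⟨n, hn⟩ := hF.pure_sign h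
    have h' : ((1, 2, 1) : Vec) ∈ B.O := B.perm_mem_O (π := fun x => (x.2.1, x.1, x.2.2)) (by simp [perms]) h
    have h2 : ((2, 2, 1) : Vec) ∈ B.O := by
      have := hn.mem_O h'
      rwa [show ((2, 1, 1) : Vec) * (1, 2, 1) = (2, 2, 1) by decide] at this
    refine hn1 _ h2 ?_
    rw [show -((2, 2, 1) : Vec) = (1, 1, 2) from rfl]
    exact B.perm_mem_O (π := fun x => (x.2.1, x.2.2, x.1)) (by simp [perms]) h
  have h2 : ((1, 2, 2) : Vec) ∈ B.O := hF.move.resolve_left h1
  constructor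
  · intro hx
    refine (eight_cases x (hF.sub x hx)).resolve_right fun h => ?_
    rcases four_perms _ h with e | ⟨π, hπ, e⟩
    · exact hn1 x hx (e ▸ B.one_mem_O)
    · exact hn1 x hx (e ▸ B.perm_mem_O hπ h2)
  · intro hx
    rcases four_perms x hx with rfl | ⟨π, hπ, rfl⟩
    · exact B.one_mem_O
    · exact B.perm_mem_O hπ h2

namespace Inv

variable (I : B.Inv)

theorem exists_sign [Finite G] (hF : B.Framed) {e : Vec} (he : e ∈ eight) :
    ∃ m, I.Lift m (fun x => e * x) := by
  obtain ⟨n, hn⟩ := hF.pure_sign (hF.eight_mem ⟨I.w, by rw [← B.j_center, I.neg, B.j_neg]⟩ he)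
  obtain ⟨d, hd⟩ := I.exists_lift hn
  exact ⟨_, hd⟩

/-- The reflection in the first coordinate. -/
theorem exists_r [Finite G] (hF : B.Framed) : ∃ r, I.Lift r rF ∧ r * r = 1 := by
  obtain ⟨r, hr⟩ := I.exists_sign hF (e := (2, 1, 1)) (by decide)
  have hr' : I.Lift r rF := ⟨fun x => by rw [hr.1, rF_eq], hr.2⟩
  refine ⟨r, hr', I.lift_unique (I.lift_mul hr' hr') I.lift_one fun x => ?_⟩
  simp [rF]

end Inv

end Core

end CfsgLib.Recog.ThreeLocalSpSix
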