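import Cfsg.Agent.Lib.Recog.ThreeLocalSpSix.CasesTables

/-!
Owner: helper24. Finite checks for the case of four conjugates of `a`: the four vertices of one sign pattern,
and the part of the model needed for the amalgam.
-/

set_option autoImplicit false
set_option linter.all false
set_option maxRecDepth 100000

namespace CfsgLib.Recog.ThreeLocalSpSix

open CfsgLib.Recog.HeisSL

/-- The two possible sets of four conjugates. -/
def pts : Bool → Fin 4 → Vec
  | false => ![(1, 1, 1), (2, 1, 1), (1, 2, 1), (1, 1, 2)]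
  | true => ![(1, 1, 1), (1, 2, 2), (2, 1, 2), (2, 2, 1)]

theorem pts_inj : ∀ b, Function.Injective (pts b) := by decide +kernel

theorem eight_pts : ∀ x ∈ eight, x ≠ (2, 2, 2) →
    (∃ i, pts false i = x) ∨ ∃ i, pts true i = x := by decide +kernel

/-- Negatives of vertices of one pattern are of the other. -/
theorem pts_neg : ∀ i : Fin 4, i ≠ 0 → ∀ j : Fin 4, j ≠ 0 → ∃ π ∈ perms, π (pts true i) = -pts false j := by
  decide +kernel

theorem pts_perms : ∀ b : Bool, ∀ i : Fin 4, i ≠ 0 → ∀ j : Fin 4, j ≠ 0 →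
    ∃ π ∈ perms, π (pts b i) = pts b j := by decide +kernel

theorem pts_realise : ∀ b : Bool, ∀ τ : Equiv.Perm (Fin 4), τ 0 = 0 →
    ∃ π ∈ perms, ∀ i, π (pts b i) = pts b (τ i) := by decide +kernel

theorem pts_faithful : ∀ b : Bool, ∀ e ∈ eight, ∀ π ∈ perms, (∀ i, e * π (pts b i) = pts b i) →
    ∀ x : Vec, e * π x = x := by decide +kernel

theorem pts_units : ∀ b : Bool, ∀ u : Vec, u = (1, 0, 0) ∨ u = (0, 1, 0) ∨ u = (0, 0, 1) →
    ∃ i j : Fin 4, u = pts b i + pts b j ∨ u = pts b i + pts b i + pts b j := by decide +kernel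

/-- A non-zero vector gives the centre or its negative under differences with its images. -/
theorem fixed_reach : ∀ x : Vec, x ≠ 0 →
    x = (1, 1, 1) ∨ x = (2, 2, 2) ∨
    x - sF x = (1, 1, 1) ∨ x - sF x = (2, 2, 2) ∨
    x - sF x - sF (x - sF x) = (1, 1, 1) ∨ x - sF x - sF (x - sF x) = (2, 2, 2) := by decide +kernel

/-- The extraspecial subgroup of the model. -/
def heisW : Subgroup W where
  carrier := {w | w.g = 1}
  one_mem' := rfl
  mul_mem' := by intro a b ha hb; simp only [Set.mem_ofPred_eq, mul_def] at *; rw [ha, hb, one_mul]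
  inv_mem' := by intro a ha; simp only [Set.mem_ofPred_eq, inv_def] at *; rw [ha, inv_one]

theorem card_heisW : Nat.card heisW = 27 := by
  rw [show Nat.card heisW = Nat.card {w : W // w.g = 1} from rfl, Nat.card_eq_fintype_card]
  decide +kernel

theorem heisW_center : ∀ w : W, w.g = 1 → w * ⟨![1, 0], 0, 1⟩ = ⟨![1, 0], 0, 1⟩ * w →
    w * ⟨![0, 1], 0, 1⟩ = ⟨![0, 1], 0, 1⟩ * w → w = 1 ∨ w = z0 ∨ w = z0 * z0 := by decide +kernel

theorem heisW_nat_fwd (w : W) (hw : w.g = 1) (v : Fin 2 → K) (s : K) :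
    (w * ⟨v, s, 1⟩ * w⁻¹ * (⟨v, s, 1⟩ : W)⁻¹).g = 1 ∧
      (w * ⟨v, s, 1⟩ * w⁻¹ * (⟨v, s, 1⟩ : W)⁻¹).v = 0 := by
  simp [mul_def, inv_def, hw, app_one]

theorem heisW_nat_bwd : ∀ w : W,
    (w * ⟨![1, 0], 0, 1⟩ * w⁻¹ * (⟨![1, 0], 0, 1⟩ : W)⁻¹).v = 0 →
    (w * ⟨![0, 1], 0, 1⟩ * w⁻¹ * (⟨![0, 1], 0, 1⟩ : W)⁻¹).v = 0 → w.g = 1 := by decide +kernel

theorem z0_powers : ∀ s : K, (⟨0, s, 1⟩ : W) = 1 ∨ (⟨0, s, 1⟩ : W) = z0 ∨ (⟨0, s, 1⟩ : W) = z0 * z0 := by
  decide +kernel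

/-- A conjugate of the abelian subgroup by the quaternion element does not normalize it. -/
theorem qW_moves : ¬ ∃ y : Vec, (qW * jW (1, 0, 0) * qW⁻¹) * jW (0, 1, 0) * (qW * jW (1, 0, 0) * qW⁻¹)⁻¹ = jW y := by
  decide +kernel

end CfsgLib.Recog.ThreeLocalSpSix
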