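import Cfsg.Agent.Lib.Recog.ThreeLocalSpSix.Cases
import Cfsg.Agent.Lib.Recog.ThreeLocalSpSix.FourTables
import Cfsg.Agent.Lib.Recog.PSpFourAmalgam.Main
import Cfsg.Agent.Lib.Recog.SpFourCent.Count
import Cfsg.Agent.Lib.Recog.SpFourCent.Fusion

/-!
Owner: helper24. Four conjugates of `a` in the abelian subgroup and none of them inverse to another: the
normalizer of that subgroup and the centralizer of `a` form the amalgam of PSp(4,3).
-/

set_option autoImplicit false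
set_option linter.all false
set_option maxRecDepth 100000

namespace CfsgLib.Recog.ThreeLocalSpSix

open Subgroup CfsgLib.Recog.HeisSL

universe u

theorem eight_neg : ∀ x ∈ eight, -x ∈ eight := by decide +kernel

theorem sF_mem_perms : ∀ x : Vec, sF x = (x.2.2, x.1, x.2.1) := by decide +kernel

namespace Core

variable {G : Type u} [Group G] {B : Core G}

theorem sF_mem_O {x : Vec} (hx : x ∈ B.O) : sF x ∈ B.O := by
  rw [sF_mem_perms]
  exact B.perm_mem_O (π := fun x => (x.2.2, x.1, x.2.1)) (by simp [perms]) hx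

/-- The four conjugates. -/
theorem exists_pts [Finite G] (hF : B.Framed) (hneg : ((2, 2, 2) : Vec) ∉ B.O) :
    ∃ b, ∀ x, x ∈ B.O ↔ ∃ i, pts b i = x := by
  have hnn : ∀ y, y ∈ B.O → -y ∉ B.O := fun y hy hny => hneg (B.neg_mem_O hy hny B.one_mem_O)
  have hall : ∀ b, pts b 1 ∈ B.O → ∀ i, pts b i ∈ B.O := by
    intro b h1 i
    by_cases hi : i = 0
    · subst hi
      cases b <;> exact B.one_mem_O
    obtain ⟨π, hπ, e⟩ := pts_perms b 1 (by decide) i hi
    exact e ▸ B.perm_mem_O hπ h1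
  obtain ⟨b, hb⟩ : ∃ b, pts b 1 ∈ B.O := by
    rcases hF.move with h | h
    · exact ⟨false, h⟩
    · exact ⟨true, h⟩
  refine ⟨b, fun x => ⟨fun hx => ?_, fun ⟨i, hi⟩ => hi ▸ hall b hb i⟩⟩
  have hne : x ≠ (2, 2, 2) := fun e => hneg (e ▸ hx)
  rcases eight_pts x (hF.sub x hx) hne with ⟨i, hi⟩ | ⟨i, hi⟩
  · cases b
    · exact ⟨i, hi⟩
    · by_cases h0 : i = 0
      · exact ⟨0, by subst h0; rw [← hi]; rfl⟩
      obtain ⟨π, hπ, e⟩ := pts_neg 1 (by decide) i h0
      have := B.perm_mem_O hπ hb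
      rw [e, hi] at this
      exact absurd this (hnn x hx)
  · cases b
    · by_cases h0 : i = 0
      · exact ⟨0, by subst h0; rw [← hi]; rfl⟩
      obtain ⟨π, hπ, e⟩ := pts_neg i h0 1 (by decide)
      have := B.perm_mem_O hπ hx
      rw [← hi, e] at this
      exact absurd this (hnn _ hb)
    · exact ⟨i, hi⟩

variable (B)

/-- The extraspecial subgroup. -/
def Q : Subgroup G := heisW.map B.θ

theorem card_Q : Nat.card B.Q = 27 := by rw [Q, Subgroup.card_map_of_injective B.inj, card_heisW]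

theorem a_mem_Q : B.a ∈ B.Q := ⟨z0, rfl, rfl⟩

theorem Q_le : B.Q ≤ B.θ.range := by
  rintro _ ⟨w, -, rfl⟩
  exact ⟨w, rfl⟩

theorem S_le_range : B.S ≤ B.θ.range := by
  rintro _ ⟨w, -, rfl⟩
  exact ⟨w, rfl⟩

theorem inf_cent_Q : zpowers B.a = B.Q ⊓ centralizer (B.Q : Set G) := by
  refine le_antisymm (zpowers_le.2 ⟨B.a_mem_Q, mem_centralizer_iff.2 fun y hy => ?_⟩) ?_
  · obtain ⟨w, -, rfl⟩ := hy
    exact B.commute_a w
  · rintro y ⟨⟨w, hw, rfl⟩, hc⟩
    have hcw : ∀ v s, w * ⟨v, s, 1⟩ = ⟨v, s, 1⟩ * w := fun v s => B.inj (by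
      rw [map_mul, map_mul]
      exact (mem_centralizer_iff.1 hc _ ⟨⟨v, s, 1⟩, rfl, rfl⟩).symm)
    rcases heisW_center w hw (hcw _ _) (hcw _ _) with rfl | rfl | rfl
    · rw [map_one]; exact one_mem _
    · exact mem_zpowers _
    · rw [map_mul]; exact mul_mem (mem_zpowers _) (mem_zpowers _)

theorem nat_Q {g : G} (hg : g ∈ B.θ.range) :
    g ∈ B.Q ↔ ∀ x ∈ B.Q, g * x * g⁻¹ * x⁻¹ ∈ zpowers B.a := by
  obtain ⟨w, rfl⟩ := hg
  constructor
  · rintro ⟨w', hw', e⟩ _ ⟨⟨v, s, g⟩, rfl, rfl⟩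
    obtain ⟨h1, h2⟩ := heisW_nat_fwd w (B.inj e ▸ hw') v s
    rw [← map_mul, ← map_inv, ← map_mul, ← map_inv, ← map_mul]
    generalize w * ⟨v, s, 1⟩ * w⁻¹ * (⟨v, s, 1⟩ : W)⁻¹ = u at h1 h2 ⊢
    obtain ⟨uv, us, ug⟩ := u
    obtain rfl : ug = 1 := h1
    obtain rfl : uv = 0 := h2
    rcases z0_powers us with e | e | e <;> rw [e]
    · rw [map_one]; exact one_mem _
    · exact mem_zpowers _
    · rw [map_mul]; exact mul_mem (mem_zpowers _) (mem_zpowers _)
  · intro h
    have hv : ∀ v : Fin 2 → K, (w * ⟨v, 0, 1⟩ * w⁻¹ * (⟨v, 0, 1⟩ : W)⁻¹).v = 0 := by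
      intro v
      have h1 := h _ ⟨⟨v, 0, 1⟩, rfl, rfl⟩
      rw [← map_mul, ← map_inv, ← map_mul, ← map_inv, ← map_mul] at h1
      obtain ⟨n, hn⟩ := mem_zpowers_iff.1 h1
      rw [show B.a = B.θ z0 from rfl, ← map_zpow] at hn
      rw [← B.inj hn]
      have key : ∀ m : ℤ, (z0 ^ m).v = 0 ∧ (z0 ^ m).g = 1 := by
        intro m
        induction m using Int.induction_on with
        | zero => exact ⟨rfl, rfl⟩
        | succ k ih => rw [zpow_add_one, mul_def, ih.1, ih.2]; exact ⟨by simp [z0, app_one], by simp [z0]⟩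
        | pred k ih =>
          rw [zpow_sub_one, mul_def, ih.1, ih.2, inv_def]; exact ⟨by simp [z0, app_one], by simp [z0]⟩
      exact (key n).1
    exact ⟨w, heisW_nat_bwd w (hv _) (hv _), rfl⟩

/-- The projection of the centralizer of `a` to `SL(2,3)`. -/
noncomputable def pi2 : B.θ.range →* S2 :=
  (MonoidHom.mk' (fun w : W => w.g) fun a b => rfl).comp (MonoidHom.ofInjective B.inj).symm.toMonoidHom

theorem pi2_apply (w : W) : B.pi2 ⟨B.θ w, w, rfl⟩ = w.g := by
  have e : (MonoidHom.ofInjective B.inj).symm ⟨B.θ w, w, rfl⟩ = w := MulEquiv.symm_apply_eq _ |>.2 rfl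
  show ((MonoidHom.ofInjective B.inj).symm _).g = _
  rw [e]

theorem normalizer_a [Finite G] (hneg : ((2, 2, 2) : Vec) ∉ B.O) :
    normalizer (zpowers B.a : Set G) = B.θ.range := by
  refine le_antisymm (fun g hg => ?_) ?_
  · have hm := ((mem_normalizer_iff.1 hg) B.a).1 (mem_zpowers _)
    obtain ⟨n, hn⟩ := mem_zpowers_iff.1 hm
    rw [zpow_mod_orderOf B.a n |>.symm, B.orderOf_a] at hn
    have h1 : n % 3 = 0 ∨ n % 3 = 1 ∨ n % 3 = 2 := by omega
    rcases h1 with h | h | h <;> norm_num [h] at hn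
    · exfalso
      rw [eq_comm, conj_eq_one_iff] at hn
      have := B.orderOf_a
      rw [hn, orderOf_one] at this
      norm_num at this
    · obtain ⟨w, hw⟩ := B.cent g (mul_inv_eq_iff_eq_mul.1 hn.symm)
      exact ⟨w, hw⟩
    · refine absurd ⟨g, ?_⟩ hneg
      rw [← hn, show ((2, 2, 2) : Vec) = (1, 1, 1) + (1, 1, 1) from rfl, B.j_add, B.j_center, pow_two]
  · rintro _ ⟨w, rfl⟩
    refine mem_normalizer_of_conj fun y hy => ?_
    obtain ⟨n, rfl⟩ := mem_zpowers_iff.1 hy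
    rw [← conj_zpow, (B.commute_a w).eq, mul_inv_cancel_right]
    exact zpow_mem (mem_zpowers _) _

theorem normalizer_S_le [Finite G] : normalizer (B.S : Set G) ≤ normalizer (B.J : Set G) := by
  intro g hg
  have h : B.J.map (MulAut.conj g).toMonoidHom = B.J := by
    refine B.eq_J_of_le_S ?_ (by rw [Subgroup.card_map_of_injective (MulAut.conj g).injective, card_J]) ?_
    · rintro _ ⟨y, hy, rfl⟩
      exact ((mem_normalizer_iff.1 hg) y).1 (B.J_le_S hy)
    · rintro _ ⟨y, hy, rfl⟩ _ ⟨y', hy', rfl⟩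
      exact Commute.map (show Commute y y' from B.comm_J hy hy') (MulAut.conj g).toMonoidHom
  refine mem_normalizer_of_conj fun y hy => ?_
  rw [← h]
  exact ⟨y, hy, rfl⟩

theorem no_index_two [Finite G] (K : Subgroup G) (hK : K.index = 2) (h1 : normalizer (B.J : Set G) ≤ K)
    (h2 : B.θ.range ≤ K) : False := by
  have : Fact (Nat.Prime 3) := ⟨Nat.prime_three⟩
  have : K.Normal := Subgroup.normal_of_index_eq_two hK
  have hSK : B.S ≤ K := B.S_le_range.trans h2
  have hidx : ¬ 3 ∣ (B.S.subgroupOf K).index := fun hd => B.relIndex_S (by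
    rw [relIndex_top_right, ← relIndex_mul_index hSK]
    exact dvd_mul_of_dvd_left hd _)
  let P : Sylow 3 K := (IsPGroup.of_equiv B.isPGroup_S (subgroupOfEquivOfLe hSK).symm).toSylow hidx
  have hP : (P : Subgroup K) = B.S.subgroupOf K := IsPGroup.toSylow_coe _ _
  have hmap : (P : Subgroup K).map K.subtype = B.S := by
    rw [hP, subgroupOf_map_subtype, inf_eq_left.2 hSK]
  have htop := Sylow.normalizer_sup_eq_top P
  rw [hmap] at htop
  have : K = ⊤ := top_le_iff.1 (htop ▸ sup_le ((B.normalizer_S_le).trans h1) le_rfl)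
  rw [this, index_top] at hK
  norm_num at hK

variable {B}

/-- The induced permutation of the four conjugates. -/
theorem exists_perm [Finite G] {b : Bool} (hb : ∀ x, x ∈ B.O ↔ ∃ i, pts b i = x)
    (n : normalizer (B.J : Set G)) :
    ∃ σ : Equiv.Perm (Fin 4), ∀ i, (n : G) * B.j (pts b i) * (n : G)⁻¹ = B.j (pts b (σ i)) := by
  obtain ⟨f, hf⟩ := B.exists_acts n.2
  have h : ∀ i, ∃ j, pts b j = f (pts b i) := fun i => (hb _).1 (hf.mem_O ((hb _).2 ⟨i, rfl⟩))
  choose σ hσ using h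
  have hinj : Function.Injective σ := fun i k e => pts_inj b (hf.inj (by rw [← hσ, ← hσ, e]))
  exact ⟨Equiv.ofBijective σ (Finite.injective_iff_bijective.1 hinj), fun i => (hf _).trans (by rw [← hσ]; rfl)⟩

/-- The action of the normalizer on the four conjugates. -/
noncomputable def pi1 [Finite G] {b : Bool} (hb : ∀ x, x ∈ B.O ↔ ∃ i, pts b i = x) :
    normalizer (B.J : Set G) →* Equiv.Perm (Fin 4) where
  toFun n := (exists_perm hb n).choose
  map_one' := Equiv.ext fun i => by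
    refine pts_inj b (B.j_inj ?_)
    rw [← (exists_perm hb 1).choose_spec i]
    simp
  map_mul' m n := Equiv.ext fun i => by
    refine pts_inj b (B.j_inj ?_)
    rw [Equiv.Perm.mul_apply, ← (exists_perm hb (m * n)).choose_spec i, ← (exists_perm hb m).choose_spec,
      ← (exists_perm hb n).choose_spec]
    simp [mul_assoc]

theorem pi1_spec [Finite G] {b : Bool} (hb : ∀ x, x ∈ B.O ↔ ∃ i, pts b i = x)
    (n : normalizer (B.J : Set G)) (i : Fin 4) :
    (n : G) * B.j (pts b i) * (n : G)⁻¹ = B.j (pts b (pi1 hb n i)) :=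
  (exists_perm hb n).choose_spec i

theorem pi1_surj [Finite G] {b : Bool} (hb : ∀ x, x ∈ B.O ↔ ∃ i, pts b i = x) :
    Function.Surjective (pi1 hb) := by
  have hlift : ∀ (n : normalizer (B.J : Set G)) (f : Vec → Vec), B.Acts (n : G) f →
      ∀ i, pts b (pi1 hb n i) = f (pts b i) := fun n f hf i =>
    B.j_inj ((pi1_spec hb n i).symm.trans (hf _))
  intro σ
  have h0 : pts b 0 = (1, 1, 1) := by cases b <;> rfl
  obtain ⟨n, f, hf, hf1⟩ := B.exists_acts_to ((hb _).2 ⟨σ 0, rfl⟩)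
  let n' : normalizer (B.J : Set G) := ⟨n, hf.mem⟩
  have hn0 : pi1 hb n' 0 = σ 0 := pts_inj b (by rw [hlift n' f hf, h0, hf1])
  obtain ⟨π, hπ, hπτ⟩ := pts_realise b ((pi1 hb n')⁻¹ * σ) (by
    rw [Equiv.Perm.mul_apply, ← hn0, Equiv.Perm.inv_eq_iff_eq])
  obtain ⟨m, hm⟩ := B.acts_perms π hπ
  refine ⟨n' * ⟨m, hm.mem⟩, ?_⟩
  have hm' : pi1 hb ⟨m, hm.mem⟩ = (pi1 hb n')⁻¹ * σ :=
    Equiv.ext fun i => pts_inj b ((hlift ⟨m, hm.mem⟩ π hm i).trans (hπτ i))
  rw [map_mul, hm', mul_inv_cancel_left]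

theorem pi1_ker [Finite G] (hF : B.Framed) {b : Bool} (hb : ∀ x, x ∈ B.O ↔ ∃ i, pts b i = x)
    (n : normalizer (B.J : Set G)) : pi1 hb n = 1 ↔ (n : G) ∈ B.J := by
  constructor
  · intro h
    obtain ⟨f, hf⟩ := B.exists_acts n.2
    obtain ⟨e, he, π, hπ, hfx⟩ := hf.monomial hF
    refine hf.mem_J fun x => ?_
    rw [hfx]
    refine pts_faithful b e he π hπ (fun i => ?_) x
    rw [← hfx]
    exact B.j_inj ((hf _).symm.trans (by rw [pi1_spec hb n i, h]; rfl))
  · intro hn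
    refine Equiv.ext fun i => pts_inj b (B.j_inj ?_)
    rw [← pi1_spec hb n i, B.comm_J hn (B.j_mem _), mul_inv_cancel_right]
    rfl

/-- A subgroup of both normalised by both is trivial. -/
theorem core_eq_bot [Finite G] {b : Bool} (hb : ∀ x, x ∈ B.O ↔ ∃ i, pts b i = x) (N : Subgroup G)
    (hN : N ≤ normalizer (B.J : Set G) ⊓ B.θ.range) (h1 : normalizer (B.J : Set G) ≤ normalizer (N : Set G))
    (h2 : B.θ.range ≤ normalizer (N : Set G)) : N = ⊥ := by
  by_cases hNJ : ∀ x, B.j x ∈ N → x = 0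
  · -- no element of `J`: the subgroup centralises `J`, so lies in it
    refine eq_bot_iff.2 fun g hg => mem_bot.2 ?_
    have hgN := (hN hg).1
    have hgJ : g ∈ B.J := by
      refine B.cent_J fun y hy => ?_
      obtain ⟨x, rfl⟩ := B.mem_J.1 hy
      have hc1 : g * B.j x * g⁻¹ * (B.j x)⁻¹ ∈ B.J :=
        mul_mem (((mem_normalizer_iff.1 hgN) _).1 (B.j_mem x)) (inv_mem (B.j_mem x))
      have hc2 : g * B.j x * g⁻¹ * (B.j x)⁻¹ ∈ N := by
        rw [show g * B.j x * g⁻¹ * (B.j x)⁻¹ = g * (B.j x * g⁻¹ * (B.j x)⁻¹) by group]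
        exact mul_mem hg (((mem_normalizer_iff.1 (h1 ((B.acts_j x).mem))) _).1 (inv_mem hg))
      obtain ⟨y, hy⟩ := B.mem_J.1 hc1
      rw [hNJ y (hy ▸ hc2), B.j_zero] at hy
      exact mul_inv_eq_iff_eq_mul.1 (mul_inv_eq_one.1 hy.symm)
    obtain ⟨x, rfl⟩ := B.mem_J.1 hgJ
    rw [hNJ x hg, B.j_zero]
  · -- otherwise it contains `J`, which the centralizer of `a` does not normalise
    push Not at hNJ
    obtain ⟨x, hx, hx0⟩ := hNJ
    exfalso
    have hsub : ∀ y y', B.j y ∈ N → B.j y' ∈ N → B.j (y - y') ∈ N := fun y y' hy hy' => by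
      rw [sub_eq_add_neg, B.j_add, B.j_neg]; exact mul_mem hy (inv_mem hy')
    have hperm : ∀ {n : G} {f : Vec → Vec}, B.Acts n f → ∀ y, B.j y ∈ N → B.j (f y) ∈ N := fun hf y hy => by
      rw [← hf]; exact ((mem_normalizer_iff.1 (h1 hf.mem)) _).1 hy
    have hσ : ∀ y, B.j y ∈ N → B.j (sF y) ∈ N := fun y hy => by
      have h := hperm (B.acts_p.mul B.acts_t) y hy
      exact h
    have ha : B.j (1, 1, 1) ∈ N := by
      have hneg1 : B.j (2, 2, 2) ∈ N → B.j (1, 1, 1) ∈ N := fun h => by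
        rw [show ((1, 1, 1) : Vec) = -(2, 2, 2) from rfl, B.j_neg]; exact inv_mem h
      have h1' := hsub x _ hx (hσ x hx)
      have h2' := hsub _ _ h1' (hσ _ h1')
      rcases fixed_reach x hx0 with e | e | e | e | e | e
      · exact e ▸ hx
      · exact hneg1 (e ▸ hx)
      · exact e ▸ h1'
      · exact hneg1 (e ▸ h1')
      · exact e ▸ h2'
      · exact hneg1 (e ▸ h2')
    have hO : ∀ i, B.j (pts b i) ∈ N := fun i => by
      obtain ⟨n, f, hf, hf1⟩ := B.exists_acts_to ((hb _).2 ⟨i, rfl⟩)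
      rw [← hf1]
      exact hperm hf _ ha
    have hunit : ∀ u : Vec, u = (1, 0, 0) ∨ u = (0, 1, 0) ∨ u = (0, 0, 1) → B.j u ∈ N := fun u hu => by
      obtain ⟨i, k, e | e⟩ := pts_units b u hu <;> rw [e]
      · rw [B.j_add]; exact mul_mem (hO i) (hO k)
      · rw [B.j_add, B.j_add]; exact mul_mem (mul_mem (hO i) (hO i)) (hO k)
    have h100 := hunit (1, 0, 0) (Or.inl rfl)
    have hq : B.θ qW ∈ B.θ.range := ⟨qW, rfl⟩
    have hmoved := (hN (((mem_normalizer_iff.1 (h2 hq)) _).1 h100)).1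
    obtain ⟨y, hy⟩ := B.mem_J.1 (((mem_normalizer_iff.1 hmoved) _).1 (B.j_mem (0, 1, 0)))
    refine qW_moves ⟨y, B.inj ?_⟩
    simp only [j, map_mul, map_inv] at hy ⊢
    exact hy.symm

/-- Four conjugates of `a`, none inverse to another: the group is `PSp(4,3)`. -/
theorem mulEquiv_psp_of_four [Finite G] (hF : B.Framed) (hneg : ((2, 2, 2) : Vec) ∉ B.O)
    (F : Type*) [Field F] [Fintype F] (hcard : Fintype.card F = 3) : Nonempty (G ≃* Cfsg.PSp 2 F) := by
  obtain ⟨b, hb⟩ := exists_pts hF hneg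
  have : Fact (Nat.Prime 3) := ⟨Nat.prime_three⟩
  let D : PSpFourAmalgam.Data G :=
    { A1 := normalizer (B.J : Set G)
      A2 := B.θ.range
      Q1 := B.J
      Q2 := B.Q
      Z2 := zpowers B.a
      pi1 := pi1 hb
      pi2 := B.pi2
      pi1_surj := pi1_surj hb
      pi2_surj := fun g => ⟨⟨_, ⟨0, 0, g⟩, rfl⟩, B.pi2_apply _⟩
      pi1_ker := pi1_ker hF hb
      pi2_ker := by
        rintro ⟨_, w, rfl⟩
        rw [B.pi2_apply]
        exact ⟨fun h => ⟨w, h, rfl⟩, fun ⟨w', hw', e⟩ => B.inj e ▸ hw'⟩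
      le1 := le_normalizer
      le2 := B.Q_le
      noTwoSub := B.no_index_two
      core := fun N hN h1 h2 => core_eq_bot hb N hN h1 h2
      syl := ⟨B.S, le_inf B.S_le_normalizer B.S_le_range, B.card_S⟩
      card1 := B.card_J
      ea := ?_
      faith := le_antisymm (fun g hg => B.cent_J fun y hy => ((mem_centralizer_iff.1 hg.2) y hy).symm)
        (fun g hg => ⟨le_normalizer hg, mem_centralizer_iff.2 fun y hy => B.comm_J hy hg⟩)
      card2 := B.card_Q
      cardZ := by rw [Nat.card_zpowers, B.orderOf_a]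
      cent2 := B.inf_cent_Q
      nat := fun g hg => B.nat_Q hg
      N1 := rfl
      N2 := B.normalizer_a hneg
      sig := fun L hL h => B.signalizer hL h }
  · obtain ⟨F'⟩ := D.exists_frame
    obtain ⟨K', -, hK'⟩ := F'.ctx.exists_fused
    exact hK'.nonempty_mulEquiv hcard
  · exact ⟨⟨⟨fun x y => Subtype.ext (B.comm_J x.2 y.2)⟩⟩, fun x hx => B.cube_J hx⟩

end Core

end CfsgLib.Recog.ThreeLocalSpSix
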