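import Cfsg.Agent.Lib.Recog.ThreeLocalSpSix.EightRels
import Cfsg.Agent.Lib.Recog.ThreeLocalSpSix.FourLeg
import Cfsg.Agent.Lib.Recog.ThreeLocalSpSix.AutLeg

/-!
Owner: helper24. With eight conjugates of `a` in the abelian subgroup and a subgroup of index two missing the
first reflection, that subgroup is `PSp(4,3)` and the group is its automorphism group.
-/

set_option autoImplicit false
set_option linter.all false
set_option maxRecDepth 100000

namespace CfsgLib.Recog.ThreeLocalSpSix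

open Subgroup CfsgLib.Recog.HeisSL

universe u

theorem s2_squares : ∀ g : S2, ∃ a b : S2, a * a * (b * b) = g := by decide +kernel

theorem s2_incl : ∀ a b : S2, (⟨0, 0, a⟩ : W) * ⟨0, 0, b⟩ = ⟨0, 0, a * b⟩ := by decide +kernel

theorem w_split : ∀ u : W, u = ⟨u.v, u.s, 1⟩ * ⟨0, 0, u.g⟩ := by decide +kernel

theorem w_kernel_cube : ∀ (v : Fin 2 → K) (s : K),
    (⟨v, s, 1⟩ : W) * ⟨v, s, 1⟩ * ⟨v, s, 1⟩ = 1 := by decide +kernel

/-- Every element of the model is a product of squares. -/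
theorem w_squares (u : W) : ∃ a b c : W, a * a * (b * b * (c * c)) = u := by
  obtain ⟨a, b, h⟩ := s2_squares u.g
  refine ⟨⟨u.v, u.s, 1⟩ * ⟨u.v, u.s, 1⟩, ⟨0, 0, a⟩, ⟨0, 0, b⟩, ?_⟩
  rw [s2_incl, s2_incl, s2_incl, h]
  conv_rhs => rw [w_split u]
  rw [show ∀ k : W, k * k * (k * k) = k * k * k * k from fun k => by group, w_kernel_cube, one_mul]

/-- The second reflection. -/
def r2F (x : Vec) : Vec := pF (rF (pF x))

/-- The third reflection. -/
def r3F (x : Vec) : Vec := tF (r2F (tF x))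

theorem three_refl : ∀ x : Vec, rF (r2F (r3F x)) = -x := by decide +kernel

theorem two_refl : r2F (r3F (1, 1, 1)) = (1, 2, 2) := by decide +kernel

theorem two_refl_fix : ∀ x : Vec, r2F (r3F x) = x → pF x = x → x = 0 := by decide +kernel

namespace Core

variable {G : Type u} [Group G] {B : Core G}

namespace Eight

variable (E : B.Eight)

/-- The reflection group sits inside an index two subgroup as its rotations. -/
theorem mulEquiv_aut [Finite G] (M : Subgroup G) (hM : M.index = 2) (hr : E.r ∉ M)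
    (F : Type*) [Field F] [Fintype F] (hF : Fintype.card F = 3) :
    Nonempty (G ≃* MulAut (Cfsg.PSp 2 F)) := by
  have hmul : ∀ {x y : G}, x * y ∈ M ↔ (x ∈ M ↔ y ∈ M) := fun {x y} => mul_mem_iff_of_index_two hM
  have hθ : ∀ u, B.θ u ∈ M := fun u => by
    obtain ⟨a, b, c, rfl⟩ := w_squares u
    simp only [map_mul]
    exact mul_mem (mul_self_mem_of_index_two hM _)
      (mul_mem (mul_self_mem_of_index_two hM _) (mul_self_mem_of_index_two hM _))
  have hnot : ∀ {x u}, x ∉ M → B.θ u * x * B.θ u ∉ M := fun {x u} hx h => by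
    rw [hmul, hmul] at h
    have := hθ u
    tauto
  set r2 := B.θ pW * E.r * B.θ pW with hr2
  set r3 := B.θ tW * r2 * B.θ tW with hr3
  have hr2M : r2 ∉ M := hnot hr
  have hr3M : r3 ∉ M := hnot hr2M
  have hl2 : E.I.Lift r2 r2F := E.I.lift_mul (f := pF ∘ rF) (f' := pF) (E.I.lift_mul (f := pF) (f' := rF) E.I.lift_p E.hr) E.I.lift_p
  have hl3 : E.I.Lift r3 r3F := E.I.lift_mul (f := tF ∘ r2F) (f' := tF) (E.I.lift_mul (f := tF) (f' := r2F) E.I.lift_t hl2) E.I.lift_t
  have hw : E.r * (r2 * r3) = E.I.w :=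
    E.I.lift_unique (E.I.lift_mul E.hr (E.I.lift_mul hl2 hl3)) E.I.lift_w three_refl
  have h23 : r2 * r3 ∈ M := hmul.2 (by tauto)
  have hwM : E.I.w ∉ M := fun h => by
    rw [← hw, hmul] at h
    tauto
  let B' : Core M :=
    { θ := B.θ.codRestrict M hθ
      inj := fun u v e => B.inj (congrArg Subtype.val e)
      cent := fun g hg => by
        obtain ⟨w, hw⟩ := B.cent (g : G) (congrArg Subtype.val hg.eq)
        exact ⟨w, Subtype.ext hw⟩
      sig := fun L hL h => by
        have hb := B.sig (L.map M.subtype) (by rwa [card_map_of_injective M.subtype_injective]) (by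
          rintro x _ ⟨l, hl, rfl⟩
          exact ⟨_, h x l hl, rfl⟩)
        rwa [map_eq_bot_iff_of_injective _ M.subtype_injective] at hb }
  have hO : ∀ x, x ∈ B'.O → x ∈ B.O := fun x ⟨g, hg⟩ => ⟨g, congrArg Subtype.val hg⟩
  have hF' : B'.Framed := ⟨fun x hx => E.hF.sub x (hO x hx), Or.inr ⟨⟨r2 * r3, h23⟩, Subtype.ext (by
    show r2 * r3 * B.a * (r2 * r3)⁻¹ = B.j (1, 2, 2)
    rw [← B.j_center, (hl2.1.mul hl3.1), Function.comp_apply, two_refl])⟩⟩
  have hneg : ((2, 2, 2) : Vec) ∉ B'.O := by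
    rintro ⟨⟨g, hgM⟩, hg⟩
    have hg' : g * B.a * g⁻¹ = B.j (2, 2, 2) := congrArg Subtype.val hg
    obtain ⟨u, hu⟩ := B.cent (E.I.w * g) (mul_inv_eq_iff_eq_mul.1 (by
      calc E.I.w * g * B.a * (E.I.w * g)⁻¹ = E.I.w * (g * B.a * g⁻¹) * E.I.w⁻¹ := by group
        _ = B.a := by rw [hg', E.I.neg]; exact B.j_center))
    have := hθ u
    rw [hu, hmul] at this
    tauto
  obtain ⟨e⟩ := mulEquiv_psp_of_four hF' hneg F hF
  refine mulEquiv_aut_of_index_two F hF M hM (eq_bot_iff.2 fun g hg => mem_bot.2 ?_) e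
  have hc : ∀ m ∈ M, Commute g m := fun m hm => ((mem_centralizer_iff.1 hg) m hm).symm
  obtain ⟨x, rfl⟩ := B.mem_J.1 (B.cent_J fun y hy => by
    obtain ⟨x, rfl⟩ := B.mem_J.1 hy
    exact hc _ (hθ _))
  rw [two_refl_fix x (B.j_inj (((hl2.1.mul hl3.1) x).symm.trans (mul_inv_eq_iff_eq_mul.2 (hc _ h23).symm.eq)))
    (B.j_inj ((B.acts_p x).symm.trans (mul_inv_eq_iff_eq_mul.2 (hc _ (hθ pW)).symm.eq))), B.j_zero]

end Eight

end Core

end CfsgLib.Recog.ThreeLocalSpSix
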