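import Cfsg.Agent.Lib.Recog.ThreeLocalSpSix.Eight
import Cfsg.Agent.Lib.Recog.ThreeLocalSpSix.Model.Data

/-!
Owner: helper3. The relators inside the normalizer of the abelian subgroup and the centralizer of `a`, when `a`
is conjugate to its inverse.
-/

set_option autoImplicit false
set_option linter.all false
set_option maxRecDepth 100000

namespace CfsgLib.Recog.ThreeLocalSpSix

open Subgroup CfsgLib.Recog.HeisSL

universe u

theorem qW_four : qW * qW * (qW * qW) = 1 := by decide +kernel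

theorem qW_conj_neg : qW * jW (-(0, 1, 2)) * qW⁻¹ = (pW * tW)⁻¹ := by decide +kernel

theorem qW_conj_s' : qW * (pW * tW) * qW⁻¹ = jW (-(0, 1, 2)) := by decide +kernel

/-- The coordinates of the four generators in the normalizer. -/
def repGen : Fin 4 → Vec × (Vec → Vec) := ![(0, rF), ((2, 0, 0), rF), (0, pF), (0, tF)]

/-- The coordinates of a word. -/
def repWord : List (Fin 4) → Vec × (Vec → Vec)
  | [] => (0, id)
  | i :: w => ((repGen i).1 + (repGen i).2 (repWord w).1, (repGen i).2 ∘ (repWord w).2)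

namespace Core

variable {G : Type u} [Group G]

/-- The situation with all eight vertices: the inverting involution and the first reflection. -/
structure Eight (B : Core G) where
  hF : B.Framed
  I : B.Inv
  r : G
  hr : I.Lift r rF
  hr2 : r * r = 1

namespace Eight

variable {B : Core G} (E : B.Eight)

theorem exists_eight [Finite G] (hF : B.Framed) (hinv : ∃ g : G, g * B.a * g⁻¹ = B.a⁻¹) :
    Nonempty B.Eight := by
  obtain ⟨I⟩ := B.exists_inv hinv
  obtain ⟨r, hr, hr2⟩ := I.exists_r hF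
  exact ⟨⟨hF, I, r, hr, hr2⟩⟩

/-- The first frame element. -/
def y (_E : B.Eight) : G := B.j (1, 0, 0)

/-- The four generators in the normalizer. -/
def gen4 : Fin 4 → G := ![E.r, E.r * E.y, B.θ pW, B.θ tW]

/-- The generator outside the normalizer. -/
def k : G := E.I.w * B.θ qW

/-- The five generators. -/
def gen5 : Fin 5 → G := ![E.r, E.r * E.y, B.θ pW, B.θ tW, E.k]

theorem rep_gen : ∀ i, E.I.Rep (E.gen4 i) (repGen i) := by
  have h0 : ∀ {m : G} {f : Vec → Vec}, E.I.Lift m f → E.I.Rep m (0, f) := fun {m f} h =>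
    ⟨m, h, by rw [B.j_zero, one_mul]⟩
  intro i
  fin_cases i
  · exact h0 E.hr
  · refine ⟨E.r, E.hr, ?_⟩
    show E.r * B.j (1, 0, 0) = B.j (2, 0, 0) * E.r
    have e := E.hr.1 (1, 0, 0)
    rw [show rF (1, 0, 0) = (2, 0, 0) from rfl] at e
    rw [← e]; group
  · exact h0 E.I.lift_p
  · exact h0 E.I.lift_t

theorem rep_word : ∀ w : List (Fin 4), E.I.Rep (w.map E.gen4).prod (repWord w)
  | [] => ⟨1, E.I.lift_one, by simp [repWord, B.j_zero]⟩
  | i :: w => by
    rw [List.map_cons, List.prod_cons]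
    exact E.I.rep_mul (E.rep_gen i) (rep_word w)

theorem word_eq_j (w : List (Fin 4)) (d : Vec) (h : (repWord w).1 = d ∧ ∀ x, (repWord w).2 x = x) :
    (w.map E.gen4).prod = B.j d := by
  obtain ⟨m, hm, e⟩ := E.rep_word w
  rw [e, h.1, E.I.lift_unique hm E.I.lift_one h.2, mul_one]

theorem word_eq (w : List (Fin 4)) {m : G} {f : Vec → Vec} (hm : E.I.Lift m f)
    (h : (repWord w).1 = 0 ∧ ∀ x, (repWord w).2 x = f x) : (w.map E.gen4).prod = m := by
  obtain ⟨m', hm', e⟩ := E.rep_word w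
  rw [e, h.1, B.j_zero, one_mul, E.I.lift_unique hm' hm h.2]

theorem gen5_four (w : List (Fin 4)) : (w.map fun i => E.gen5 i.castSucc) = w.map E.gen4 :=
  List.map_congr_left fun i _ => by fin_cases i <;> rfl

theorem wi : E.I.w⁻¹ = E.I.w := inv_eq_of_mul_eq_one_right E.I.sq

/-- The inverting involution inverts the element of order four. -/
theorem w_conj_q : E.I.w * B.θ qW * E.I.w⁻¹ = (B.θ qW)⁻¹ := by
  set c : W →* G := (MulAut.conj E.I.w).toMonoidHom.comp B.θ with hc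
  have hcv : ∀ u, c u = E.I.w * B.θ u * E.I.w⁻¹ := fun u => rfl
  have hp : c pW = B.θ pW := by rw [hcv, E.I.comm_p.eq, mul_inv_cancel_right]
  have ht : c tW = B.θ tW := by rw [hcv, E.I.comm_t.eq, mul_inv_cancel_right]
  have hj : ∀ x, c (jW x) = B.θ (jW (-x)) := fun x => E.I.neg x
  have ha : c z0 = (B.θ z0)⁻¹ := by
    rw [← jW_center, hj, ← map_inv]
    exact congrArg _ (eq_inv_of_mul_eq_one_left (by rw [← jW_mul, neg_add_cancel]; exact jW_zero))
  obtain ⟨u, hu⟩ := B.cent (c qW) (by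
    have h : Commute (c qW) (c z0) := (show Commute qW z0 from qW_center).map c
    rw [ha] at h
    exact Commute.inv_right_iff.1 h)
  have e : u = qW⁻¹ := by
    refine tq_fix u (B.inj ?_) (B.inj ?_) (B.inj ?_) (B.inj ?_)
    · simp only [map_mul, hu, ← ht]; rw [← map_mul, ← map_mul, qW_tW]
    · simp only [map_mul, hu, map_one]; rw [← map_mul, ← map_mul, qW_four, map_one]
    · have h := congrArg c qW_conj_neg
      simp only [map_mul, map_inv, hp, ht, hj, neg_neg] at h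
      simp only [map_mul, map_inv, hu]
      exact h
    · have h := congrArg c qW_conj_s'
      simp only [map_mul, map_inv, hp, ht, hj, neg_neg] at h
      simp only [map_mul, map_inv, hu]
      exact h
  rw [← hcv, ← hu, e, map_inv]

theorem k_sq : E.k * E.k = 1 := by
  have := E.w_conj_q
  rw [E.wi] at this
  calc E.I.w * B.θ qW * (E.I.w * B.θ qW) = E.I.w * B.θ qW * E.I.w * B.θ qW := by group
    _ = 1 := by rw [this, inv_mul_cancel]

theorem q_head : ([0, 2, 0, 2, 3, 2, 0, 2, 3, 4].map E.gen5).prod = B.θ qW := by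
  have h := E.word_eq [0, 2, 0, 2, 3, 2, 0, 2, 3] E.I.lift_w (by decide +kernel)
  rw [← E.gen5_four] at h
  rw [show ([0, 2, 0, 2, 3, 2, 0, 2, 3, 4] : List (Fin 5)) =
    ([0, 2, 0, 2, 3, 2, 0, 2, 3] : List (Fin 4)).map Fin.castSucc ++ [4] from rfl, List.map_append,
    List.prod_append, List.map_map]
  show _ * (E.k * 1) = _
  rw [Function.comp_def, h, mul_one, k, ← mul_assoc, E.I.sq, one_mul]

theorem q_tail : ([4, 3, 2, 0, 2, 3, 2, 0, 2, 0].map E.gen5).prod = (B.θ qW)⁻¹ := by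
  have h := E.word_eq [3, 2, 0, 2, 3, 2, 0, 2, 0] E.I.lift_w (by decide +kernel)
  rw [← E.gen5_four] at h
  rw [show ([4, 3, 2, 0, 2, 3, 2, 0, 2, 0] : List (Fin 5)) =
    4 :: ([3, 2, 0, 2, 3, 2, 0, 2, 0] : List (Fin 4)).map Fin.castSucc from rfl, List.map_cons,
    List.prod_cons, List.map_map]
  show E.k * _ = _
  rw [Function.comp_def, h, k, ← E.w_conj_q, E.wi]

/-- The relators shared by both groups. -/
theorem rels_local : ∀ w ∈ Model.relsSix.take 20, (w.map E.gen5).prod = 1 := by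
  have key : ∀ w : List (Fin 4), ((repWord w).1 = 0 ∧ ∀ x, (repWord w).2 x = x) →
      ((w.map Fin.castSucc).map E.gen5).prod = 1 := fun w h => by
    rw [List.map_map, Function.comp_def, E.gen5_four, E.word_eq w E.I.lift_one h]
  have mid : ∀ (w : List (Fin 4)) (d : Vec), ((repWord w).1 = d ∧ ∀ x, (repWord w).2 x = x) →
      ((w.map Fin.castSucc).map E.gen5).prod = B.j d := fun w d h => by
    rw [List.map_map, Function.comp_def, E.gen5_four, E.word_eq_j w d h]
  have hq := E.q_head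
  have hqt := E.q_tail
  simp only [Model.relsSix, List.take_succ_cons, List.take_zero, List.mem_cons, List.not_mem_nil, or_false,
    forall_eq_or_imp, forall_eq]
  refine ⟨key [0, 0] (by decide +kernel), key [1, 1] (by decide +kernel), key [2, 2] (by decide +kernel),
    key [3, 3] (by decide +kernel), by simp [gen5, E.k_sq], key [0, 1, 0, 1, 0, 1] (by decide +kernel),
    key [2, 3, 2, 3, 2, 3] (by decide +kernel), key [0, 1, 2, 0, 1, 2, 1, 0, 2, 1, 0, 2] (by decide +kernel),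
    key [0, 1, 2, 0, 2, 1, 0, 2, 0, 2] (by decide +kernel), key [0, 2, 0, 2, 0, 2, 0, 2] (by decide +kernel),
    key [2, 3, 2, 0, 1, 2, 3, 2, 3, 2, 1, 0, 2, 3] (by decide +kernel),
    key [2, 3, 2, 0, 2, 3, 2, 3, 2, 0, 2, 3] (by decide +kernel), key [3, 0, 1, 3, 1, 0] (by decide +kernel),
    key [3, 0, 3, 0] (by decide +kernel), ?_, ?_, ?_, ?_, key [0, 1, 3, 1, 0, 3] (by decide +kernel), ?_⟩
  · rw [show ([0, 2, 0, 2, 3, 2, 0, 2, 3, 4, 0, 1, 2, 0, 1, 2, 3, 2, 0, 1, 2, 3, 4, 3, 2, 0, 2, 3, 2, 0, 2, 0,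
        3, 2, 1, 0, 2, 3, 2, 1, 0, 2, 1, 0] : List (Fin 5)) =
      [0, 2, 0, 2, 3, 2, 0, 2, 3, 4] ++
      ([0, 1, 2, 0, 1, 2, 3, 2, 0, 1, 2, 3] : List (Fin 4)).map Fin.castSucc ++
      [4, 3, 2, 0, 2, 3, 2, 0, 2, 0] ++
      ([3, 2, 1, 0, 2, 3, 2, 1, 0, 2, 1, 0] : List (Fin 4)).map Fin.castSucc from rfl]
    simp only [List.map_append, List.prod_append]
    rw [hq, hqt, mid _ (1, 1, 1) (by decide +kernel), mid _ (2, 2, 2) (by decide +kernel), B.j_center,
      B.commute_a qW |>.eq, mul_inv_cancel_right, ← B.j_center, ← B.j_add]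
    exact B.j_zero
  · rw [show ([0, 2, 0, 2, 3, 2, 0, 2, 3, 4, 2, 0, 1, 2, 3, 2, 1, 0, 2, 3, 4, 3, 2, 0, 2, 3, 2, 0, 2, 0,
        3, 2] : List (Fin 5)) =
      [0, 2, 0, 2, 3, 2, 0, 2, 3, 4] ++
      ([2, 0, 1, 2, 3, 2, 1, 0, 2, 3] : List (Fin 4)).map Fin.castSucc ++
      [4, 3, 2, 0, 2, 3, 2, 0, 2, 0] ++ [3, 2] from rfl]
    simp only [List.map_append, List.prod_append]
    rw [hq, hqt, mid _ (0, 1, 2) (by decide +kernel), j, ← map_inv, ← map_mul, ← map_mul, qW_conj_x]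
    show _ * (B.θ tW * (B.θ pW * 1)) = _
    rw [mul_one, ← map_mul, ← map_mul, ← B.θ.map_one]
    exact congrArg _ (by decide +kernel)
  · rw [show ([0, 2, 0, 2, 3, 2, 0, 2, 3, 4, 2, 3, 4, 3, 2, 0, 2, 3, 2, 0, 2, 0, 2, 0, 1, 2, 3, 2, 1, 0, 2,
        3] : List (Fin 5)) =
      [0, 2, 0, 2, 3, 2, 0, 2, 3, 4] ++ [2, 3] ++ [4, 3, 2, 0, 2, 3, 2, 0, 2, 0] ++
      ([2, 0, 1, 2, 3, 2, 1, 0, 2, 3] : List (Fin 4)).map Fin.castSucc from rfl]
    simp only [List.map_append, List.prod_append]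
    rw [hq, hqt, mid _ (0, 1, 2) (by decide +kernel), j]
    show _ * (B.θ pW * (B.θ tW * 1)) * _ * _ = _
    rw [mul_one, ← map_inv, ← map_mul, ← map_mul, ← map_mul, ← map_mul, ← B.θ.map_one]
    exact congrArg _ (by decide +kernel)
  · rw [show ([0, 2, 0, 2, 3, 2, 0, 2, 3, 4, 0, 2, 0, 2, 3, 2, 0, 2, 3, 4, 3] : List (Fin 5)) =
      [0, 2, 0, 2, 3, 2, 0, 2, 3, 4] ++ [0, 2, 0, 2, 3, 2, 0, 2, 3, 4] ++ [3] from rfl]
    simp only [List.map_append, List.prod_append]
    rw [hq]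
    show _ * (B.θ tW * 1) = _
    rw [mul_one, ← map_mul, ← map_mul, qW_sq, tW_sq, map_one]
  · rw [show ([0, 1, 0, 2, 0, 2, 3, 2, 0, 2, 3, 4, 0, 1, 0, 2, 0, 2, 3, 2, 0, 2, 3, 4, 0, 1, 0, 2, 0, 2, 3, 2,
        0, 2, 3, 4, 3] : List (Fin 5)) =
      ([0, 1] : List (Fin 4)).map Fin.castSucc ++ [0, 2, 0, 2, 3, 2, 0, 2, 3, 4] ++
      (([0, 1] : List (Fin 4)).map Fin.castSucc ++ [0, 2, 0, 2, 3, 2, 0, 2, 3, 4]) ++
      (([0, 1] : List (Fin 4)).map Fin.castSucc ++ [0, 2, 0, 2, 3, 2, 0, 2, 3, 4]) ++ [3] from rfl]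
    simp only [List.map_append, List.prod_append]
    rw [hq, mid _ (1, 0, 0) (by decide +kernel), j]
    show _ * (B.θ tW * 1) = _
    rw [mul_one, ← map_mul, ← map_mul, ← map_mul, ← map_mul, yq_cube, tW_sq, map_one]

end Eight

end Core

end CfsgLib.Recog.ThreeLocalSpSix
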