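import Cfsg.Agent.Lib.Recog.ThreeLocalSpSix.CentQ
import Cfsg.Agent.Lib.Recog.ThreeLocalSpSix.Model.Main

/-!
Owner: helper3. The relators and the homomorphisms from the models.
-/

set_option autoImplicit false
set_option linter.all false
set_option maxRecDepth 100000

namespace CfsgLib.Recog.ThreeLocalSpSix

open Subgroup CfsgLib.Recog.HeisSL

universe u

theorem relsSix_split : Model.relsSix = Model.relsSix.take 20 ++
    [[0, 2, 0, 2, 3, 2, 0, 2, 3, 4, 0, 0, 2, 0, 2, 3, 2, 0, 2, 3, 4, 0, 4, 3, 2, 0, 2, 3, 2, 0, 2, 0, 0, 4, 3, 2,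
      0, 2, 3, 2, 0, 2, 0, 0]] := by decide +kernel

theorem relsSeven_split : Model.relsSeven = Model.relsSeven.take 21 ++ (Model.relsSeven.drop 21).take 11 ++
    [[0, 2, 0, 2, 3, 2, 0, 2, 3, 4, 5, 4, 3, 2, 0, 2, 3, 2, 0, 2, 0, 5]] := by decide +kernel

theorem relsSeven_head : ∀ w ∈ Model.relsSeven.take 21, w = [5, 5] ∨
    w ∈ (Model.relsSix.take 20).map fun u => u.map Fin.castSucc := by decide +kernel

namespace Core

namespace Eight

variable {G : Type u} [Group G] {B : Core G} (E : B.Eight)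

theorem gen5_ne : E.gen5 0 * E.gen5 1 ≠ 1 := by
  show E.r * (E.r * E.y) ≠ 1
  rw [← mul_assoc, E.hr2, one_mul]
  exact fun h => absurd (B.j_eq_one h) short_ne

theorem gen6_castSucc (v : G) (i : Fin 5) : E.gen6 v i.castSucc = E.gen5 i := by
  fin_cases i <;> rfl

theorem q_commute_conj {x : G} (h : x ∈ B.CQ) : B.θ qW * x * (B.θ qW)⁻¹ = x := by
  rw [((B.mem_CQ.1 h) _ qW_mem).symm.eq, mul_inv_cancel_right]

theorem relsSix_of (hQ : E.Q' ≤ B.CQ) : ∀ w ∈ Model.relsSix, (w.map E.gen5).prod = 1 := by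
  intro w hw
  rw [relsSix_split, List.mem_append, List.mem_singleton] at hw
  rcases hw with hw | rfl
  · exact E.rels_local w hw
  rw [show ([0, 2, 0, 2, 3, 2, 0, 2, 3, 4, 0, 0, 2, 0, 2, 3, 2, 0, 2, 3, 4, 0, 4, 3, 2, 0, 2, 3, 2, 0, 2, 0, 0,
      4, 3, 2, 0, 2, 3, 2, 0, 2, 0, 0] : List (Fin 5)) =
    [0, 2, 0, 2, 3, 2, 0, 2, 3, 4] ++ ([0] ++ [0, 2, 0, 2, 3, 2, 0, 2, 3, 4] ++ [0]) ++
      [4, 3, 2, 0, 2, 3, 2, 0, 2, 0] ++ ([0] ++ [4, 3, 2, 0, 2, 3, 2, 0, 2, 0] ++ [0]) from rfl]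
  simp only [List.map_append, List.prod_append, E.q_head, E.q_tail,
    show ([0].map E.gen5).prod = E.r from List.prod_singleton]
  have hx : E.r * B.θ qW * E.r ∈ B.CQ := hQ (E.mem_Q'.2 (by
    rw [show E.r * (E.r * B.θ qW * E.r) * E.r = E.r * E.r * B.θ qW * (E.r * E.r) by group, E.hr2, one_mul, mul_one]
    exact B.mem_quat.2 ⟨_, qW_mem, rfl⟩))
  rw [q_commute_conj hx]
  calc E.r * B.θ qW * E.r * (E.r * (B.θ qW)⁻¹ * E.r)
      = E.r * B.θ qW * (E.r * E.r) * (B.θ qW)⁻¹ * E.r := by group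
    _ = 1 := by rw [E.hr2, mul_one, mul_inv_cancel_right, E.hr2]

theorem relsSeven_of (V : E.Vee) (hv : V.v ∈ B.CQ) : ∀ w ∈ Model.relsSeven, (w.map (E.gen6 V.v)).prod = 1 := by
  intro w hw
  rw [relsSeven_split, List.mem_append, List.mem_append, List.mem_singleton] at hw
  rcases hw with (hw | hw) | rfl
  · rcases relsSeven_head w hw with rfl | hw'
    · show V.v * (V.v * 1) = 1
      rw [mul_one, V.sq]
    · obtain ⟨u, hu, rfl⟩ := List.mem_map.1 hw'
      rw [List.map_map, Function.comp_def]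
      simp only [E.gen6_castSucc]
      exact E.rels_local u hu
  · exact V.rels w hw
  rw [show ([0, 2, 0, 2, 3, 2, 0, 2, 3, 4, 5, 4, 3, 2, 0, 2, 3, 2, 0, 2, 0, 5] : List (Fin 6)) =
    ([0, 2, 0, 2, 3, 2, 0, 2, 3, 4] : List (Fin 5)).map Fin.castSucc ++ [5] ++
      ([4, 3, 2, 0, 2, 3, 2, 0, 2, 0] : List (Fin 5)).map Fin.castSucc ++ [5] from rfl]
  simp only [List.map_append, List.prod_append, List.map_map, Function.comp_def, E.gen6_castSucc]
  rw [E.q_head, E.q_tail, show ([5].map (E.gen6 V.v)).prod = V.v from List.prod_singleton, q_commute_conj hv, V.sq]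

/-- The model of `W(E₆)` inside the group. -/
theorem exists_six [Finite G] (hQ : E.Q' ≤ B.CQ) :
    ∃ φ : Model.Six →* G, Function.Injective φ ∧ ∀ i, φ (Model.sixGen i) = E.gen5 i :=
  Model.exists_hom_six E.gen5 (E.relsSix_of hQ) E.gen5_ne

/-- The model of `Sp₆(2)` inside the group. -/
theorem exists_seven [Finite G] (V : E.Vee) (hv : V.v ∈ B.CQ) :
    ∃ φ : Model.Sp62 →* G, Function.Injective φ ∧ ∀ i, φ (Model.gen i) = E.gen6 V.v i :=
  Model.exists_hom_seven (E.gen6 V.v) (E.relsSeven_of V hv) E.gen5_ne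

/-- In the smaller case the second quaternion group centralizes the first. -/
theorem Q'_le_of_small [Finite G] (h : ∀ g : G, Commute g (B.j (1, 0, 0)) → g ∈ normalizer (B.J : Set G)) :
    E.Q' ≤ B.CQ ∧ ∀ c ∈ B.CQ, ∃ n ∈ E.Q', Commute (n * c) B.a := by
  refine E.cent_Q_structure.resolve_left ?_
  rintro ⟨L, hLC, hL, htL, hLa, g, hg, hg1, hgt⟩
  have h1 := E.mem_t_of_normalizer (hLC hg) (h g (hL g hg).1) (hL g hg).2.2
    (hL _ (mul_mem hg (hLa _ (inv_mem hg)))).2.2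
  rcases B.mem_zpowers_t h1 with e | e
  · exact hg1 e
  · exact hgt e

/-- In the larger case the seventh generator centralizes the quaternion group, or the second one does with
nothing more. -/
theorem dichotomy_large [Finite G] (V : E.Vee) :
    V.v ∈ B.CQ ∨ (E.Q' ≤ B.CQ ∧ ∀ c ∈ B.CQ, ∃ n ∈ E.Q', Commute (n * c) B.a) := by
  refine E.cent_Q_structure.imp_left ?_
  rintro ⟨L, hLC, hL, htL, hLa, hex⟩
  exact hLC (V.absorb L hL htL hLa hex)

end Eight

end Core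

end CfsgLib.Recog.ThreeLocalSpSix
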