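import Cfsg.Agent.Lib.Recog.ThreeLocalSpSix.EightRels
import Mathlib.GroupTheory.SpecificGroups.Dihedral

/-!
Owner: helper3. Finite checks for the stabilisers of a short and of a middle vector in the monomial group.
-/

set_option autoImplicit false
set_option linter.all false
set_option maxRecDepth 100000

namespace CfsgLib.Recog.ThreeLocalSpSix

/-- Two commuting signs and exchanges fixing a middle vector. -/
def wordMiddle (s : Multiplicative (ZMod 2 × ZMod 2)) : List (Fin 4) :=
  (if s.toAdd.1 = 1 then [0] else []) ++ if s.toAdd.2 = 1 then [3] else []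

/-- The dihedral group fixing a short vector. -/
def wordShort : DihedralGroup 4 → List (Fin 4)
  | .r i => (List.replicate i.val [3, 2, 0, 2]).flatten
  | .sr i => 3 :: (List.replicate i.val [3, 2, 0, 2]).flatten

/-- The finite facts needed for a stabiliser given by words. -/
structure StabWords (x : Vec) (S : Type) [Group S] [Fintype S] (wd : S → List (Fin 4)) : Prop where
  fix : ∀ s, (repWord (wd s)).1 = 0 ∧ (repWord (wd s)).2 x = x
  mul : ∀ s s' u, (repWord (wd s)).2 ((repWord (wd s')).2 u) = (repWord (wd (s * s'))).2 u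
  faith : ∀ s, (∀ u, (repWord (wd s)).2 u - u ∈ ([0, x, -x] : List Vec)) → s = 1
  stab : ∀ e ∈ eight, ∀ π ∈ perms, e * π x = x → ∃ s, ∀ u ∈ ([(1, 0, 0), (0, 1, 0), (0, 0, 1)] : List Vec), e * π u = (repWord (wd s)).2 u
  four : ∀ s : S, s * s * (s * s) = 1

/-- The monomial maps fixing `x` are among those given by the words. -/
def stabCheck (x : Vec) (ws : List (List (Fin 4))) : Bool :=
  eight.all fun e => perms.all fun π =>
    if e * π x = x then
      ws.any fun w => e * π (1, 0, 0) == (repWord w).2 (1, 0, 0) && e * π (0, 1, 0) == (repWord w).2 (0, 1, 0) &&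
        e * π (0, 0, 1) == (repWord w).2 (0, 0, 1)
    else true

theorem stab_of_check {S : Type} (x : Vec) (wd : S → List (Fin 4)) (ss : List S)
    (h : stabCheck x (ss.map wd) = true) (e : Vec) (he : e ∈ eight) (π : Vec → Vec) (hπ : π ∈ perms)
    (hfix : e * π x = x) :
    ∃ s, ∀ u ∈ ([(1, 0, 0), (0, 1, 0), (0, 0, 1)] : List Vec), e * π u = (repWord (wd s)).2 u := by
  have h2 := List.all_eq_true.1 (List.all_eq_true.1 h e he) π hπ
  rw [if_pos hfix, List.any_map, List.any_eq_true] at h2
  obtain ⟨s, -, hs⟩ := h2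
  simp only [Function.comp_apply, Bool.and_eq_true, beq_iff_eq] at hs
  refine ⟨s, fun u hu => ?_⟩
  simp only [List.mem_cons, List.not_mem_nil, or_false] at hu
  rcases hu with rfl | rfl | rfl
  exacts [hs.1.1, hs.1.2, hs.2]

theorem middle_words : StabWords (0, 1, 1) (Multiplicative (ZMod 2 × ZMod 2)) wordMiddle :=
  ⟨by decide +kernel, by decide +kernel, by decide +kernel,
    stab_of_check _ _ [Multiplicative.ofAdd (0, 0), Multiplicative.ofAdd (1, 0), Multiplicative.ofAdd (0, 1),
      Multiplicative.ofAdd (1, 1)] (by decide +kernel),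
    by decide +kernel⟩

theorem short_words : StabWords (1, 0, 0) (DihedralGroup 4) wordShort :=
  ⟨by decide +kernel, by decide +kernel, by decide +kernel,
    stab_of_check _ _ [.r 0, .r 1, .r 2, .r 3, .sr 0, .sr 1, .sr 2, .sr 3] (by decide +kernel),
    by decide +kernel⟩

end CfsgLib.Recog.ThreeLocalSpSix
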