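import Cfsg.Agent.Lib.Recog.ThreeLocalSpSix.QuotCent
import Cfsg.Agent.S3805
import Cfsg.Agent.S3333

/-!
Owner: helper3. The centralizer of a middle vector lies in the normalizer of the abelian subgroup; the
centralizer of a short vector does so too or is the symmetric group of degree six modulo the vector.
-/

set_option autoImplicit false
set_option linter.all false
set_option maxRecDepth 100000

namespace CfsgLib.Recog.ThreeLocalSpSix

open Subgroup CfsgLib.Recog.HeisSL

universe u

namespace Core

namespace Eight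

variable {G : Type u} [Group G] {B : Core G} (E : B.Eight)

include E in
/-- The centralizer of a middle vector. -/
theorem cent_middle [Finite G] {g : G} (hg : Commute g (B.j (0, 1, 1))) : g ∈ normalizer (B.J : Set G) := by
  suffices h : (B.T (0, 1, 1)).Normal from E.le_normalizer_of_normal h (B.mem_D.2 hg)
  obtain ⟨T, hT⟩ : ∃ T : Sylow 3 ((B.D (0, 1, 1)) ⧸ B.Z (0, 1, 1)),
      (T : Subgroup ((B.D (0, 1, 1)) ⧸ B.Z (0, 1, 1))) = B.T (0, 1, 1) :=
    ⟨E.sylT (by decide) middle_words, E.sylT_coe _ _⟩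
  obtain ⟨e⟩ := E.quot_equiv middle_words
  rw [← hT] at e ⊢
  refine normalizer_eq_top_iff.1 (Cfsg.Agent.S3805.result T (hT ▸ B.T_elementary _)
    (by rw [hT]; exact B.card_T (by decide)) (by rw [hT]; exact E.cent_T middle_words) ?_ ?_)
  · have hc := Nat.card_congr e.toEquiv
    refine ⟨hc.trans (by rw [Nat.card_eq_fintype_card]; rfl), ?_⟩
    rw [Monoid.exponent_eq_of_mulEquiv e]
    refine ((Nat.dvd_prime Nat.prime_two).1 (Monoid.exponent_dvd_of_forall_pow_eq_one ?_)).resolve_left fun h => ?_
    · intro a; revert a; decide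
    · exact absurd (Monoid.exp_eq_one_iff.1 h) fun hs => by
        have := @Subsingleton.elim _ hs (Multiplicative.ofAdd ((1 : ZMod 2), (0 : ZMod 2))) 1
        exact absurd this (by decide)
  · intro t ht ht1
    rw [hT] at ht ⊢
    exact E.loc (by simp) middle_words t ht ht1

include E in
/-- The two possibilities for the centralizer of a short vector. -/
theorem cent_short [Finite G] : (∀ g : G, Commute g (B.j (1, 0, 0)) → g ∈ normalizer (B.J : Set G)) ∨
    Nonempty ((B.D (1, 0, 0)) ⧸ B.Z (1, 0, 0) ≃* Equiv.Perm (Fin 6)) := by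
  obtain ⟨T, hT⟩ : ∃ T : Sylow 3 ((B.D (1, 0, 0)) ⧸ B.Z (1, 0, 0)),
      (T : Subgroup ((B.D (1, 0, 0)) ⧸ B.Z (1, 0, 0))) = B.T (1, 0, 0) :=
    ⟨E.sylT (by decide) short_words, E.sylT_coe _ _⟩
  obtain ⟨e⟩ := E.quot_equiv short_words
  refine (Cfsg.Agent.S3333.result T (B.T (1, 0, 0)) hT.symm (B.card_T (by decide)) (E.cent_T short_words) e
    fun t ht ht1 => E.loc (by simp) short_words t ht ht1).imp_left fun h g hg =>
      E.le_normalizer_of_normal h (B.mem_D.2 hg)

end Eight

end Core

end CfsgLib.Recog.ThreeLocalSpSix
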