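import Cfsg.Agent.Lib.Recog.HeisSL.Basic

/-!
Owner: helper3. Facts about the model of the centralizer of a 3-central element of PSp(4,3): the abelian
subgroup of order 27 in monomial coordinates, the elements permuting its frame, and the quaternion group.
-/

set_option autoImplicit false
set_option linter.all false
set_option maxRecDepth 100000

namespace CfsgLib.Recog.ThreeLocalSpSix

open CfsgLib.Recog.HeisSL

/-- Vectors of the abelian subgroup, in coordinates permuted by the frame. -/
abbrev Vec := K × K × K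

/-- The upper unitriangular matrix. -/
def uu (b : K) : S2 := ⟨!![1, b; 0, 1], by rw [Matrix.det_fin_two_of]; ring⟩

theorem uu_zero : uu 0 = 1 := by decide +kernel

theorem uu_add : ∀ b b' : K, uu b * uu b' = uu (b + b') := by decide +kernel

/-- The element of the model with the given vector. -/
def jW (x : Vec) : W :=
  ⟨![x.2.1 + 2 * x.2.2, 0], 2 * x.2.1 + 2 * x.2.2, uu (-(x.1 + x.2.1 + x.2.2))⟩

/-- The plane of vectors of coordinate sum zero. -/
def sum3 (x : Vec) : K := x.1 + x.2.1 + x.2.2

instance : Fintype W := Fintype.ofEquiv _ toProd.symm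

instance : DecidableEq W := fun a b => decidable_of_iff (toProd a = toProd b) toProd.injective.eq_iff

theorem jW_mul : ∀ x x' : Vec, jW (x + x') = jW x * jW x' := by decide +kernel

theorem jW_inj : ∀ x x' : Vec, jW x = jW x' → x = x' := by decide +kernel

theorem jW_center : jW (1, 1, 1) = z0 := by decide +kernel

/-- The element exchanging the first two coordinates. -/
def pW : W := ⟨![0, 1], 0, -1⟩

/-- The element exchanging the last two coordinates. -/
def tW : W := ⟨0, 0, -1⟩

/-- The element of order four of the quaternion group. -/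
def qW : W := ⟨0, 0, ⟨!![0, 1; -1, 0], by rw [Matrix.det_fin_two_of]; ring⟩⟩

theorem pW_sq : pW * pW = 1 := by decide +kernel

theorem tW_sq : tW * tW = 1 := by decide +kernel

theorem pt_cube : pW * tW * (pW * tW) * (pW * tW) = 1 := by decide +kernel

theorem pW_conj : ∀ x : Vec, pW * jW x * pW = jW (x.2.1, x.1, x.2.2) := by decide +kernel

theorem tW_conj : ∀ x : Vec, tW * jW x * tW = jW (x.1, x.2.2, x.2.1) := by decide +kernel

theorem qW_sq : qW * qW = tW := by decide +kernel

theorem qW_center : qW * z0 = z0 * qW := by decide +kernel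

theorem qW_tW : qW * tW = tW * qW := by decide +kernel

theorem qW_conj_x : qW * jW (0, 1, 2) * qW⁻¹ = pW * tW := by decide +kernel

theorem qW_conj_s : qW * (pW * tW) * qW⁻¹ = (jW (0, 1, 2))⁻¹ := by decide +kernel

theorem yq_cube : jW (1, 0, 0) * qW * (jW (1, 0, 0) * qW) * (jW (1, 0, 0) * qW) = tW := by decide +kernel

/-- The Sylow subgroup of the model: upper unitriangular part. -/
def sylW : Subgroup W where
  carrier := {w | w.g = uu 0 ∨ w.g = uu 1 ∨ w.g = uu 2}
  one_mem' := Or.inl uu_zero.symm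
  mul_mem' := by
    intro a b ha hb
    simp only [Set.mem_ofPred_eq, mul_def] at *
    rcases ha with e | e | e <;> rcases hb with e' | e' | e' <;> rw [e, e', uu_add] <;> decide
  inv_mem' := by
    intro a ha
    simp only [Set.mem_ofPred_eq, inv_def] at *
    rcases ha with e | e | e <;> rw [e] <;> decide +kernel

theorem mem_sylW {w : W} : w ∈ sylW ↔ w.g = uu 0 ∨ w.g = uu 1 ∨ w.g = uu 2 := Iff.rfl

/-- The centralizer of the abelian subgroup is itself. -/
theorem jW_cent : ∀ w : W, w * jW (1, 0, 0) = jW (1, 0, 0) * w →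
    w * jW (0, 1, 0) = jW (0, 1, 0) * w → ∃ x, w = jW x := by decide +kernel

/-- An element of order three of the Sylow subgroup lies in the abelian subgroup or in the kernel. -/
theorem sylW_three : ∀ w : W, (w.g = uu 0 ∨ w.g = uu 1 ∨ w.g = uu 2) → w * w * w = 1 →
    w.g = 1 ∨ ∃ x, w = jW x := by decide +kernel

/-- Every element of the kernel is conjugate into the abelian subgroup. -/
theorem kernel_conj : ∀ (v : Fin 2 → K) (s : K), ∃ g : S2, ∃ x : Vec,
    (⟨0, 0, g⟩ : W) * ⟨v, s, 1⟩ * (⟨0, 0, g⟩ : W)⁻¹ = jW x := by decide +kernel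

/-- An element of the Sylow subgroup outside the abelian subgroup centralizes only the centre in it. -/
theorem sylW_fix : ∀ w : W, (w.g = uu 0 ∨ w.g = uu 1 ∨ w.g = uu 2) → ∀ x : Vec,
    w * jW x = jW x * w → (∃ x', w = jW x') ∨ x.1 = x.2.1 ∧ x.2.1 = x.2.2 := by decide +kernel

/-- The normalizer of the abelian subgroup permutes the frame. -/
theorem jW_norm : ∀ w : W, (∃ x, w * jW (1, 0, 0) * w⁻¹ = jW x) →
    (∀ x : Vec, w * jW x * w⁻¹ = jW x) ∨ (∀ x : Vec, w * jW x * w⁻¹ = jW (x.2.2, x.1, x.2.1)) ∨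
    (∀ x : Vec, w * jW x * w⁻¹ = jW (x.2.1, x.2.2, x.1)) ∨ (∀ x : Vec, w * jW x * w⁻¹ = jW (x.2.1, x.1, x.2.2)) ∨
    (∀ x : Vec, w * jW x * w⁻¹ = jW (x.1, x.2.2, x.2.1)) ∨ (∀ x : Vec, w * jW x * w⁻¹ = jW (x.2.2, x.2.1, x.1)) := by
  decide +kernel

end CfsgLib.Recog.ThreeLocalSpSix
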