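import Cfsg.Agent.Lib.Recog.ThreeLocalSpSix.ActTables

/-!
Owner: helper3. Finite checks: a map inverting `(1,1,1)` and normalizing the permutations is minus a
permutation; the element inverting the abelian subgroup can be chosen to commute with the permutations.
-/

set_option autoImplicit false
set_option linter.all false
set_option maxRecDepth 100000

namespace CfsgLib.Recog.ThreeLocalSpSix

open CfsgLib.Recog.HeisSL

/-- The map inverting `(1,1,1)` with the given images of the first two frame vectors. -/
def negMap (b1 b2 : Vec) : Vec → Vec := lin b1 b2 ((2, 2, 2) - b1 - b2)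

set_option synthInstance.maxSize 100000 in
set_option synthInstance.maxHeartbeats 200000 in
theorem neg_perm : ∀ b1 b2 : Vec,
    isPerm (fun x => negMap b1 b2 (negMap b1 b2 x)) = true →
    isPerm (fun x => negMap b1 b2 (sF (negMap b1 b2 x))) = true →
      isPerm (fun x => negMap b1 b2 (tF (negMap b1 b2 x))) = true →
        ∃ π ∈ perms, ∀ x : Vec, negMap b1 b2 x = -π x := by decide +kernel

theorem cocycle : ∀ dt dp : Vec, tF dt + dt = 0 → pF dp + dp = 0 →
    (pF dt + dp) + (sF (pF dt + dp) + sF (sF (pF dt + dp))) = 0 →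
      ∃ i : Vec, tF i + dt = i ∧ pF i + dp = i := by decide +kernel

/-- Inversion of the first coordinate. -/
def rF (x : Vec) : Vec := (-x.1, x.2.1, x.2.2)

theorem eq_neg_self : ∀ x : Vec, x = -x → x = 0 := by decide +kernel

theorem neg_double : ∀ d : Vec, d + d = -d := by decide +kernel

theorem sF_inv : ∀ x : Vec, sF (sF (sF x)) = x := by decide +kernel

theorem tq_fix : ∀ u : W, u * tW = tW * u → u * u * (u * u) = 1 →
    u * jW (0, 1, 2) * u⁻¹ = (pW * tW)⁻¹ → u * (pW * tW) * u⁻¹ = jW (0, 1, 2) → u = qW⁻¹ := by decide +kernel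

end CfsgLib.Recog.ThreeLocalSpSix
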