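import Cfsg.Agent.Lib.Recog.ThreeLocalSpSix.Cases
import Cfsg.Agent.Lib.Recog.ThreeLocalSpSix.NegTables

/-!
Owner: helper3. When `a` is conjugate to its inverse: an involution inverting the abelian subgroup and commuting
with the permutations; its centralizer in the normalizer is a complement, so elements there multiply as pairs of
a vector and a map.
-/

set_option autoImplicit false
set_option linter.all false
set_option maxRecDepth 100000

namespace CfsgLib.Recog.ThreeLocalSpSix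

open Subgroup CfsgLib.Recog.HeisSL

universe u

namespace Core

variable {G : Type u} [Group G] (B : Core G)

theorem two_vec : ((2, 2, 2) : Vec) = -(1, 1, 1) := rfl

/-- Some element inverts the abelian subgroup. -/
theorem exists_neg [Finite G] (h : ∃ g : G, g * B.a * g⁻¹ = B.a⁻¹) : ∃ n, B.Acts n (fun x => -x) := by
  have hO : ((2, 2, 2) : Vec) ∈ B.O := by
    obtain ⟨g, hg⟩ := h
    exact ⟨g, by rw [hg, two_vec, B.j_neg, B.j_center]⟩
  obtain ⟨n, f, hf, hf1⟩ := B.exists_acts_to hO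
  have h0 : f 0 = 0 := by
    have := hf.add 0 0
    rw [add_zero] at this
    exact left_eq_add.1 this
  have hneg : ∀ x, f (-x) = -f x := fun x => by
    have h1 := hf.add x (-x)
    rw [add_neg_cancel, h0] at h1
    exact eq_neg_of_add_eq_zero_right h1.symm
  have hb3 : f (0, 0, 1) = (2, 2, 2) - f (1, 0, 0) - f (0, 1, 0) := by
    have h2 : f (1, 1, 1) = f (1, 0, 0) + f (0, 1, 0) + f (0, 0, 1) := by
      rw [← hf.add, ← hf.add]; rfl
    rw [hf1] at h2
    rw [h2]; abel
  have hlin : ∀ x, lin (f (1, 0, 0)) (f (0, 1, 0)) ((2, 2, 2) - f (1, 0, 0) - f (0, 1, 0)) x = f x := fun x => by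
    rw [← hb3]; exact (hf.eq_lin x).symm
  have hf2 : f (2, 2, 2) = (1, 1, 1) := by rw [two_vec, hneg, hf1]; rfl
  have key : ∀ (m : G) (h : Vec → Vec), B.Acts m h → h (1, 1, 1) = (1, 1, 1) →
      isPerm (fun x => lin (f (1, 0, 0)) (f (0, 1, 0)) ((2, 2, 2) - f (1, 0, 0) - f (0, 1, 0))
        (h (lin (f (1, 0, 0)) (f (0, 1, 0)) ((2, 2, 2) - f (1, 0, 0) - f (0, 1, 0)) x))) = true := by
    intro m h hm hh
    rw [isPerm_congr (g := (f ∘ h) ∘ f) (fun x => by simp [hlin])]
    refine B.isPerm_of_fix ((hf.mul hm).mul hf) ?_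
    have h00 : h (2, 2, 2) = (2, 2, 2) := by
      have h1 := hm.add (1, 1, 1) (1, 1, 1)
      rw [hh] at h1
      exact h1
    simp only [Function.comp_apply, hf1, h00, hf2]
  obtain ⟨π, hπ, e⟩ := neg_perm (f (1, 0, 0)) (f (0, 1, 0)) (key 1 id Acts.one rfl)
    (key _ sF (fun x => (B.acts_p.mul B.acts_t) x) rfl) (key _ tF B.acts_t rfl)
  obtain ⟨π', hπ', hinv⟩ := perms_inverse π hπ
  obtain ⟨m, hm⟩ := B.acts_perms π' hπ'
  refine ⟨m * n, fun x => ((hm.mul hf) x).trans ?_⟩
  have h1 : f x = -π x := (hlin x).symm.trans (e x)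
  have h2 : π' (-π x) = -x := by
    have hn : ∀ π ∈ perms, ∀ y : Vec, π (-y) = -π y := by decide +kernel
    rw [hn π' hπ', hinv]
  show B.j (π' (f x)) = _
  rw [h1, h2]

/-- An involution inverting the abelian subgroup and commuting with the permutations. -/
structure Inv where
  w : G
  sq : w * w = 1
  neg : B.Acts w (fun x => -x)
  comm_p : Commute w (B.θ pW)
  comm_t : Commute w (B.θ tW)

theorem exists_inv [Finite G] (h : ∃ g : G, g * B.a * g⁻¹ = B.a⁻¹) : Nonempty B.Inv := by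
  obtain ⟨n, hn⟩ := B.exists_neg h
  have hnn : n * n ∈ B.J := (hn.mul hn).mem_J fun x => neg_neg x
  have hn2 : n * n = 1 := by
    obtain ⟨x, hx⟩ := B.mem_J.1 hnn
    have e := hn x
    rw [hx, show n * (n * n) * n⁻¹ = n * n by group, ← hx] at e
    have := B.j_inj e
    rw [eq_neg_self x this, B.j_zero] at hx
    exact hx.symm
  have hd : ∀ {u : G} {φ : Vec → Vec}, B.Acts u φ → (∀ x, φ (-x) = -φ x) → u * u = 1 → (∀ x, φ (φ x) = x) →
      ∃ d : Vec, u * n * u = B.j d * n ∧ φ d + d = 0 := by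
    intro u φ hu hφ hu2 hinv
    have hui : u⁻¹ = u := inv_eq_of_mul_eq_one_right hu2
    obtain ⟨d, hd⟩ := B.mem_J.1 (((hu.mul hn).mul hu).mul hn |>.mem_J fun x => by
      simp only [Function.comp_apply, hφ, hinv, neg_neg])
    have e1 : u * n * u = B.j d * n := by rw [hd, mul_assoc (u * n * u), hn2, mul_one]
    refine ⟨d, e1, B.j_eq_one (mul_eq_right.1 (?_ : B.j (φ d + d) * n = n))⟩
    calc B.j (φ d + d) * n = B.j (φ d) * (u * n * u) := by rw [e1, B.j_add, mul_assoc]
      _ = u * (B.j d * n) * u := by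
        rw [← hu, hui]
        simp only [mul_assoc]
        rw [← mul_assoc u u, hu2, one_mul]
      _ = n := by
        rw [← e1]
        simp only [mul_assoc]
        rw [hu2, mul_one, ← mul_assoc u u, hu2, one_mul]
  have hp2 : B.θ pW * B.θ pW = 1 := by rw [← map_mul, pW_sq, map_one]
  have ht2 : B.θ tW * B.θ tW = 1 := by rw [← map_mul, tW_sq, map_one]
  obtain ⟨dt, et, ht0⟩ := hd B.acts_t (fun x => rfl) ht2 (fun x => rfl)
  obtain ⟨dp, ep, hp0⟩ := hd B.acts_p (fun x => rfl) hp2 (fun x => rfl)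
  set s := B.θ pW * B.θ tW with hs
  have hpi : (B.θ pW)⁻¹ = B.θ pW := inv_eq_of_mul_eq_one_right hp2
  have hti : (B.θ tW)⁻¹ = B.θ tW := inv_eq_of_mul_eq_one_right ht2
  have es : s * n * s⁻¹ = B.j (pF dt + dp) * n := by
    calc s * n * s⁻¹ = B.θ pW * (B.θ tW * n * B.θ tW) * B.θ pW := by
          rw [hs, mul_inv_rev, hpi, hti]; simp only [mul_assoc]
      _ = (B.θ pW * B.j dt * (B.θ pW)⁻¹) * (B.θ pW * n * B.θ pW) := by rw [et]; simp only [mul_assoc]; group
      _ = _ := by rw [B.acts_p, ep, B.j_add, mul_assoc]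
  have hsA : B.Acts s sF := fun x => (B.acts_p.mul B.acts_t) x
  have hs3 : s * s * s = 1 := by
    rw [hs, ← map_mul, ← map_mul, ← map_mul, pt_cube, map_one]
  have hcyc : pF dt + dp + (sF (pF dt + dp) + sF (sF (pF dt + dp))) = 0 := by
    set D := pF dt + dp
    refine B.j_eq_one (mul_eq_right.1 (?_ : B.j (D + (sF D + sF (sF D))) * n = n))
    have e3 : s * (s * (s * n * s⁻¹) * s⁻¹) * s⁻¹ = n := by
      calc _ = (s * s * s) * n * (s * s * s)⁻¹ := by group
        _ = n := by rw [hs3]; simp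
    calc B.j (D + (sF D + sF (sF D))) * n = B.j (sF (sF D)) * (B.j (sF D) * (B.j D * n)) := by
          rw [← mul_assoc, ← mul_assoc, ← B.j_add, ← B.j_add]; congr 2; abel
      _ = B.j (sF (sF D)) * (B.j (sF D) * (s * n * s⁻¹)) := by rw [es]
      _ = B.j (sF (sF D)) * (s * (B.j D * n) * s⁻¹) := by
          congr 1
          calc B.j (sF D) * (s * n * s⁻¹) = (s * B.j D * s⁻¹) * (s * n * s⁻¹) := by rw [hsA]
            _ = _ := by group
      _ = (s * B.j (sF D) * s⁻¹) * (s * (s * n * s⁻¹) * s⁻¹) := by rw [hsA, es]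
      _ = s * (B.j (sF D) * (s * n * s⁻¹)) * s⁻¹ := by group
      _ = s * (s * (B.j D * n) * s⁻¹) * s⁻¹ := by
          congr 2
          calc B.j (sF D) * (s * n * s⁻¹) = (s * B.j D * s⁻¹) * (s * n * s⁻¹) := by rw [hsA]
            _ = _ := by group
      _ = n := by rw [← es]; exact e3
  obtain ⟨i, hit, hip⟩ := cocycle dt dp ht0 hp0 hcyc
  have hwA : B.Acts (B.j i * n) (fun x => -x) := fun x => ((B.acts_j i).mul hn) x
  have hcomm : ∀ {u : G} {φ : Vec → Vec} {d : Vec}, B.Acts u φ → u * u = 1 → u * n * u = B.j d * n →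
      φ i + d = i → Commute (B.j i * n) u := by
    intro u φ d hu hu2 e1 hfix
    have hui : u⁻¹ = u := inv_eq_of_mul_eq_one_right hu2
    have : u * (B.j i * n) * u = B.j i * n := by
      calc u * (B.j i * n) * u = (u * B.j i * u⁻¹) * (u * n * u) := by group
        _ = B.j (φ i) * (B.j d * n) := by rw [hu, e1]
        _ = _ := by rw [← mul_assoc, ← B.j_add, hfix]
    show _ = _
    conv_rhs => rw [← this]
    simp only [← mul_assoc, hu2, one_mul]
  refine ⟨⟨B.j i * n, ?_, hwA, hcomm B.acts_p hp2 ep hip, hcomm B.acts_t ht2 et hit⟩⟩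
  calc B.j i * n * (B.j i * n) = B.j i * (n * B.j i * n⁻¹) * (n * n) := by group
    _ = 1 := by rw [hn, hn2, mul_one, B.j_neg, mul_inv_cancel]

namespace Inv

variable {B} (I : B.Inv)

/-- An element of the complement with the given action. -/
def Lift (m : G) (f : Vec → Vec) : Prop := B.Acts m f ∧ Commute m I.w

theorem lift_one : I.Lift 1 id := ⟨Acts.one, Commute.one_left _⟩

theorem lift_mul {m m' : G} {f f' : Vec → Vec} (h : I.Lift m f) (h' : I.Lift m' f') :
    I.Lift (m * m') (f ∘ f') := ⟨h.1.mul h'.1, h.2.mul_left h'.2⟩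

theorem lift_unique {m m' : G} {f f' : Vec → Vec} (h : I.Lift m f) (h' : I.Lift m' f') (e : ∀ x, f x = f' x) :
    m = m' := by
  obtain ⟨g, hg⟩ : ∃ g : Vec → Vec, ∀ x, f (g x) = x := ⟨_, fun x => (h.1.surj x).choose_spec⟩
  obtain ⟨x, hx⟩ := B.mem_J.1 (((h.1.inv hg).mul h'.1).mem_J fun y => h.1.inj (by
    simp only [Function.comp_apply, hg, ← e]))
  have hc : Commute (B.j x) I.w := hx ▸ h.2.inv_left.mul_left h'.2
  have e2 := I.neg x
  rw [← hc.eq, mul_inv_cancel_right] at e2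
  have hx0 : x = 0 := eq_neg_self x (B.j_inj e2)
  rw [hx0, B.j_zero] at hx
  exact eq_of_inv_mul_eq_one hx.symm

theorem lift_p : I.Lift (B.θ pW) pF := ⟨B.acts_p, I.comm_p.symm⟩

theorem lift_t : I.Lift (B.θ tW) tF := ⟨B.acts_t, I.comm_t.symm⟩

theorem lift_w : I.Lift I.w (fun x => -x) := ⟨I.neg, Commute.refl _⟩

/-- Every element of the normalizer has a translate in the complement. -/
theorem exists_lift [Finite G] {n : G} {f : Vec → Vec} (h : B.Acts n f) :
    ∃ d : Vec, I.Lift (B.j d * n) f := by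
  have hneg : ∀ x, f (-x) = -f x := fun x => by
    have h0 := h.add 0 0
    rw [add_zero] at h0
    have h1 := h.add x (-x)
    rw [add_neg_cancel, left_eq_add.1 h0] at h1
    exact eq_neg_of_add_eq_zero_right h1.symm
  obtain ⟨g, hg⟩ : ∃ g : Vec → Vec, ∀ x, f (g x) = x := ⟨_, fun x => (h.surj x).choose_spec⟩
  have hwi : I.w⁻¹ = I.w := inv_eq_of_mul_eq_one_right I.sq
  obtain ⟨d, hd⟩ := B.mem_J.1 (((h.mul I.neg).mul (h.inv hg)).mul I.neg |>.mem_J fun x => by
    simp only [Function.comp_apply]; rw [hneg, hg, neg_neg])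
  have e1 : n * I.w * n⁻¹ = B.j d * I.w := by rw [hd, mul_assoc _ I.w I.w, I.sq, mul_one]
  refine ⟨d, fun x => ?_, ?_⟩
  · exact ((B.acts_j d).mul h) x
  show _ = _
  have e2 : B.j d * (B.j d * I.w) = I.w * B.j d := by
    have e3 : I.w * B.j d = B.j (-d) * I.w := by rw [← I.neg, inv_mul_cancel_right]
    rw [e3, ← mul_assoc, ← B.j_add, neg_double d]
  calc B.j d * n * I.w = B.j d * (n * I.w * n⁻¹) * n := by group
    _ = I.w * (B.j d * n) := by rw [e1, e2, mul_assoc]

/-- An element as a vector followed by an element of the complement. -/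
def Rep (g : G) (c : Vec × (Vec → Vec)) : Prop := ∃ m, I.Lift m c.2 ∧ g = B.j c.1 * m

theorem rep_mul {g g' : G} {c c' : Vec × (Vec → Vec)} (h : I.Rep g c) (h' : I.Rep g' c') :
    I.Rep (g * g') (c.1 + c.2 c'.1, c.2 ∘ c'.2) := by
  obtain ⟨m, hm, rfl⟩ := h
  obtain ⟨m', hm', rfl⟩ := h'
  refine ⟨m * m', I.lift_mul (f := c.2) (f' := c'.2) hm hm', ?_⟩
  show _ = B.j (c.1 + c.2 c'.1) * (m * m')
  rw [B.j_add, ← hm.1]
  group

theorem rep_one_iff {g : G} {c : Vec × (Vec → Vec)} (h : I.Rep g c) (h0 : c.1 = 0) (hid : ∀ x, c.2 x = x) :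
    g = 1 := by
  obtain ⟨m, hm, rfl⟩ := h
  rw [h0, B.j_zero, one_mul]
  exact I.lift_unique hm I.lift_one hid

end Inv

end Core

end CfsgLib.Recog.ThreeLocalSpSix
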