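import Cfsg.Agent.Lib.Recog.ThreeLocalSpSix.Act

/-!
Owner: helper24. When `a` has no other conjugate in the abelian subgroup there is a normal subgroup of index
three: `a` is weakly closed in a Sylow subgroup, so the transfer extends the character of its centralizer.
-/

set_option autoImplicit false
set_option linter.all false
set_option maxRecDepth 100000

namespace CfsgLib.Recog.ThreeLocalSpSix

open Subgroup CfsgLib.Recog.HeisSL
open scoped Pointwise

universe u

/-- The character of the special linear group of order three. -/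
def chiS (g : S2) : K :=
  if g * g * (g * g) = 1 then 0 else
    if g * uu 1 * (g * uu 1) * (g * uu 1 * (g * uu 1)) = 1 then 2 else 1

theorem chiS_mul : ∀ g h : S2, chiS (g * h) = chiS g + chiS h := by decide +kernel

/-- The character of the centralizer. -/
def chiW : W →* Multiplicative K where
  toFun w := Multiplicative.ofAdd (chiS w.g)
  map_one' := by decide +kernel
  map_mul' a b := by
    show Multiplicative.ofAdd (chiS (a.g * b.g)) = _
    rw [chiS_mul]; rfl

theorem chiW_ne : chiW (jW (1, 0, 0)) ≠ 1 := by decide +kernel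

theorem mult_cube : ∀ x : Multiplicative K, x ^ 3 = 1 := by decide +kernel

namespace Core

variable {G : Type u} [Group G] (B : Core G)

/-- A conjugate of `a` in the Sylow subgroup is `a`. -/
theorem conj_eq_a (hO : ∀ x ∈ B.O, x = (1, 1, 1)) {g : G} (hg : g * B.a * g⁻¹ ∈ B.S) :
    g * B.a * g⁻¹ = B.a := by
  obtain ⟨w, hw, hwy⟩ := B.mem_S.1 hg
  have hw3 : w * w * w = 1 := B.inj (by
    rw [map_mul, map_mul, hwy, map_one, ← pow_two, ← pow_succ, conj_pow,
      show B.a ^ (2 + 1) = 1 by rw [show (2 + 1 : ℕ) = orderOf B.a by rw [B.orderOf_a], pow_orderOf_eq_one], mul_one, mul_inv_cancel])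
  rcases sylW_three w hw hw3 with h1 | ⟨x, rfl⟩
  · obtain ⟨h, x, hx⟩ := kernel_conj w.v w.s
    rw [show (⟨w.v, w.s, 1⟩ : W) = w from W.ext rfl rfl h1.symm] at hx
    set k := B.θ ⟨0, 0, h⟩
    have hkx : k * (g * B.a * g⁻¹) * k⁻¹ = B.j x := by
      rw [j, ← hx, map_mul, map_mul, map_inv, hwy]
    have hxO : x ∈ B.O := ⟨k * g, by rw [← hkx]; group⟩
    rw [hO x hxO, B.j_center] at hkx
    have hk : k * B.a * k⁻¹ = B.a := mul_inv_eq_iff_eq_mul.2 (B.commute_a ⟨0, 0, h⟩).eq
    conv_rhs at hkx => rw [← hk]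
    exact mul_left_cancel (mul_right_cancel hkx)
  · have hxO : x ∈ B.O := ⟨g, hwy.symm⟩
    rw [← hwy, hO x hxO]
    exact B.j_center

theorem a_mem_S : B.a ∈ B.S := B.j_center ▸ B.J_le_S (B.j_mem _)

theorem a_ne_one : B.a ≠ 1 := fun h => by
  have := B.orderOf_a
  rw [h, orderOf_one] at this
  norm_num at this

/-- Conjugates inside the centralizer of `a` of elements of the Sylow subgroup. -/
theorem conj_in_cent [Finite G] (hO : ∀ x ∈ B.O, x = (1, 1, 1)) {g u : G} (hu : u ∈ B.S)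
    (hg : Commute (g⁻¹ * u * g) B.a) : ∃ w, g⁻¹ * u * g = (B.θ w)⁻¹ * u * B.θ w := by
  have : Fact (Nat.Prime 3) := ⟨Nat.prime_three⟩
  set H := centralizer ({u} : Set G)
  have h1 : B.a ∈ H := mem_centralizer_singleton_iff.2 (B.commute_a_S hu).symm.eq
  have h2 : g * B.a * g⁻¹ ∈ H := by
    refine mem_centralizer_singleton_iff.2 ?_
    have h := hg.conj g
    rw [show g * (g⁻¹ * u * g) * g⁻¹ = u by group] at h
    exact h.symm.eq
  have h3 : ∀ z : G, z ^ 3 = 1 → IsPGroup 3 (zpowers z) := fun z hz => by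
    rintro ⟨y, hy⟩
    obtain ⟨i, rfl⟩ := mem_zpowers_iff.1 hy
    refine ⟨1, Subtype.ext ?_⟩
    show (z ^ i) ^ (3 ^ 1) = 1
    rw [pow_one, ← zpow_natCast, ← zpow_mul, mul_comm, zpow_mul, zpow_natCast, hz, one_zpow]
  have ha3 : B.a ^ 3 = 1 := B.orderOf_a ▸ pow_orderOf_eq_one B.a
  have hp1 : IsPGroup 3 ((zpowers B.a).subgroupOf H) :=
    (h3 _ ha3).of_equiv (subgroupOfEquivOfLe (zpowers_le.2 h1)).symm
  have hp2 : IsPGroup 3 ((zpowers (g * B.a * g⁻¹)).subgroupOf H) :=
    (h3 _ (by rw [conj_pow, ha3, mul_one, mul_inv_cancel])).of_equiv (subgroupOfEquivOfLe (zpowers_le.2 h2)).symm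
  obtain ⟨T, hT⟩ := hp1.exists_le_sylow
  obtain ⟨T', hT'⟩ := hp2.exists_le_sylow
  obtain ⟨h, hh⟩ := MulAction.exists_smul_eq H T' T
  obtain ⟨k, hk⟩ := B.exists_conj_le_S (T.isPGroup'.map H.subtype)
  have hka : k * B.a * k⁻¹ = B.a := B.conj_eq_a hO (hk _ ⟨⟨B.a, h1⟩, hT (mem_zpowers B.a), rfl⟩)
  have hmem : (⟨g * B.a * g⁻¹, h2⟩ : H) ∈ (T' : Subgroup H) := hT' (mem_zpowers _)
  have h4 := Subgroup.smul_mem_pointwise_smul _ (MulAut.conj h) (T' : Subgroup H) hmem
  rw [show MulAut.conj h • (T' : Subgroup H) = (T : Subgroup H) by rw [← hh]; rfl] at h4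
  have h5 := hk _ ⟨_, h4, rfl⟩
  set m := (h : G) * g with hm
  have h6 : k * (m * B.a * m⁻¹) * k⁻¹ = B.a := by
    have e : k * (m * B.a * m⁻¹) * k⁻¹ = (k * m) * B.a * (k * m)⁻¹ := by group
    rw [e]
    refine B.conj_eq_a hO ?_
    rw [← e]
    simpa [hm, mul_assoc] using h5
  have h7 : m * B.a * m⁻¹ = B.a := by
    conv_rhs at h6 => rw [← hka]
    exact mul_left_cancel (mul_right_cancel h6)
  obtain ⟨w, hw⟩ := B.cent m (mul_inv_eq_iff_eq_mul.1 h7)
  refine ⟨w, ?_⟩
  have hu' : (h : G)⁻¹ * u * h = u := by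
    rw [mul_assoc, ← mem_centralizer_singleton_iff.1 h.2, inv_mul_cancel_left]
  rw [hw, hm]
  calc g⁻¹ * u * g = g⁻¹ * ((h : G)⁻¹ * u * h) * g := by rw [hu']
    _ = _ := by group

/-- A normal subgroup of index three. -/
theorem exists_index_three [Finite G] (hO : ∀ x ∈ B.O, x = (1, 1, 1)) :
    ∃ N : Subgroup G, N.Normal ∧ N.index = 3 := by
  classical
  set C := B.θ.range with hC
  let e : W ≃* C := MonoidHom.ofInjective B.inj
  set f : C →* Multiplicative K := chiW.comp e.symm.toMonoidHom with hf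
  have hfw : ∀ (w : W) (h : B.θ w ∈ C), f ⟨B.θ w, h⟩ = chiW w := by
    intro w h
    rw [hf, MonoidHom.comp_apply]
    congr 1
    exact e.symm_apply_eq.2 (Subtype.ext rfl)
  have hidx : ¬ 3 ∣ C.index := by
    intro hd
    have hle : B.S ≤ C := map_le_range _ _
    have := B.relIndex_S
    rw [relIndex_top_right] at this
    exact this (hd.trans (index_dvd_of_le hle))
  set u := B.j (1, 0, 0) with hu
  have huC : u ∈ C := ⟨_, rfl⟩
  have huS : u ∈ B.S := B.J_le_S (B.j_mem _)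
  let := Fintype.ofFinite (Quotient (MulAction.orbitRel (zpowers u) (G ⧸ C)))
  have htr : f.transfer u = f ⟨u, huC⟩ ^ C.index := by
    rw [index_eq_sum_minimalPeriod C u, ← Finset.prod_pow_eq_pow_sum,
      MonoidHom.transfer_eq_prod_quotient_orbitRel_zpowers_quot]
    refine Finset.prod_congr rfl fun q _ => ?_
    have hm := QuotientGroup.out_conj_pow_minimalPeriod_mem C u q.out
    set n := Function.minimalPeriod (u • ·) q.out with hn
    set g := q.out.out with hg
    obtain ⟨w0, hw0⟩ := hm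
    have hcom : Commute (g⁻¹ * u ^ n * g) B.a := hw0 ▸ B.commute_a w0
    obtain ⟨w, hw⟩ := B.conj_in_cent hO (pow_mem huS n) hcom
    rw [← map_pow]
    have e1 : (⟨g⁻¹ * u ^ n * g, QuotientGroup.out_conj_pow_minimalPeriod_mem C u q.out⟩ : C) =
        (⟨B.θ w, ⟨w, rfl⟩⟩ : C)⁻¹ * (⟨u, huC⟩ : C) ^ n * ⟨B.θ w, ⟨w, rfl⟩⟩ := Subtype.ext (by simpa using hw)
    refine (congrArg f e1).trans ?_
    rw [map_mul, map_mul, map_inv, mul_comm (f ⟨B.θ w, ⟨w, rfl⟩⟩)⁻¹, inv_mul_cancel_right]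
  have hne : f.transfer u ≠ 1 := by
    rw [htr]
    intro h
    have hv : f ⟨u, huC⟩ = chiW (jW (1, 0, 0)) := hfw _ _
    rw [hv] at h
    refine chiW_ne ?_
    rw [← orderOf_eq_one_iff]
    refine Nat.eq_one_of_dvd_coprimes (a := 3) (b := C.index) ?_ (orderOf_dvd_of_pow_eq_one (mult_cube _))
      (orderOf_dvd_of_pow_eq_one h)
    exact Nat.prime_three.coprime_iff_not_dvd.2 hidx
  refine ⟨f.transfer.ker, MonoidHom.normal_ker _, ?_⟩
  rw [index_ker]
  have hd := card_subgroup_dvd_card f.transfer.range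
  rw [show Nat.card (Multiplicative K) = 3 by simp [Nat.card_eq_fintype_card]] at hd
  refine ((Nat.dvd_prime Nat.prime_three).1 hd).resolve_left fun h1 => hne ?_
  have hb := card_eq_one.1 h1
  exact mem_bot.1 (hb ▸ (⟨u, rfl⟩ : f.transfer u ∈ f.transfer.range))

end Core

end CfsgLib.Recog.ThreeLocalSpSix
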