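import Cfsg.Agent.Lib.Recog.ThreeLocalSpSix.CasesTables

/-!
Owner: helper3. A complement of a plane through a short or middle vector which is preserved up to sign by the
monomial maps fixing the plane pointwise.
-/

set_option autoImplicit false
set_option linter.all false
set_option maxRecDepth 100000

namespace CfsgLib.Recog.ThreeLocalSpSix

theorem lin_add (b1 b2 b3 q q' : Vec) : lin b1 b2 b3 (q + q') = lin b1 b2 b3 q + lin b1 b2 b3 q' := by
  refine Prod.ext ?_ (Prod.ext ?_ ?_) <;> simp [lin] <;> ring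

theorem lin_neg_third (b1 b2 b3 q : Vec) : lin b1 b2 (-b3) q = lin b1 b2 b3 (q.1, q.2.1, -q.2.2) := by
  refine Prod.ext ?_ (Prod.ext ?_ ?_) <;> simp [lin]

/-- The complement chosen for the plane of a short or middle vector `x` and `x'`. -/
def planeV (x x' : Vec) : Vec :=
  if x = (1, 0, 0) then
    if x'.2.1 = 0 then (0, 1, 0) else if x'.2.2 = 0 then (0, 0, 1) else if x'.2.1 = x'.2.2 then (0, 1, 2) else (0, 1, 1)
  else if x'.1 = 0 then (1, 0, 0) else if x'.2.1 = x'.2.2 then (0, 1, 2) else (1, 0, 0)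

theorem planeV_basis : ∀ x ∈ ([(1, 0, 0), (0, 1, 1)] : List Vec), ∀ x' : Vec, x' ≠ 0 → x' ≠ x → x' ≠ -x →
    ∀ q : Vec, lin x x' (planeV x x') q = 0 → q = 0 := by decide +kernel

theorem planeV_short : ∀ x' : Vec, x' ≠ 0 → x' ≠ (1, 0, 0) → x' ≠ -(1, 0, 0) →
    ∀ e ∈ eight, ∀ π ∈ perms, e * π (1, 0, 0) = (1, 0, 0) → e * π x' = x' →
      e * π (planeV (1, 0, 0) x') = planeV (1, 0, 0) x' ∨ e * π (planeV (1, 0, 0) x') = -planeV (1, 0, 0) x' := by
  decide +kernel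

theorem planeV_middle : ∀ x' : Vec, x' ≠ 0 → x' ≠ (0, 1, 1) → x' ≠ -(0, 1, 1) →
    ∀ e ∈ eight, ∀ π ∈ perms, e * π (0, 1, 1) = (0, 1, 1) → e * π x' = x' →
      e * π (planeV (0, 1, 1) x') = planeV (0, 1, 1) x' ∨ e * π (planeV (0, 1, 1) x') = -planeV (0, 1, 1) x' := by
  decide +kernel

theorem plane_vec : ∀ x ∈ ([(1, 0, 0), (0, 1, 1)] : List Vec), ∀ x' : Vec, x' ≠ 0 → x' ≠ x → x' ≠ -x →
    ∃ v : Vec, (∀ q : Vec, lin x x' v q = 0 → q = 0) ∧
      ∀ e ∈ eight, ∀ π ∈ perms, e * π x = x → e * π x' = x' → e * π v = v ∨ e * π v = -v := by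
  intro x hx x' h0 h1 h2
  refine ⟨planeV x x', planeV_basis x hx x' h0 h1 h2, ?_⟩
  simp only [List.mem_cons, List.not_mem_nil, or_false] at hx
  rcases hx with rfl | rfl
  · exact planeV_short x' h0 h1 h2
  · exact planeV_middle x' h0 h1 h2

end CfsgLib.Recog.ThreeLocalSpSix
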