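import Cfsg.Agent.S3331
import Cfsg.Agent.Lib.Classical.SmallIso

/-!
Owner: helper3. A group with a self-centralising subgroup of order three has at most six elements, or that
subgroup normalises a non-trivial subgroup of order prime to three.
-/

set_option autoImplicit false
set_option linter.all false
set_option maxRecDepth 100000

namespace CfsgLib.Recog.ThreeLocalSpSix

open Subgroup

theorem alt_five_four : ∀ x : alternatingGroup (Fin 5), x * x * x = 1 → x ≠ 1 → ∃ u, u ≠ 1 ∧ u * u = 1 ∧
    u * (x * u * x⁻¹) = x * u * x⁻¹ * u ∧ x * (x * u * x⁻¹) * x⁻¹ = u * (x * u * x⁻¹) := by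
  decide +kernel

theorem exists_normalized_aux {H : Type*} [Group H] [Finite H] {x : H} (hx : orderOf x = 3)
    (hc : ∀ g, Commute g x → g ∈ zpowers x) :
    (∃ L : Subgroup H, L ≠ ⊥ ∧ (Nat.card L).Coprime 3 ∧ ∀ l ∈ L, x * l * x⁻¹ ∈ L) ∨ Nat.card H ≤ 6 := by
  have : Fact (Nat.Prime 3) := ⟨Nat.prime_three⟩
  have : Fact (Nat.Prime 2) := ⟨Nat.prime_two⟩
  have hX : centralizer (zpowers x : Set H) = zpowers x := le_antisymm
    (fun g hg => hc g (mem_centralizer_iff.1 hg x (mem_zpowers x)).symm)
    (fun g hg => mem_centralizer_iff.2 fun h hh => by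
      obtain ⟨i, rfl⟩ := mem_zpowers_iff.1 hg
      obtain ⟨j, rfl⟩ := mem_zpowers_iff.1 hh
      exact (Commute.zpow_zpow (Commute.refl x) j i).eq)
  rcases Cfsg.Agent.S3331.result (zpowers x) (by rw [Nat.card_zpowers, hx]) hX with
    ⟨N, hN, -, hcop, hq⟩ | ⟨N, hN, hcomm, hexp, ⟨e⟩⟩ | ⟨⟨e⟩⟩
  · by_cases hb : N = ⊥
    · refine Or.inr ?_
      rw [card_eq_card_quotient_mul_card_subgroup N, hb, card_bot, mul_one]
      subst hb
      rcases hq with h | ⟨⟨e⟩⟩
      · omega
      · rw [Nat.card_congr e.toEquiv, Nat.card_perm, Nat.card_fin]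
        norm_num [Nat.factorial]
    · exact Or.inl ⟨N, hb, hcop, fun l hl => hN.conj_mem l hl x⟩
  · by_cases hb : N = ⊥
    · subst hb
      let f : H ≃* alternatingGroup (Fin 5) := QuotientGroup.quotientBot.symm.trans e
      obtain ⟨u, hu1, hu2, huv, hxv⟩ := alt_five_four (f x) (by
        rw [← map_mul, ← map_mul, ← pow_two, ← pow_succ, show (2 + 1 : ℕ) = orderOf x from hx.symm,
          pow_orderOf_eq_one, map_one])
        (by rw [ne_eq, map_eq_one_iff f f.injective, ← orderOf_eq_one_iff, hx]; norm_num)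
      obtain ⟨u, rfl⟩ := f.surjective u
      simp only [← map_mul, ← map_inv, f.injective.eq_iff, f.injective.eq_iff' (map_one f)] at hu1 hu2 huv hxv
      simp only [ne_eq, map_eq_one_iff f f.injective] at hu1
      set v := x * u * x⁻¹ with hv
      have hv2 : v * v = 1 := by rw [hv, conj_mul, hu2, mul_one, mul_inv_cancel]
      have huv' : u * (u * v) = v := by rw [← mul_assoc, hu2, one_mul]
      have hvuv : v * (u * v) = u := by rw [huv, ← mul_assoc, hv2, one_mul]
      have huvuv : u * v * (u * v) = 1 := by rw [mul_assoc, hvuv, hu2]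
      have huu' : u * v * u = v := by rw [mul_assoc, ← huv, huv']
      have hvv' : u * v * v = u := by rw [mul_assoc, hv2, mul_one]
      have hinv : ∀ g : H, g * g = 1 → g⁻¹ = g := fun g h => inv_eq_of_mul_eq_one_right h
      let L : Subgroup H :=
        { carrier := {1, u, v, u * v}
          one_mem' := by simp
          mul_mem' := by
            intro a b ha hb'
            simp only [Set.mem_insert_iff, Set.mem_singleton_iff] at ha hb' ⊢
            rcases ha with rfl | rfl | rfl | rfl <;> rcases hb' with rfl | rfl | rfl | rfl <;>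
              simp [hu2, hv2, huv', hvuv, huvuv, huu', hvv', ← huv]
          inv_mem' := by
            intro a ha
            simp only [Set.mem_insert_iff, Set.mem_singleton_iff] at ha ⊢
            rcases ha with rfl | rfl | rfl | rfl <;> simp [hinv _ hu2, hinv _ hv2, hinv _ huvuv, ← huv] }
      refine Or.inl ⟨L, ?_, ?_, ?_⟩
      · intro h
        have hu : u ∈ L := by show u ∈ ({1, u, v, u * v} : Set H); simp
        rw [h, mem_bot] at hu
        exact hu1 hu
      · have hp : IsPGroup 2 L := fun g => ⟨1, Subtype.ext (by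
          have hg : (g : H) ∈ ({1, u, v, u * v} : Set H) := g.2
          simp only [Set.mem_insert_iff, Set.mem_singleton_iff] at hg
          show (g : H) ^ 2 = 1
          rw [pow_two]
          rcases hg with e | e | e | e <;> rw [e]
          exacts [one_mul 1, hu2, hv2, huvuv])⟩
        obtain ⟨k, hk⟩ := IsPGroup.iff_card.1 hp
        rw [hk]
        exact Nat.Coprime.pow_left k (by norm_num)
      · intro l hl
        change l ∈ ({1, u, v, u * v} : Set H) at hl
        show x * l * x⁻¹ ∈ ({1, u, v, u * v} : Set H)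
        simp only [Set.mem_insert_iff, Set.mem_singleton_iff] at hl ⊢
        rcases hl with rfl | rfl | rfl | rfl
        · simp
        · exact Or.inr (Or.inr (Or.inl rfl))
        · exact Or.inr (Or.inr (Or.inr hxv))
        · refine Or.inr (Or.inl ?_)
          rw [← conj_mul, hxv, ← hv, hvuv]
    · refine Or.inl ⟨N, hb, ?_, fun l hl => hN.conj_mem l hl x⟩
      have hp : IsPGroup 2 N := fun n => ⟨1, Subtype.ext (by simpa using hexp n n.2)⟩
      obtain ⟨k, hk⟩ := IsPGroup.iff_card.1 hp
      rw [hk]
      exact Nat.Coprime.pow_left k (by norm_num)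
  · refine Or.inl ?_
    have : Fact (Nat.Prime 7) := ⟨by norm_num⟩
    have h168 : Nat.card H = 168 := by
      have h := CfsgLib.Classical.Two.card_PSL_two (F := ZMod 7)
      rw [ZMod.card] at h
      rw [Nat.card_congr e.toEquiv]
      norm_num [Nat.card_eq_fintype_card] at h ⊢
      omega
    obtain ⟨P⟩ : Nonempty (Sylow 7 H) := inferInstance
    have hP : Nat.card P = 7 := by
      rw [P.card_eq_multiplicity, h168, show 168 = 7 ^ 1 * 24 by norm_num,
        Nat.factorization_mul (by norm_num) (by norm_num), Finsupp.add_apply, Nat.factorization_pow_self (by norm_num),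
        Nat.factorization_eq_zero_of_not_dvd (by norm_num : ¬ 7 ∣ 24)]
      rfl
    have hn := card_sylow_modEq_one 7 H
    have hidx : (P : Subgroup H).index = 24 := by
      have := card_mul_index (P : Subgroup H)
      rw [hP, h168] at this
      omega
    have hdvd : Nat.card (Sylow 7 H) ∣ 24 := hidx ▸ P.card_dvd_index
    have h3 : 3 ∣ Nat.card (normalizer (P : Set H)) := by
      have h := card_mul_index (normalizer (P : Set H))
      rw [h168, ← P.card_eq_index_normalizer] at h
      have hle := Nat.le_of_dvd (by norm_num) hdvd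
      rw [Nat.ModEq] at hn
      generalize hk : Nat.card (Sylow 7 H) = k at h hn hdvd hle
      interval_cases k <;> omega
    obtain ⟨⟨y, hyN⟩, hy⟩ := exists_prime_orderOf_dvd_card' 3 h3
    rw [Subgroup.orderOf_mk] at hy
    have hsyl : ∀ z : H, orderOf z = 3 → ¬ 3 ∣ (zpowers z).index := fun z hz hd => by
      have h := card_mul_index (zpowers z)
      rw [Nat.card_zpowers, hz, h168] at h
      omega
    obtain ⟨g, hg⟩ := MulAction.exists_smul_eq H
      ((IsPGroup.of_card (n := 1) (by rw [Nat.card_zpowers, hy, pow_one]) : IsPGroup 3 (zpowers y)).toSylow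
        (hsyl y hy))
      ((IsPGroup.of_card (n := 1) (by rw [Nat.card_zpowers, hx, pow_one]) : IsPGroup 3 (zpowers x)).toSylow
        (hsyl x hx))
    have hxg : x ∈ (zpowers y).map (MulAut.conj g).toMonoidHom := by
      have h := congrArg (fun S : Sylow 3 H => x ∈ (S : Subgroup H)) hg
      simp only [IsPGroup.toSylow_coe, Sylow.coe_subgroup_smul, mem_zpowers, eq_iff_iff, iff_true] at h
      exact h
    obtain ⟨w, hw, rfl⟩ := hxg
    refine ⟨(P : Subgroup H).map (MulAut.conj g).toMonoidHom, ?_, ?_, ?_⟩
    · rw [ne_eq, map_eq_bot_iff_of_injective _ (MulAut.conj g).injective]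
      intro h
      rw [h, card_bot] at hP
      norm_num at hP
    · rw [card_map_of_injective (MulAut.conj g).injective, hP]; norm_num
    · rintro _ ⟨l, hl, rfl⟩
      refine ⟨w * l * w⁻¹, ?_, ?_⟩
      · exact ((mem_normalizer_iff.1 (zpowers_le.2 hyN hw)) l).1 hl
      · simp [mul_assoc]

/-- In a subgroup where an element of order three centralises only its powers, that element normalises a
non-trivial subgroup of order prime to three, or the subgroup has at most six elements. -/
theorem exists_normalized {G : Type*} [Group G] [Finite G] (K : Subgroup G) {e : G} (he : e ∈ K)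
    (he3 : orderOf e = 3) (hc : ∀ g ∈ K, Commute g e → g ∈ zpowers e) :
    (∃ L ≤ K, L ≠ ⊥ ∧ (Nat.card L).Coprime 3 ∧ ∀ l ∈ L, e * l * e⁻¹ ∈ L) ∨ Nat.card K ≤ 6 := by
  refine (exists_normalized_aux (x := (⟨e, he⟩ : K)) (by rwa [Subgroup.orderOf_mk]) fun g hg => ?_).imp ?_ id
  · obtain ⟨i, hi⟩ := mem_zpowers_iff.1 (hc g g.2 (congrArg Subtype.val hg.eq))
    exact mem_zpowers_iff.2 ⟨i, Subtype.ext (by rw [← hi]; rfl)⟩
  · rintro ⟨L, hL, hcop, hn⟩
    refine ⟨L.map K.subtype, map_subtype_le L, ?_, ?_, ?_⟩
    · rwa [ne_eq, map_eq_bot_iff_of_injective _ K.subtype_injective]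
    · rwa [card_map_of_injective K.subtype_injective]
    · rintro _ ⟨l, hl, rfl⟩
      exact ⟨_, hn l hl, rfl⟩

end CfsgLib.Recog.ThreeLocalSpSix
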