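import Cfsg.Agent.Lib.Recog.ThreeLocalSpSix.Cases
import Cfsg.Agent.Lib.Recog.ThreeLocalSpSix.PlaneTables
import Cfsg.Agent.Lib.Recog.ThreeLocalSpSix.SelfCent

/-!
Owner: helper3. The centralizer of a plane of the abelian subgroup lies in its normalizer; tools for functionals
on the abelian subgroup.
-/

set_option autoImplicit false
set_option linter.all false
set_option maxRecDepth 100000

namespace CfsgLib.Recog.ThreeLocalSpSix

open Subgroup CfsgLib.Recog.HeisSL

universe u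

namespace Core

variable {G : Type u} [Group G] (B : Core G)

theorem j_nsmul (n : ℕ) (x : Vec) : B.j (n • x) = B.j x ^ n := by
  induction n with
  | zero => rw [zero_smul, B.j_zero, pow_zero]
  | succ n ih => rw [succ_nsmul, B.j_add, ih, pow_succ]

theorem orderOf_j {x : Vec} (hx : x ≠ 0) : orderOf (B.j x) = 3 :=
  have : Fact (Nat.Prime 3) := ⟨Nat.prime_three⟩
  orderOf_eq_prime (B.j_cube x) fun e => hx (B.j_eq_one e)

theorem commute_j (x x' : Vec) : Commute (B.j x) (B.j x') := B.j_comm x x'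

/-- The coordinates as an isomorphism. -/
noncomputable def jEquiv : Multiplicative Vec ≃* B.J :=
  MonoidHom.ofInjective (f := B.θ.comp jHom) fun x y e => jW_inj x.toAdd y.toAdd (B.inj e)

theorem jEquiv_symm (x : Vec) (h : B.j x ∈ B.J) : B.jEquiv.symm ⟨B.j x, h⟩ = Multiplicative.ofAdd x := by
  rw [MulEquiv.symm_apply_eq]
  rfl

/-- A functional on the abelian subgroup. -/
noncomputable def coord {A : Type*} [AddCommGroup A] (f : Vec →+ A) : B.J →* Multiplicative A :=
  (AddMonoidHom.toMultiplicative f).comp B.jEquiv.symm.toMonoidHom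

theorem coord_j {A : Type*} [AddCommGroup A] (f : Vec →+ A) (x : Vec) (h : B.j x ∈ B.J) :
    B.coord f ⟨B.j x, h⟩ = Multiplicative.ofAdd (f x) := by
  show AddMonoidHom.toMultiplicative f (B.jEquiv.symm ⟨B.j x, h⟩) = _
  rw [B.jEquiv_symm]
  rfl

/-- The abelian subgroup is a Sylow subgroup of any subgroup meeting its normalizer in elements with fourth
powers inside it. -/
theorem relIndex_J [Finite G] {H : Subgroup G} (hJH : B.J ≤ H)
    (h : ∀ n ∈ H, n ∈ normalizer (B.J : Set G) → n * n * (n * n) ∈ B.J) : ¬ 3 ∣ B.J.relIndex H := by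
  refine PSpFourAmalgam.not_dvd_relIndex hJH (n := 3) (by rw [B.card_J]; norm_num) fun K hK hKN hd => ?_
  have : Fact (Nat.Prime 3) := ⟨Nat.prime_three⟩
  obtain ⟨P, hP⟩ := Sylow.exists_subgroup_card_pow_prime 3 hd
  have hle : P.map K.subtype ≤ B.J := by
    rintro _ ⟨g, hg, rfl⟩
    have h81 : (g : G) ^ 81 = 1 := by
      have := pow_card_eq_one' (G := P) (x := ⟨g, hg⟩)
      rw [hP] at this
      simpa using congrArg (fun y : P => ((y : K) : G)) this
    have hm : (g : G) * g * ((g : G) * g) ∈ B.J := h _ (hK g.2) (hKN g.2)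
    have := B.J.pow_mem hm 61
    rwa [← pow_two, ← pow_two, ← pow_mul, ← pow_mul, show 2 * (2 * 61) = 81 * 3 + 1 from rfl, pow_succ, pow_mul,
      h81, one_pow, one_mul] at this
  have h2 := card_dvd_of_le hle
  rw [card_map_of_injective K.subtype_injective, hP, B.card_J] at h2
  norm_num at h2

variable {B}

theorem cent_basis [Finite G] (hF : B.Framed) {x x' v : Vec} (hb : ∀ q : Vec, lin x x' v q = 0 → q = 0)
    (hm : ∀ e ∈ eight, ∀ π ∈ perms, e * π x = x → e * π x' = x' → e * π v = v ∨ e * π v = -v)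
    {g : G} (hgx : Commute g (B.j x)) (hgx' : Commute g (B.j x')) : g ∈ normalizer (B.J : Set G) := by
  let L : Vec →+ Vec := AddMonoidHom.mk' (lin x x' v) (lin_add x x' v)
  have hLb : Function.Bijective L :=
    (Finite.injective_iff_bijective).1 ((injective_iff_map_eq_zero L).2 hb)
  let Le : Vec ≃+ Vec := AddEquiv.ofBijective L hLb
  have hL : ∀ q, Le q = lin x x' v q := fun q => rfl
  obtain ⟨h1, h2, h3⟩ := lin_frame x x' v
  let p : Vec →+ K × K := AddMonoidHom.mk' (fun q => (q.1, q.2.1)) (fun _ _ => rfl)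
  let f : Vec →+ K × K := p.comp Le.symm.toAddMonoidHom
  have hf : ∀ q, f (lin x x' v q) = (q.1, q.2.1) := fun q => by
    show p (Le.symm (Le q)) = _
    rw [Le.symm_apply_apply]; rfl
  set H := centralizer ({B.j x, B.j x'} : Set G) with hH
  have hHc : ∀ h ∈ H, Commute h (B.j x) ∧ Commute h (B.j x') := fun h hh =>
    ⟨((mem_centralizer_iff.1 hh) _ (Or.inl rfl)).symm, ((mem_centralizer_iff.1 hh) _ (Or.inr rfl)).symm⟩
  have hJH : B.J ≤ H := fun y hy => mem_centralizer_iff.2 fun z hz => by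
    rcases hz with rfl | rfl <;> exact B.comm_J (B.j_mem _) hy
  have hact : ∀ n ∈ H, ∀ m, B.Acts n m → ∃ s : K, (s = 1 ∨ s = -1) ∧
      ∀ q : Vec, m (lin x x' v q) = lin x x' v (q.1, q.2.1, s * q.2.2) := by
    intro n hn m hnm
    have hx : m x = x := B.j_inj (by rw [← hnm, (hHc n hn).1.eq, mul_inv_cancel_right])
    have hx' : m x' = x' := B.j_inj (by rw [← hnm, (hHc n hn).2.eq, mul_inv_cancel_right])
    obtain ⟨e, he, π, hπ, key⟩ := hnm.monomial hF
    have hlin : ∀ q, m (lin x x' v q) = lin x x' (m v) q := fun q => by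
      have := add_map_lin (f := fun q => m (lin x x' v q)) (fun a b => by rw [lin_add, hnm.add]) q
      simpa only [h1, h2, h3, hx, hx'] using this
    rcases hm e he π hπ (by rw [← key, hx]) (by rw [← key, hx']) with hv | hv <;> rw [← key] at hv
    · exact ⟨1, Or.inl rfl, fun q => by rw [hlin, hv, one_mul]⟩
    · exact ⟨-1, Or.inr rfl, fun q => by rw [hlin, hv, lin_neg_third, neg_one_mul]⟩
  have hsq : ∀ n ∈ H, n ∈ normalizer (B.J : Set G) → n * n ∈ B.J := by
    intro n hn hnN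
    obtain ⟨m, hnm⟩ := B.exists_acts hnN
    obtain ⟨s, hs, hms⟩ := hact n hn m hnm
    refine (hnm.mul hnm).mem_J fun u => ?_
    obtain ⟨q, rfl⟩ := Le.surjective u
    rw [Function.comp_apply, hL, hms, hms]
    congr 1
    rcases hs with rfl | rfl <;> simp
  obtain ⟨φ, hφ⟩ := PSpFourAmalgam.exists_hom_extend hJH B.isPGroup_J (B.relIndex_J hJH fun n hn hN => mul_mem (hsq n hn hN) (hsq n hn hN))
    (fun a ha b hb => B.comm_J ha hb) (B.coord f) (fun a => by revert a; decide) (by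
      intro n hn hnN u hu hu'
      obtain ⟨m, hnm⟩ := B.exists_acts hnN
      obtain ⟨w, rfl⟩ := B.mem_J.1 hu
      obtain ⟨q, rfl⟩ := Le.surjective w
      obtain ⟨s, -, hms⟩ := hact n hn m hnm
      have e := hnm (lin x x' v q)
      rw [hms] at e
      simp only [hL]
      simp only [e, coord_j, hf])
  set K0 := φ.ker.map H.subtype with hK0
  have hK0H : K0 ≤ H := map_subtype_le _
  have hnorm : ∀ h ∈ H, ∀ k ∈ K0, h * k * h⁻¹ ∈ K0 := by
    rintro h hh _ ⟨k, hk, rfl⟩
    exact ⟨⟨h, hh⟩ * k * ⟨h, hh⟩⁻¹, (MonoidHom.normal_ker φ).conj_mem k hk _, rfl⟩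
  have hmem : ∀ q, B.j (lin x x' v q) ∈ K0 ↔ (q.1, q.2.1) = (0 : K × K) := by
    intro q
    have : B.j (lin x x' v q) ∈ K0 ↔ φ ⟨_, hJH (B.j_mem (lin x x' v q))⟩ = 1 := by
      constructor
      · rintro ⟨⟨a, ha⟩, hk, e⟩
        obtain rfl : a = B.j (lin x x' v q) := e
        exact hk
      · exact fun h => ⟨⟨_, hJH (B.j_mem _)⟩, h, rfl⟩
    rw [this, hφ _ (B.j_mem _), coord_j, hf, ofAdd_eq_one]
  have hvK : B.j v ∈ K0 := by rw [← h3]; exact (hmem _).2 rfl
  have hv0 : v ≠ 0 := fun e => by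
    have := hb (0, 0, 1) (by rw [h3, e])
    exact absurd this (by decide)
  have hvc : ∀ k ∈ K0, Commute k (B.j v) → k ∈ zpowers (B.j v) := by
    intro k hk hc
    have hJ : k ∈ B.J := B.cent_J fun y hy => by
      obtain ⟨u, rfl⟩ := B.mem_J.1 hy
      obtain ⟨q, rfl⟩ := Le.surjective u
      rw [hL, vec_eq_lin q, lin_add, lin_add]
      have hs : ∀ (n : ℕ) (b : Vec), lin x x' v (n • b) = n • lin x x' v b := fun n b => L.map_nsmul n b
      rw [hs, hs, hs, h1, h2, h3, B.j_add, B.j_add, B.j_nsmul, B.j_nsmul, B.j_nsmul]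
      exact (((hHc k (hK0H hk)).1.pow_right _).mul_right ((hHc k (hK0H hk)).2.pow_right _)).mul_right
        (hc.pow_right _)
    obtain ⟨u, rfl⟩ := B.mem_J.1 hJ
    obtain ⟨q, rfl⟩ := Le.surjective u
    rw [hL] at hk ⊢
    have hq := (hmem q).1 hk
    simp only [Prod.ext_iff, Prod.fst_zero, Prod.snd_zero] at hq
    rw [show q = q.2.2.val • ((0, 0, 1) : Vec) by rw [vec_eq_lin q, hq.1, hq.2]; simp,
      show lin x x' v (q.2.2.val • ((0, 0, 1) : Vec)) = q.2.2.val • v by
        rw [show lin x x' v _ = _ from L.map_nsmul _ _]; exact congrArg _ h3, B.j_nsmul]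
    exact pow_mem (mem_zpowers _) _
  have h6 : Nat.card K0 ≤ 6 := by
    refine (exists_normalized K0 hvK (B.orderOf_j hv0) hvc).resolve_left ?_
    rintro ⟨L', hLK, hL0, hcop, hn⟩
    refine hL0 (B.signalizer hcop fun y hy => mem_normalizer_of_conj fun l hl => ?_)
    obtain ⟨u, rfl⟩ := B.mem_J.1 hy
    obtain ⟨q, rfl⟩ := Le.surjective u
    have hc : ∀ z, (z = B.j x ∨ z = B.j x') → Commute z l := fun z hz => by
      rcases hz with rfl | rfl
      · exact (hHc l (hK0H (hLK hl))).1.symm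
      · exact (hHc l (hK0H (hLK hl))).2.symm
    rw [hL, vec_eq_lin q, lin_add, lin_add]
    have hs : ∀ (n : ℕ) (b : Vec), lin x x' v (n • b) = n • lin x x' v b := fun n b => L.map_nsmul n b
    rw [hs, hs, hs, h1, h2, h3, B.j_add, B.j_add, B.j_nsmul, B.j_nsmul, B.j_nsmul]
    have hp : ∀ n : ℕ, ∀ l' ∈ L', B.j v ^ n * l' * (B.j v ^ n)⁻¹ ∈ L' := by
      intro n
      induction n with
      | zero => intro l' hl'; simpa using hl'
      | succ n ih =>
        intro l' hl'
        have := ih _ (hn l' hl')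
        rwa [show B.j v ^ (n + 1) * l' * (B.j v ^ (n + 1))⁻¹ = B.j v ^ n * (B.j v * l' * (B.j v)⁻¹) * (B.j v ^ n)⁻¹ by
          rw [pow_succ]; group]
    have hfix : ∀ z, (z = B.j x ∨ z = B.j x') → ∀ n : ℕ, ∀ l' ∈ L', z ^ n * l' * (z ^ n)⁻¹ = l' := by
      intro z hz n l' hl'
      have hc' : Commute z l' := by
        rcases hz with rfl | rfl
        · exact (hHc l' (hK0H (hLK hl'))).1.symm
        · exact (hHc l' (hK0H (hLK hl'))).2.symm
      rw [(hc'.pow_left n).eq, mul_inv_cancel_right]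
    have hl2 := hp q.2.2.val l hl
    rw [show ∀ a b c : G, a * b * c * l * (a * b * c)⁻¹ = a * (b * (c * l * c⁻¹) * b⁻¹) * a⁻¹ from
      fun a b c => by group, hfix _ (Or.inr rfl) _ _ hl2, hfix _ (Or.inl rfl) _ _ hl2]
    exact hl2
  have hZ : ∀ k ∈ K0, k ^ 3 = 1 → k ∈ zpowers (B.j v) := by
    intro k hk hk3
    set Z := (zpowers (B.j v)).subgroupOf K0 with hZdef
    have hi : Z.index ≤ 2 := by
      have := card_mul_index Z
      rw [hZdef, Nat.card_congr (subgroupOfEquivOfLe (zpowers_le.2 hvK)).toEquiv, Nat.card_zpowers,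
        B.orderOf_j hv0] at this
      rw [hZdef]
      omega
    have hs : (⟨k, hk⟩ : K0) ^ 2 ∈ Z := by
      have h0 : Z.index ≠ 0 := index_ne_zero_of_finite
      rcases (by omega : Z.index = 1 ∨ Z.index = 2) with hh | hh
      · rw [index_eq_one.1 hh]; trivial
      · exact sq_mem_of_index_two hh _
    have : k ^ 2 ∈ zpowers (B.j v) := hs
    have := pow_mem this 2
    rwa [← pow_mul, show 2 * 2 = 3 + 1 from rfl, pow_succ, hk3, one_mul] at this
  have hg : g ∈ H := mem_centralizer_iff.2 fun z hz => by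
    rcases hz with rfl | rfl
    exacts [hgx.eq.symm, hgx'.eq.symm]
  obtain ⟨i, hi⟩ := mem_zpowers_iff.1
    (hZ _ (hnorm g hg _ hvK) (by rw [conj_pow, B.j_cube, mul_one, mul_inv_cancel]))
  refine mem_normalizer_of_conj fun y hy => ?_
  obtain ⟨u, rfl⟩ := B.mem_J.1 hy
  obtain ⟨q, rfl⟩ := Le.surjective u
  rw [hL, vec_eq_lin q, lin_add, lin_add]
  have hs : ∀ (n : ℕ) (b : Vec), lin x x' v (n • b) = n • lin x x' v b := fun n b => L.map_nsmul n b
  rw [hs, hs, hs, h1, h2, h3, B.j_add, B.j_add, B.j_nsmul, B.j_nsmul, B.j_nsmul, ← conj_mul, ← conj_mul,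
    ← conj_pow, ← conj_pow, ← conj_pow, hgx.eq, hgx'.eq, mul_inv_cancel_right, mul_inv_cancel_right]
  exact mul_mem (mul_mem (pow_mem (B.j_mem x) _) (pow_mem (B.j_mem x') _))
    (pow_mem (hi ▸ zpow_mem (B.j_mem v) i) _)

theorem cent_two [Finite G] (hF : B.Framed) {x x' : Vec} (hx : x ∈ ([(1, 0, 0), (0, 1, 1)] : List Vec))
    (h0 : x' ≠ 0) (h1 : x' ≠ x) (h2 : x' ≠ -x) {g : G} (hgx : Commute g (B.j x)) (hgx' : Commute g (B.j x')) :
    g ∈ normalizer (B.J : Set G) := by
  obtain ⟨v, hb, hm⟩ := plane_vec x hx x' h0 h1 h2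
  exact cent_basis hF hb hm hgx hgx'

end Core

end CfsgLib.Recog.ThreeLocalSpSix
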