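import Cfsg.Agent.Lib.Recog.ThreeLocalSpSix.Model3

/-!
Owner: helper3. Finite facts on the quaternion group of the centralizer of `a` and an exchange.
-/

set_option autoImplicit false
set_option linter.all false
set_option maxRecDepth 100000

namespace CfsgLib.Recog.ThreeLocalSpSix

open CfsgLib.Recog.HeisSL

/-- The element of order three of the special linear group moving the quaternion group. -/
def yW : W := jW (1, 0, 0)

/-- The second generator of the quaternion group. -/
def q1W : W := yW * qW * yW⁻¹

/-- The quaternion group. -/
def qList : List W :=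
  [1, tW, qW, qW * tW, q1W, q1W * tW, qW * q1W, qW * q1W * tW]

/-- The subgroup of the quaternion group. -/
def qSub : Subgroup W where
  carrier := {u | u ∈ qList}
  one_mem' := List.mem_cons_self
  mul_mem' := by
    have h : qList.all (fun a => qList.all fun b => qList.contains (a * b)) = true := by decide +kernel
    intro a b ha hb
    exact List.contains_iff_mem.1 (List.all_eq_true.1 (List.all_eq_true.1 h a ha) b hb)
  inv_mem' := by
    have h : qList.all (fun a => qList.contains a⁻¹) = true := by decide +kernel
    intro a ha
    exact List.contains_iff_mem.1 (List.all_eq_true.1 h a ha)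

theorem mem_qSub {u : W} : u ∈ qSub ↔ u ∈ qList := Iff.rfl

theorem card_qSub : Nat.card qSub = 8 := by
  rw [show Nat.card qSub = Nat.card {u : W // u ∈ qList} from rfl, Nat.card_eq_fintype_card]
  decide +kernel

theorem qW_mem : qW ∈ qList := by decide +kernel

theorem q1W_mem : q1W ∈ qList := by decide +kernel

theorem tW_mem : tW ∈ qList := by decide +kernel

theorem qList_comm : ∀ u ∈ qList, u * tW = tW * u := by decide +kernel

theorem qList_four : ∀ u ∈ qList, u = 1 ∨ u = tW ∨ u * u = tW := by decide +kernel

theorem qList_gen : qList.all (fun u => u == 1 || u == tW || u == qW || u == qW * tW || u == q1W ||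
    u == q1W * tW || u == qW * q1W || u == qW * q1W * tW) = true := by decide +kernel

/-- Conjugation by the elements of the plane fixed by the exchange keeps the quaternion group. -/
theorem qList_conj : ∀ c b : K, qList.all (fun u => qList.contains (jW (c, b, b) * u * (jW (c, b, b))⁻¹)) = true := by
  decide +kernel

/-- Elements of order a power of two commuting with the exchange. -/
theorem cent_t_two : ∀ u : W, u * tW = tW * u → u * u * (u * u) * (u * u * (u * u)) = 1 → u ∈ qList := by
  decide +kernel

/-- The centralizer of the quaternion group. -/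
theorem cent_qList : ∀ u : W, u * qW = qW * u → u * q1W = q1W * u →
    ∃ c : K, u = jW (c, c, c) ∨ u = jW (c, c, c) * tW := by
  decide +kernel

theorem cent_qList_two : ∀ c : K, ∀ e : Bool,
    let u := if e then jW (c, c, c) * tW else jW (c, c, c)
    u * u * (u * u) * (u * u * (u * u)) = 1 → u = 1 ∨ u = tW := by
  decide +kernel

/-- The action of the inverting involution on the special linear group. -/
def αS (u : W) : W := ⟨0, 0, ⟨!![u.g.1 0 0, -u.g.1 0 1; -u.g.1 1 0, u.g.1 1 1], by
  rw [Matrix.det_fin_two_of, neg_mul_neg]; exact det_one u.g⟩⟩

theorem αS_facts : αS qW = qW⁻¹ ∧ αS q1W = yW⁻¹ * qW⁻¹ * yW ∧ αS tW = tW ∧ αS 1 = 1 := by decide +kernel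

theorem αS_mul : qList.all (fun a => qList.all fun b => αS (a * b) == αS a * αS b) = true := by decide +kernel

/-- No element of the centralizer of `a` acts on the quaternion group as the inverting involution. -/
theorem α_outer : ∀ u : W, u * qW⁻¹ * u⁻¹ = qW → u * (yW⁻¹ * qW⁻¹ * yW) * u⁻¹ = q1W → False := by
  decide +kernel

theorem semidihedral_order : ∀ u ∈ qList, αS u * u ≠ tW := by decide +kernel

theorem semidihedral_invol : (qList.filter fun u => αS u * u == 1).length = 4 := by decide +kernel

theorem qList_span : qList.all (fun x => x == 1 || x == tW ||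
    qList.all (fun u => ([1, tW, x, x * tW, yW * x * yW⁻¹, yW * x * yW⁻¹ * tW,
      x * (yW * x * yW⁻¹), x * (yW * x * yW⁻¹) * tW] : List W).contains u)) = true := by decide +kernel

end CfsgLib.Recog.ThreeLocalSpSix
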