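import Cfsg.Agent.Lib.Recog.ThreeLocalSpSix.QuotCent
import Cfsg.Agent.Lib.Recog.ThreeLocalSpSix.Quat
import Cfsg.Agent.Lib.Recog.PSpFourAmalgam.Cent

/-!
Owner: helper3. The quaternion group in the centralizer of `a` and the exchange, its image under the first
reflection, the plane of operators, and the inverting involution on them.
-/

set_option autoImplicit false
set_option linter.all false
set_option maxRecDepth 100000

namespace CfsgLib.Recog.ThreeLocalSpSix

open Subgroup CfsgLib.Recog.HeisSL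

universe u

theorem perms_four : ∀ s : DihedralGroup 4, s * s * (s * s) = 1 := by decide +kernel

namespace Core

variable {G : Type u} [Group G] (B : Core G)

/-- The exchange. -/
def tG : G := B.θ tW

/-- The quaternion group. -/
def quat : Subgroup G := qSub.map B.θ

theorem mem_quat {g : G} : g ∈ B.quat ↔ ∃ u ∈ qList, B.θ u = g := Iff.rfl

theorem t_sq : B.tG * B.tG = 1 := by rw [tG, ← map_mul, tW_sq, map_one]

theorem t_ne_one : B.tG ≠ 1 := by
  rw [tG, ne_eq, ← map_one B.θ, B.inj.eq_iff]; decide +kernel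

theorem t_mem_quat : B.tG ∈ B.quat := B.mem_quat.2 ⟨_, tW_mem, rfl⟩

theorem card_quat : Nat.card B.quat = 8 := by rw [quat, card_map_of_injective B.inj, card_qSub]

/-- The plane of operators fixed by the exchange. -/
def opHom : Multiplicative (K × K) →* G where
  toFun e := B.j (e.toAdd.1, e.toAdd.2, e.toAdd.2)
  map_one' := B.j_zero
  map_mul' e e' := B.j_add (e.toAdd.1, e.toAdd.2, e.toAdd.2) (e'.toAdd.1, e'.toAdd.2, e'.toAdd.2)

/-- The operators. -/
def ops : Subgroup G := B.opHom.range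

theorem mem_ops {g : G} : g ∈ B.ops ↔ ∃ c b : K, B.j (c, b, b) = g :=
  ⟨fun ⟨e, he⟩ => ⟨e.toAdd.1, e.toAdd.2, he⟩, fun ⟨c, b, h⟩ => ⟨Multiplicative.ofAdd (c, b), h⟩⟩

theorem card_ops : Nat.card B.ops = 9 := by
  have h : Function.Injective B.opHom := fun e e' he => by
    have h := B.j_inj he
    simp only [Prod.mk.injEq] at h
    exact Prod.ext h.1 h.2.1
  rw [ops, ← Nat.card_congr (MonoidHom.ofInjective h).toEquiv, Nat.card_eq_fintype_card]
  rfl

theorem ops_le_J : B.ops ≤ B.J := by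
  intro g hg
  obtain ⟨c, b, rfl⟩ := B.mem_ops.1 hg
  exact B.j_mem _

instance ops_comm : IsMulCommutative B.ops :=
  ⟨⟨fun x y => Subtype.ext (B.comm_J (B.ops_le_J x.2) (B.ops_le_J y.2))⟩⟩

theorem ops_cube {g : G} (hg : g ∈ B.ops) : g ^ 3 = 1 := B.cube_J (B.ops_le_J hg)

theorem ops_conj_quat {e : G} (he : e ∈ B.ops) {q : G} (hq : q ∈ B.quat) : e * q * e⁻¹ ∈ B.quat := by
  obtain ⟨c, b, rfl⟩ := B.mem_ops.1 he
  obtain ⟨u, hu, rfl⟩ := B.mem_quat.1 hq
  exact B.mem_quat.2 ⟨_, List.contains_iff_mem.1 (List.all_eq_true.1 (qList_conj c b) u hu),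
    by simp only [map_mul, map_inv]; rfl⟩

theorem ops_commute_t {e : G} (he : e ∈ B.ops) : Commute e B.tG := by
  obtain ⟨c, b, rfl⟩ := B.mem_ops.1 he
  have h := B.acts_t (c, b, b)
  exact (mul_inv_eq_iff_eq_mul.1 (h.trans (by rfl))).symm

/-- The centralizer of the quaternion group. -/
def CQ : Subgroup G := centralizer (B.quat : Set G)

theorem mem_CQ {g : G} : g ∈ B.CQ ↔ ∀ u ∈ qList, Commute g (B.θ u) :=
  ⟨fun h u hu => ((mem_centralizer_iff.1 h) _ (B.mem_quat.2 ⟨u, hu, rfl⟩)).symm,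
    fun h => mem_centralizer_iff.2 fun q hq => by
      obtain ⟨u, hu, rfl⟩ := B.mem_quat.1 hq
      exact (h u hu).symm⟩

theorem CQ_commute_t {g : G} (hg : g ∈ B.CQ) : Commute g B.tG := B.mem_CQ.1 hg _ tW_mem

theorem t_mem_CQ : B.tG ∈ B.CQ :=
  B.mem_CQ.2 fun u hu => (show Commute u tW from qList_comm u hu).symm.map B.θ

theorem a_mem_CQ : B.a ∈ B.CQ := B.mem_CQ.2 fun u hu => (B.commute_a u).symm

theorem a_mem_ops : B.a ∈ B.ops := B.mem_ops.2 ⟨1, 1, B.j_center⟩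

theorem ops_normalizer [Finite G] : B.ops ≤ normalizer (B.CQ : Set G) := by
  intro e he
  refine mem_normalizer_of_conj fun g hg => mem_centralizer_iff.2 fun q hq => ?_
  have hei : e⁻¹ * q * e ∈ B.quat := by simpa using B.ops_conj_quat (inv_mem he) hq
  have h : Commute g (e⁻¹ * q * e) := ((mem_centralizer_iff.1 hg) _ hei).symm
  have h2 := h.conj e
  rw [show e * (e⁻¹ * q * e) * e⁻¹ = q by group] at h2
  exact h2.eq.symm

theorem CQ_cent_a {g : G} (hg : g ∈ B.CQ) (hga : Commute g B.a) :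
    ∃ c : K, g = B.j (c, c, c) ∨ g = B.j (c, c, c) * B.tG := by
  obtain ⟨u, rfl⟩ := B.cent g hga
  have h : ∀ x ∈ qList, u * x = x * u := fun x hx => B.inj (by
    rw [map_mul, map_mul]; exact (B.mem_CQ.1 hg x hx).eq)
  obtain ⟨c, hc | hc⟩ := cent_qList u (h _ qW_mem) (h _ q1W_mem)
  · exact ⟨c, Or.inl (congrArg B.θ hc)⟩
  · exact ⟨c, Or.inr (by rw [hc, map_mul]; rfl)⟩

theorem CQ_cent_a_two {g : G} (hg : g ∈ B.CQ) (hga : Commute g B.a) (h8 : g ^ 8 = 1) :
    g ∈ zpowers B.tG := by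
  obtain ⟨c, hc⟩ := B.CQ_cent_a hg hga
  have key : ∀ e : Bool, g = B.θ (if e then jW (c, c, c) * tW else jW (c, c, c)) → g ∈ zpowers B.tG := by
    intro e he
    have h8' : B.θ ((if e then jW (c, c, c) * tW else jW (c, c, c)) ^ 8) = B.θ 1 := by
      rw [map_pow, ← he, h8, map_one]
    have h := B.inj h8'
    rw [show (8 : ℕ) = 2 * 2 * 2 from rfl, pow_mul, pow_mul, pow_two, pow_two, pow_two] at h
    rcases cent_qList_two c e h with h' | h' <;> rw [he, h']
    · rw [map_one]; exact one_mem _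
    · exact mem_zpowers _
  rcases hc with hc | hc
  · exact key false hc
  · exact key true (by rw [hc]; simp [j, tG])

theorem mem_zpowers_t {g : G} (hg : g ∈ zpowers B.tG) : g = 1 ∨ g = B.tG := by
  obtain ⟨i, rfl⟩ := mem_zpowers_iff.1 hg
  rcases Int.even_or_odd i with ⟨m, rfl⟩ | ⟨m, rfl⟩
  · left; rw [← two_mul, zpow_mul, zpow_ofNat, pow_two, B.t_sq, one_zpow]
  · right; rw [zpow_add, zpow_mul, zpow_ofNat, pow_two, B.t_sq, one_zpow, one_mul, zpow_one]

namespace Eight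

variable {B} (E : B.Eight)

/-- The image of the quaternion group under the first reflection. -/
def Q' : Subgroup G := B.quat.map (MulAut.conj E.r).toMonoidHom

theorem r_commute_t : Commute E.r B.tG :=
  E.I.lift_unique (E.I.lift_mul E.hr E.I.lift_t) (E.I.lift_mul E.I.lift_t E.hr) (fun x => by
    simp [rF, tF])

theorem r_conj_t : E.r * B.tG * E.r⁻¹ = B.tG := by
  rw [E.r_commute_t.eq, mul_inv_cancel_right]

theorem rinv : E.r⁻¹ = E.r := inv_eq_of_mul_eq_one_right E.hr2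

theorem mem_Q' {g : G} : g ∈ E.Q' ↔ E.r * g * E.r ∈ B.quat := by
  constructor
  · rintro ⟨q, hq, rfl⟩
    simp only [MulEquiv.coe_toMonoidHom, MulAut.conj_apply, E.rinv]
    rwa [show E.r * (E.r * q * E.r) * E.r = E.r * E.r * q * (E.r * E.r) by group, E.hr2, one_mul, mul_one]
  · intro h
    refine ⟨_, h, ?_⟩
    simp only [MulEquiv.coe_toMonoidHom, MulAut.conj_apply, E.rinv]
    rw [show E.r * (E.r * g * E.r) * E.r = E.r * E.r * g * (E.r * E.r) by group, E.hr2, one_mul, mul_one]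

theorem t_mem_Q' : B.tG ∈ E.Q' := ⟨_, B.t_mem_quat, E.r_conj_t⟩

/-- The element `a` moved by the reflection. -/
theorem r_conj_a : E.r * B.a * E.r⁻¹ = B.j (2, 1, 1) := by rw [← B.j_center, E.hr.1]; rfl

theorem wi' : E.I.w⁻¹ = E.I.w := inv_eq_of_mul_eq_one_right E.I.sq

theorem w_conj_a : E.I.w * B.a * E.I.w⁻¹ = B.a⁻¹ := by rw [← B.j_center, E.I.neg, B.j_neg]

theorem w_conj_t : E.I.w * B.tG * E.I.w⁻¹ = B.tG := by
  rw [tG, E.I.comm_t.eq, mul_inv_cancel_right]

/-- The inverting involution on the quaternion group. -/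
theorem w_conj_qList : ∀ u ∈ qList, E.I.w * B.θ u * E.I.w⁻¹ = B.θ (αS u) := by
  obtain ⟨h1, h2, h3, h4⟩ := αS_facts
  have hq : E.I.w * B.θ qW * E.I.w⁻¹ = B.θ (αS qW) := by rw [h1, map_inv, E.w_conj_q]
  have hy : E.I.w * B.θ yW * E.I.w⁻¹ = B.θ yW⁻¹ := by
    show E.I.w * B.j (1, 0, 0) * E.I.w⁻¹ = _
    rw [E.I.neg, B.j_neg, map_inv]; rfl
  have hq1 : E.I.w * B.θ q1W * E.I.w⁻¹ = B.θ (αS q1W) := by
    rw [h2, q1W, map_mul, map_mul, map_inv, map_mul, map_mul, map_inv, map_inv,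
      ← conj_mul, ← conj_mul, ← conj_inv, hy, E.w_conj_q, map_inv, inv_inv]
  have ht : E.I.w * B.θ tW * E.I.w⁻¹ = B.θ (αS tW) := by rw [h3]; exact E.w_conj_t
  have mulc : ∀ a ∈ qList, ∀ b ∈ qList, E.I.w * B.θ a * E.I.w⁻¹ = B.θ (αS a) →
      E.I.w * B.θ b * E.I.w⁻¹ = B.θ (αS b) → E.I.w * B.θ (a * b) * E.I.w⁻¹ = B.θ (αS (a * b)) := by
    intro a ha b hb ea eb
    rw [beq_iff_eq.1 (List.all_eq_true.1 (List.all_eq_true.1 αS_mul a ha) b hb), map_mul, map_mul, ← conj_mul, ea, eb]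
  intro u hu
  have h := List.all_eq_true.1 qList_gen u hu
  simp only [Bool.or_eq_true, beq_iff_eq] at h
  rcases h with ((((((rfl | rfl) | rfl) | rfl) | rfl) | rfl) | rfl) | rfl
  · rw [h4, map_one, mul_one, mul_inv_cancel]
  · exact ht
  · exact hq
  · exact mulc _ qW_mem _ tW_mem hq ht
  · exact hq1
  · exact mulc _ q1W_mem _ tW_mem hq1 ht
  · exact mulc _ qW_mem _ q1W_mem hq hq1
  · exact mulc _ (mul_mem (show qW ∈ qSub from qW_mem) (show q1W ∈ qSub from q1W_mem)) _ tW_mem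
      (mulc _ qW_mem _ q1W_mem hq hq1) ht

end Eight

end Core

end CfsgLib.Recog.ThreeLocalSpSix
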