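import Cfsg.Agent.Lib.Recog.ThreeLocalSpSix.QGroup

/-!
Owner: helper3. The centralizer of the quaternion group has more than twelve elements: otherwise a semidihedral
group of order sixteen would be a Sylow subgroup of the centralizer of the exchange, which contains an
elementary abelian group of order eight.
-/

set_option autoImplicit false
set_option linter.all false
set_option maxRecDepth 100000

namespace CfsgLib.Recog.ThreeLocalSpSix

open Subgroup CfsgLib.Recog.HeisSL

universe u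

namespace Core

variable {G : Type u} [Group G]

theorem elementary_faith : ∀ d : ZMod 2 × ZMod 2 × ZMod 2,
    (∀ x, ((rF^[d.1.val]) ∘ ((fun x => -x)^[d.2.1.val]) ∘ (tF^[d.2.2.val])) x = x) → d = 0 := by decide +kernel

theorem zmod_two_cases : ∀ i : ZMod 2, i = 0 ∨ i = 1 := by decide +kernel

theorem elementary_sq : ∀ e : Multiplicative (ZMod 2 × ZMod 2 × ZMod 2), e * e = 1 := by decide +kernel

theorem lt_of_pGroup {T P : Subgroup G} [Finite G] (hP : IsPGroup 2 P) (hTP : T ≤ P) (hne : T ≠ P) :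
    ∃ g ∈ P, g ∉ T ∧ ∀ x ∈ T, g * x * g⁻¹ ∈ T := by
  have : Fact (Nat.Prime 2) := ⟨Nat.prime_two⟩
  have : Group.IsNilpotent P := hP.isNilpotent
  have hlt : T.subgroupOf P < ⊤ := lt_top_iff_ne_top.2 fun h =>
    hne (le_antisymm hTP (subgroupOf_eq_top.1 h))
  obtain ⟨g, hg, hgn⟩ := SetLike.exists_of_lt (normalizerCondition_of_isNilpotent _ hlt)
  refine ⟨g, g.2, fun h => hgn (mem_subgroupOf.2 h), fun x hx => ?_⟩
  have := (mem_normalizer_iff.1 hg ⟨x, hTP hx⟩).1 (mem_subgroupOf.2 hx)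
  rwa [mem_subgroupOf] at this

namespace Eight

variable {B : Core G} (E : B.Eight)

include E in
theorem mem_or_mem_mul [Finite G] {g : G} (h : g * B.a * g⁻¹ = B.a ∨ g * B.a * g⁻¹ = B.a⁻¹) :
    ∃ u, g = B.θ u ∨ g = B.θ u * E.I.w := by
  rcases h with h | h
  · obtain ⟨u, hu⟩ := B.cent g (mul_inv_eq_iff_eq_mul.1 h)
    exact ⟨u, Or.inl hu.symm⟩
  · obtain ⟨u, hu⟩ := B.cent (g * E.I.w) (show Commute (g * E.I.w) B.a from mul_inv_eq_iff_eq_mul.1 (by
      rw [show g * E.I.w * B.a * (g * E.I.w)⁻¹ = g * (E.I.w * B.a * E.I.w⁻¹) * g⁻¹ by group, E.w_conj_a,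
        ← conj_inv, h, inv_inv]))
    exact ⟨u, Or.inr (by rw [hu, mul_assoc, E.I.sq, mul_one])⟩

include E in
/-- An element inverting `a` does not centralize the quaternion group. -/
theorem not_invert [Finite G] {g : G} (hg : g ∈ B.CQ) : g * B.a * g⁻¹ ≠ B.a⁻¹ := by
  intro h
  obtain ⟨u, hu⟩ : ∃ u, B.θ u = g * E.I.w := B.cent _ (show Commute (g * E.I.w) B.a from mul_inv_eq_iff_eq_mul.1 (by
    rw [show g * E.I.w * B.a * (g * E.I.w)⁻¹ = g * (E.I.w * B.a * E.I.w⁻¹) * g⁻¹ by group, E.w_conj_a,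
      ← conj_inv, h, inv_inv]))
  have e : ∀ x ∈ qList, u * αS x * u⁻¹ = x := fun x hx => B.inj (by
    rw [map_mul, map_mul, map_inv, hu, ← E.w_conj_qList x hx]
    calc g * E.I.w * (E.I.w * B.θ x * E.I.w⁻¹) * (g * E.I.w)⁻¹
        = g * (E.I.w * E.I.w * B.θ x * (E.I.w * E.I.w)⁻¹) * g⁻¹ := by group
      _ = B.θ x := by rw [E.I.sq, one_mul, inv_one, mul_one, (B.mem_CQ.1 hg x hx).eq, mul_inv_cancel_right])
  obtain ⟨h1, h2, -, -⟩ := αS_facts
  exact α_outer u (h1 ▸ e _ qW_mem) (h2 ▸ e _ q1W_mem)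

include E in
theorem card_CQ_not_small [Finite G] (hsmall : ∀ g ∈ B.CQ, g * B.a * g⁻¹ ∈ zpowers B.a) : False := by
  classical
  have : Fact (Nat.Prime 2) := ⟨Nat.prime_two⟩
  have h3 : B.a ^ 3 = 1 := B.orderOf_a ▸ pow_orderOf_eq_one B.a
  have hcases : ∀ x : G, x ∈ zpowers B.a → x = 1 ∨ x = B.a ∨ x = B.a⁻¹ := by
    intro x hx
    obtain ⟨n, hn, rfl⟩ := (mem_zpowers_iff_mem_range_orderOf.trans Finset.mem_image).1 hx
    rw [Finset.mem_range, B.orderOf_a] at hn
    interval_cases n
    · exact Or.inl (pow_zero _)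
    · exact Or.inr (Or.inl (pow_one _))
    · exact Or.inr (Or.inr (eq_inv_of_mul_eq_one_left (by rw [← pow_succ]; exact h3)))
  have ha1 : B.a ≠ 1 := fun h => by
    have := B.orderOf_a; rw [h, orderOf_one] at this; norm_num at this
  have hC : ∀ g ∈ B.CQ, Commute g B.a := fun g hg => by
    rcases hcases _ (hsmall g hg) with h | h | h
    · exact absurd (conj_eq_one_iff.1 h) ha1
    · exact mul_inv_eq_iff_eq_mul.1 h
    · exact absurd h (E.not_invert hg)
  -- the semidihedral group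
  have hwT : ∀ u ∈ qList, E.I.w * B.θ u = B.θ (αS u) * E.I.w := fun u hu => by
    rw [← E.w_conj_qList u hu, inv_mul_cancel_right]
  have hα : ∀ u ∈ qList, αS u ∈ qList := by
    intro u hu
    have : qList.all (fun u => qList.contains (αS u)) = true := by decide +kernel
    exact List.contains_iff_mem.1 (List.all_eq_true.1 this u hu)
  let T : Subgroup G :=
    { carrier := {g | ∃ u ∈ qList, g = B.θ u ∨ g = B.θ u * E.I.w}
      one_mem' := ⟨1, List.mem_cons_self, Or.inl (map_one _).symm⟩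
      mul_mem' := by
        rintro x y ⟨u, hu, hx⟩ ⟨u', hu', hy⟩
        have hm : ∀ {p q}, p ∈ qList → q ∈ qList → p * q ∈ qList := fun {p q} hp hq =>
          qSub.mul_mem hp hq
        rcases hx with rfl | rfl <;> rcases hy with rfl | rfl
        · exact ⟨_, hm hu hu', Or.inl (map_mul _ _ _).symm⟩
        · exact ⟨_, hm hu hu', Or.inr (by rw [map_mul, mul_assoc])⟩
        · exact ⟨_, hm hu (hα _ hu'), Or.inr (by rw [map_mul, mul_assoc, hwT _ hu', ← mul_assoc])⟩
        · refine ⟨_, hm hu (hα _ hu'), Or.inl ?_⟩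
          rw [map_mul, mul_assoc, ← mul_assoc E.I.w, hwT _ hu', mul_assoc, E.I.sq, mul_one]
      inv_mem' := by
        rintro x ⟨u, hu, rfl | rfl⟩
        · exact ⟨_, qSub.inv_mem hu, Or.inl (map_inv _ _).symm⟩
        · refine ⟨_, hα _ (qSub.inv_mem hu), Or.inr ?_⟩
          rw [_root_.mul_inv_rev, E.wi', ← map_inv, hwT _ (qSub.inv_mem hu)] }
  have hmemT : ∀ g, g ∈ T ↔ ∃ u ∈ qList, g = B.θ u ∨ g = B.θ u * E.I.w := fun g => Iff.rfl
  have hQT : B.quat ≤ T := fun q hq => by
    obtain ⟨u, hu, rfl⟩ := B.mem_quat.1 hq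
    exact (hmemT _).2 ⟨u, hu, Or.inl rfl⟩
  have hwsq : ∀ u ∈ qList, B.θ u * E.I.w * (B.θ u * E.I.w) = B.θ (u * αS u) := fun u hu => by
    rw [mul_assoc, ← mul_assoc E.I.w, hwT u hu, mul_assoc, E.I.sq, mul_one, map_mul]
  have hTt : T ≤ centralizer ({B.tG} : Set G) := by
    rintro g ⟨u, hu, rfl | rfl⟩ <;> rw [mem_centralizer_singleton_iff]
    · exact ((show Commute u tW from qList_comm u hu).map B.θ).eq
    · exact (((show Commute u tW from qList_comm u hu).map B.θ).mul_left E.I.comm_t).eq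
  have hsd : qList.all (fun u => u * αS u != tW && (u == 1 || u == tW || u * u == tW)) = true := by decide +kernel
  have hT2 : IsPGroup 2 T := fun ⟨g, hg⟩ => by
    refine ⟨4, Subtype.ext ?_⟩
    show g ^ (2 ^ 4) = 1
    have hq : ∀ u ∈ qList, (u : W) ^ 8 = 1 := by
      intro u hu
      have h : qList.all (fun u => u * u * (u * u) * (u * u * (u * u)) == 1) = true := by decide +kernel
      rw [show (8 : ℕ) = 2 * 2 * 2 from rfl, pow_mul, pow_mul, pow_two, pow_two, pow_two]
      exact beq_iff_eq.1 (List.all_eq_true.1 h u hu)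
    obtain ⟨u, hu, rfl | rfl⟩ := hg
    · rw [show (2 ^ 4 : ℕ) = 8 * 2 from rfl, pow_mul, ← map_pow, hq u hu, map_one, one_pow]
    · rw [show (2 ^ 4 : ℕ) = 2 * 8 from rfl, pow_mul, pow_two, hwsq u hu, ← map_pow,
        hq _ (qSub.mul_mem hu (hα u hu)), map_one]
  -- the normalizer of the quaternion group
  have hNQ : ∀ g : G, (∀ q ∈ B.quat, g * q * g⁻¹ ∈ B.quat) → ∃ u, g = B.θ u ∨ g = B.θ u * E.I.w := by
    intro g hg
    have hgN : g ∈ normalizer (B.quat : Set G) := mem_normalizer_of_conj hg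
    have hga : g * B.a * g⁻¹ ∈ B.CQ := mem_centralizer_iff.2 fun q hq => by
      have hq' : g⁻¹ * q * g ∈ B.quat := by
        have := (mem_normalizer_iff.1 (inv_mem hgN) q).1 hq
        rwa [inv_inv] at this
      have h := (show Commute B.a (g⁻¹ * q * g) from ((mem_centralizer_iff.1 B.a_mem_CQ) _ hq').symm).conj g
      rw [show g * (g⁻¹ * q * g) * g⁻¹ = q by group] at h
      exact h.eq.symm
    obtain ⟨c, hc | hc⟩ := B.CQ_cent_a hga (hC _ hga)
    · refine E.mem_or_mem_mul ?_
      rcases hcases _ (show g * B.a * g⁻¹ ∈ zpowers B.a by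
        rw [hc, B.j_const]; exact pow_mem (mem_zpowers _) _) with h | h | h
      · exact absurd (conj_eq_one_iff.1 h) ha1
      · exact Or.inl h
      · exact Or.inr h
    · exfalso
      have h := congrArg (fun x => x ^ 3) hc
      simp only [conj_pow, h3, mul_one, mul_inv_cancel] at h
      rw [(show Commute (B.j (c, c, c)) B.tG from B.ops_commute_t (B.mem_ops.2 ⟨c, c, rfl⟩)).mul_pow, B.j_cube,
        one_mul, pow_succ, pow_two, B.t_sq, one_mul] at h
      exact B.t_ne_one h.symm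
  -- `T` is a Sylow subgroup of the centralizer of the exchange
  obtain ⟨P, hP⟩ := (IsPGroup.of_equiv hT2 (subgroupOfEquivOfLe hTt).symm).exists_le_sylow
  set P' := (P : Subgroup (centralizer ({B.tG} : Set G))).map (centralizer ({B.tG} : Set G)).subtype with hP'
  have hTP : T ≤ P' := fun g hg => ⟨⟨g, hTt hg⟩, hP hg, rfl⟩
  have hTeq : T = P' := by
    by_contra hne
    obtain ⟨g, hgP, hgT, hgn⟩ := lt_of_pGroup (P.isPGroup'.map _) hTP hne
    refine hgT ?_
    have hgt : Commute g B.tG := mem_centralizer_singleton_iff.1 (map_subtype_le _ hgP)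
    have hgQ : ∀ q ∈ B.quat, g * q * g⁻¹ ∈ B.quat := by
      intro q hq
      obtain ⟨u, hu, rfl⟩ := B.mem_quat.1 hq
      have hgt' : g * B.tG * g⁻¹ = B.tG := by rw [hgt.eq, mul_inv_cancel_right]
      have hs := List.all_eq_true.1 hsd u hu
      simp only [Bool.and_eq_true, Bool.or_eq_true, beq_iff_eq] at hs
      rcases hs.2 with (rfl | rfl) | h2
      · rw [map_one, mul_one, mul_inv_cancel]; exact one_mem _
      · exact hgt'.symm ▸ B.t_mem_quat
      · obtain ⟨u', hu', e | e⟩ := (hmemT _).1 (hgn _ (hQT hq))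
        · exact B.mem_quat.2 ⟨u', hu', e.symm⟩
        · exfalso
          have e2 : g * B.θ u * g⁻¹ * (g * B.θ u * g⁻¹) = B.tG := by rw [conj_mul, ← map_mul, h2]; exact hgt'
          rw [e, hwsq u' hu'] at e2
          have := List.all_eq_true.1 hsd u' hu'
          simp only [Bool.and_eq_true, bne_iff_ne] at this
          exact this.1 (B.inj e2)
    obtain ⟨k, hk⟩ := (P.isPGroup'.map _) ⟨g, hgP⟩
    have key : ∀ u : W, B.θ u ∈ P' → Commute (B.θ u) B.tG → u ∈ qList := by
      intro u huP hut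
      obtain ⟨k, hk⟩ := (P.isPGroup'.map _) ⟨_, huP⟩
      have hk' : u ^ (2 ^ k) = 1 := B.inj (by rw [map_pow, map_one]; exact congrArg Subtype.val hk)
      have h8 : u ^ 8 = 1 := by
        refine orderOf_dvd_iff_pow_eq_one.1 ?_
        obtain ⟨i, -, hi⟩ := (Nat.dvd_prime_pow Nat.prime_two).1 (orderOf_dvd_of_pow_eq_one hk')
        have hd := orderOf_dvd_natCard u
        rw [card_W, hi] at hd
        have hi3 : i ≤ 3 := by
          by_contra h
          have := (pow_dvd_pow 2 (by omega : 4 ≤ i)).trans hd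
          norm_num at this
        rw [hi]
        exact (pow_dvd_pow 2 hi3).trans (dvd_of_eq (by norm_num))
      refine cent_t_two u (B.inj (by rw [map_mul, map_mul]; exact hut.eq)) ?_
      rwa [show (8 : ℕ) = 2 * 2 * 2 from rfl, pow_mul, pow_mul, pow_two, pow_two, pow_two] at h8
    obtain ⟨u, rfl | rfl⟩ := hNQ g hgQ
    · exact (hmemT _).2 ⟨u, key u hgP hgt, Or.inl rfl⟩
    · have hwP : E.I.w ∈ P' := hTP ((hmemT _).2 ⟨1, List.mem_cons_self, Or.inr (by rw [map_one, one_mul])⟩)
      refine (hmemT _).2 ⟨u, key u ?_ ?_, Or.inr rfl⟩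
      · have := mul_mem hgP hwP
        rwa [mul_assoc, E.I.sq, mul_one] at this
      · have h := hgt.mul_left (show Commute E.I.w B.tG from E.I.comm_t)
        rwa [mul_assoc, E.I.sq, mul_one] at h
  -- an elementary abelian group of order eight
  have hrw : Commute E.r E.I.w := E.hr.2
  let φ : Multiplicative (ZMod 2 × ZMod 2 × ZMod 2) →* G :=
    MonoidHom.mk' (fun e => E.r ^ e.toAdd.1.val * E.I.w ^ e.toAdd.2.1.val * B.tG ^ e.toAdd.2.2.val) (by
      intro e e'
      have hp : ∀ (x : G), x * x = 1 → ∀ i i' : ZMod 2, x ^ (i + i').val = x ^ i.val * x ^ i'.val := by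
        intro x hx i i'
        rcases zmod_two_cases i with rfl | rfl <;>
          rcases zmod_two_cases i' with rfl | rfl
        · simp
        · simp
        · simp
        · show x ^ (0 : ℕ) = x ^ 1 * x ^ 1
          rw [pow_zero, pow_one, hx]
      simp only [toAdd_mul, Prod.fst_add, Prod.snd_add, hp _ E.hr2, hp _ E.I.sq, hp _ B.t_sq]
      set a1 := E.r ^ e.toAdd.1.val
      set b1 := E.r ^ e'.toAdd.1.val
      set a2 := E.I.w ^ e.toAdd.2.1.val
      set b2 := E.I.w ^ e'.toAdd.2.1.val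
      set a3 := B.tG ^ e.toAdd.2.2.val
      set b3 := B.tG ^ e'.toAdd.2.2.val
      have c21 : Commute b1 a2 := hrw.pow_pow _ _
      have c31 : Commute b1 a3 := E.r_commute_t.pow_pow _ _
      have c32 : Commute b2 a3 := (show Commute E.I.w B.tG from E.I.comm_t).pow_pow _ _
      calc a1 * b1 * (a2 * b2) * (a3 * b3) = a1 * (b1 * a2) * (b2 * a3) * b3 := by group
        _ = a1 * a2 * (b1 * a3) * b2 * b3 := by rw [c21.eq, c32.eq]; group
        _ = a1 * a2 * a3 * (b1 * b2 * b3) := by rw [c31.eq]; group)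
  have hφ : Function.Injective φ := by
    refine (injective_iff_map_eq_one φ).2 fun e he => ?_
    have hacts : B.Acts (φ e) ((rF^[e.toAdd.1.val]) ∘ ((fun x => -x)^[e.toAdd.2.1.val]) ∘ (tF^[e.toAdd.2.2.val])) := by
      have hpow : ∀ {m : G} {f : Vec → Vec}, B.Acts m f → ∀ n, B.Acts (m ^ n) (f^[n]) := by
        intro m f hm n
        induction n with
        | zero => rw [pow_zero]; exact Acts.one
        | succ n ih => rw [pow_succ, Function.iterate_succ]; exact ih.mul hm
      exact ((hpow E.hr.1 _).mul (hpow E.I.neg _)).mul (hpow B.acts_t _)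
    have := hacts.unique (f' := id) (by rw [he]; exact Acts.one)
    exact toAdd_eq_zero.1 (elementary_faith _ this)
  have hle : φ.range ≤ centralizer ({B.tG} : Set G) := by
    rintro _ ⟨e, rfl⟩
    refine mem_centralizer_singleton_iff.2 (((E.r_commute_t.pow_left _).mul_left
      ((show Commute E.I.w B.tG from E.I.comm_t).pow_left _)).mul_left ((Commute.refl _).pow_left _)).eq
  have h2 : IsPGroup 2 φ.range := IsPGroup.of_card (n := 3) (by
    rw [← Nat.card_congr (MonoidHom.ofInjective hφ).toEquiv, Nat.card_eq_fintype_card]; rfl)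
  obtain ⟨P2, hP2⟩ := (IsPGroup.of_equiv h2 (subgroupOfEquivOfLe hle).symm).exists_le_sylow
  obtain ⟨c, hc⟩ := MulAction.exists_smul_eq (centralizer ({B.tG} : Set G)) P2 P
  have hinT : ∀ e, (c : G) * φ e * (c : G)⁻¹ ∈ T := fun e => by
    rw [hTeq]
    refine ⟨c * ⟨φ e, hle ⟨e, rfl⟩⟩ * c⁻¹, ?_, rfl⟩
    have := Subgroup.smul_mem_pointwise_smul _ (MulAut.conj c) _ (hP2 (show (⟨φ e, hle ⟨e, rfl⟩⟩ :
      centralizer ({B.tG} : Set G)) ∈ φ.range.subgroupOf _ from ⟨e, rfl⟩))
    rw [← hc]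
    exact this
  -- too many involutions
  set Lst : List G := ([1, tW].map B.θ) ++ ((qList.filter fun u => αS u * u == 1).map fun u => B.θ u * E.I.w)
  have hin : ∀ e, (c : G) * φ e * (c : G)⁻¹ ∈ Lst := fun e => by
    obtain ⟨u, hu, h⟩ := (hmemT _).1 (hinT e)
    have hsq : (c : G) * φ e * (c : G)⁻¹ * ((c : G) * φ e * (c : G)⁻¹) = 1 := by
      rw [conj_mul, ← map_mul, elementary_sq e, map_one, mul_one, mul_inv_cancel]
    rcases h with h | h <;> rw [h] at hsq ⊢
    · refine List.mem_append_left _ ?_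
      have h2 : u * u = 1 := B.inj (by rw [map_mul, map_one]; exact hsq)
      have hs := List.all_eq_true.1 hsd u hu
      simp only [Bool.and_eq_true, Bool.or_eq_true, beq_iff_eq] at hs
      rcases hs.2 with (rfl | rfl) | h3
      · simp
      · simp
      · exact absurd (h2.symm.trans h3) (by decide +kernel)
    · refine List.mem_append_right _ (List.mem_map.2 ⟨u, List.mem_filter.2 ⟨hu, beq_iff_eq.2 ?_⟩, rfl⟩)
      rw [hwsq u hu, ← map_one B.θ] at hsq
      exact mul_eq_one_comm.1 (B.inj hsq)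
  have hcard := Finset.card_le_card_of_injOn (fun e => (c : G) * φ e * (c : G)⁻¹)
    (s := (Finset.univ : Finset (Multiplicative (ZMod 2 × ZMod 2 × ZMod 2)))) (t := Lst.toFinset)
    (fun e _ => List.mem_toFinset.2 (hin e)) (fun e _ e' _ he => hφ ((MulAut.conj (c : G)).injective he))
  have hlen : Lst.length = 6 := by
    simp only [Lst, List.length_append, List.length_map, semidihedral_invol]; rfl
  have := hcard.trans Lst.toFinset_card_le
  rw [hlen, Finset.card_univ] at this
  exact absurd this (by decide)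

end Eight

end Core

end CfsgLib.Recog.ThreeLocalSpSix
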