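import Cfsg.Agent.Lib.Recog.ThreeLocalSpSix.Planes
import Cfsg.Agent.Lib.Recog.ThreeLocalSpSix.LocalTables
import Cfsg.Prelude.Def_Balance

/-!
Owner: helper3. The centralizer of a short or middle vector modulo that vector: a self-centralising Sylow
subgroup of order nine whose automizer is the stabiliser in the monomial group.
-/

set_option autoImplicit false
set_option linter.all false
set_option maxRecDepth 100000

namespace CfsgLib.Recog.ThreeLocalSpSix

open Subgroup CfsgLib.Recog.HeisSL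

universe u

namespace Core

variable {G : Type u} [Group G] (B : Core G)

/-- The centralizer of a vector. -/
def D (x : Vec) : Subgroup G := centralizer ({B.j x} : Set G)

theorem mem_D {x : Vec} {g : G} : g ∈ B.D x ↔ Commute g (B.j x) := mem_centralizer_singleton_iff

theorem J_le_D (x : Vec) : B.J ≤ B.D x := fun y hy => B.mem_D.2 (B.comm_J hy (B.j_mem x))

/-- The subgroup generated by the vector, in its centralizer. -/
def Z (x : Vec) : Subgroup (B.D x) := (zpowers (B.j x)).subgroupOf (B.D x)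

instance Z_normal (x : Vec) : (B.Z x).Normal := ⟨fun n hn c => by
  obtain ⟨k, hk⟩ := mem_zpowers_iff.1 (mem_subgroupOf.1 hn)
  have h := (Commute.zpow_right (B.mem_D.1 c.2) k).eq
  rw [hk] at h
  rwa [show c * n * c⁻¹ = n from Subtype.ext (show (c : G) * n * (c : G)⁻¹ = n by rw [h, mul_inv_cancel_right])]⟩

/-- The projection to the centralizer modulo the vector. -/
def π (x : Vec) : B.D x →* (B.D x) ⧸ B.Z x := QuotientGroup.mk' (B.Z x)

theorem π_surj (x : Vec) : Function.Surjective (B.π x) := QuotientGroup.mk'_surjective _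

/-- The image of the abelian subgroup. -/
def T (x : Vec) : Subgroup ((B.D x) ⧸ B.Z x) := (B.J.subgroupOf (B.D x)).map (B.π x)

/-- The image of its normalizer. -/
def A (x : Vec) : Subgroup ((B.D x) ⧸ B.Z x) :=
  ((normalizer (B.J : Set G)).subgroupOf (B.D x)).map (B.π x)

theorem π_ker_le (x : Vec) : (B.π x).ker ≤ B.J.subgroupOf (B.D x) := by
  rw [π, QuotientGroup.ker_mk']
  exact fun c hc => zpowers_le.2 (B.j_mem x) hc

theorem T_comap (x : Vec) : (B.T x).comap (B.π x) = B.J.subgroupOf (B.D x) := by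
  rw [T, comap_map_eq, sup_eq_left.2 (B.π_ker_le x)]

theorem A_comap (x : Vec) : (B.A x).comap (B.π x) = (normalizer (B.J : Set G)).subgroupOf (B.D x) := by
  rw [A, comap_map_eq, sup_eq_left.2 ((B.π_ker_le x).trans
    (show B.J.subgroupOf (B.D x) ≤ (normalizer (B.J : Set G)).subgroupOf (B.D x) from fun c hc => le_normalizer hc))]

theorem normalizer_T (x : Vec) : normalizer (B.T x : Set ((B.D x) ⧸ B.Z x)) = B.A x := by
  apply comap_injective (B.π_surj x)
  rw [comap_normalizer_eq_of_surjective _ (B.π_surj x), T_comap, A_comap,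
    ← subgroupOf_normalizer_eq (B.J_le_D x)]

theorem card_T [Finite G] {x : Vec} (hx : x ≠ 0) : Nat.card (B.T x) = 9 := by
  have h1 := card_mul_index (B.J.subgroupOf (B.D x))
  rw [Nat.card_congr (subgroupOfEquivOfLe (B.J_le_D x)).toEquiv, B.card_J] at h1
  have h2 := card_mul_index (B.T x)
  rw [T, index_map_eq _ (B.π_surj x) (B.π_ker_le x)] at h2
  have h3 := card_eq_card_quotient_mul_card_subgroup (B.Z x)
  rw [Z, Nat.card_congr (subgroupOfEquivOfLe (zpowers_le.2 (B.mem_D.2 (Commute.refl _)))).toEquiv,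
    Nat.card_zpowers, B.orderOf_j hx] at h3
  have h0 : (B.J.subgroupOf (B.D x)).index ≠ 0 := index_ne_zero_of_finite
  refine Nat.eq_of_mul_eq_mul_right (Nat.pos_of_ne_zero h0) ?_
  rw [T, h2]
  rw [Z]
  omega

theorem T_elementary (x : Vec) : Cfsg.IsElementaryAbelian 3 (B.T x) := by
  refine ⟨⟨⟨?_⟩⟩, ?_⟩
  · rintro ⟨_, a, ha, rfl⟩ ⟨_, b, hb, rfl⟩
    exact Subtype.ext (show B.π x a * B.π x b = B.π x b * B.π x a by
      rw [← map_mul, ← map_mul, show a * b = b * a from Subtype.ext (B.comm_J ha hb)])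
  · rintro _ ⟨a, ha, rfl⟩
    rw [← map_pow, show a ^ 3 = 1 from Subtype.ext (by simpa using B.cube_J ha), map_one]

namespace Eight

variable {B} (E : B.Eight) {x : Vec} {S : Type} [Group S] [Fintype S] {wd : S → List (Fin 4)}

include E in
/-- The normalizer inside the centralizer consists of vectors times the words. -/
theorem exists_word [Finite G] (W : StabWords x S wd) {n : G} (hn : n ∈ normalizer (B.J : Set G))
    (hc : Commute n (B.j x)) : ∃ s v, n = B.j v * ((wd s).map E.gen4).prod := by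
  obtain ⟨f, hf⟩ := B.exists_acts hn
  obtain ⟨e, he, π, hπ, key⟩ := hf.monomial E.hF
  have hfx : f x = x := B.j_inj (by rw [← hf, hc.eq, mul_inv_cancel_right])
  obtain ⟨s, hs⟩ := W.stab e he π hπ (by rw [← key, hfx])
  obtain ⟨m, hm, hmp⟩ := E.rep_word (wd s)
  rw [(W.fix s).1, B.j_zero, one_mul] at hmp
  have hmA : B.Acts ((wd s).map E.gen4).prod (repWord (wd s)).2 := hmp ▸ hm.1
  have hfm : ∀ u, f u = (repWord (wd s)).2 u := fun u => by
    rw [hf.eq_lin u, hmA.eq_lin u, key, key, key, hs _ (by simp), hs _ (by simp), hs _ (by simp)]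
  obtain ⟨g, hg⟩ : ∃ g : Vec → Vec, ∀ u, (repWord (wd s)).2 (g u) = u :=
    ⟨_, fun u => (hmA.surj u).choose_spec⟩
  obtain ⟨v, hv⟩ := B.mem_J.1 ((hf.mul (hmA.inv hg)).mem_J fun u => by rw [Function.comp_apply, hfm, hg])
  exact ⟨s, v, by rw [hv, inv_mul_cancel_right]⟩

include E in
theorem word_acts (W : StabWords x S wd) (s : S) :
    E.I.Lift ((wd s).map E.gen4).prod (repWord (wd s)).2 := by
  obtain ⟨m, hm, hmp⟩ := E.rep_word (wd s)
  rw [(W.fix s).1, B.j_zero, one_mul] at hmp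
  exact hmp ▸ hm

include E in
theorem word_mem (W : StabWords x S wd) [Finite G] (s : S) :
    ((wd s).map E.gen4).prod ∈ normalizer (B.J : Set G) ∧ ((wd s).map E.gen4).prod ∈ B.D x := by
  have h := (E.word_acts W s).1
  refine ⟨h.mem, B.mem_D.2 ?_⟩
  have e := h x
  rw [(W.fix s).2] at e
  exact mul_inv_eq_iff_eq_mul.1 e

/-- The stabiliser as a group of elements. -/
noncomputable def σ (W : StabWords x S wd) : S →* G :=
  MonoidHom.mk' (fun s => ((wd s).map E.gen4).prod) fun s s' =>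
    (E.I.lift_unique (E.I.lift_mul (E.word_acts W s) (E.word_acts W s')) (E.word_acts W (s * s'))
      (fun u => W.mul s s' u)).symm

theorem σ_apply (W : StabWords x S wd) (s : S) : E.σ W s = ((wd s).map E.gen4).prod := rfl

include E in
theorem four_mem [Finite G] (W : StabWords x S wd) {n : G} (hn : n ∈ B.D x)
    (hnN : n ∈ normalizer (B.J : Set G)) : n * n * (n * n) ∈ B.J := by
  obtain ⟨s, v, rfl⟩ := E.exists_word W hnN (B.mem_D.1 hn)
  rw [← E.σ_apply W]
  have hσN : E.σ W s ∈ normalizer (B.J : Set G) := (E.word_mem W s).1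
  have hc : ∀ y ∈ B.J, E.σ W s * y * (E.σ W s)⁻¹ ∈ B.J := fun y hy => (mem_normalizer_iff.1 hσN y).1 hy
  set a := B.j v
  set m := E.σ W s with hm
  have h4 : m * m * (m * m) = 1 := by rw [hm, ← map_mul, ← map_mul, W.four, map_one]
  have e : a * m * (a * m) * (a * m * (a * m)) =
      a * (m * a * m⁻¹) * (m * (m * a * m⁻¹) * m⁻¹) * (m * (m * (m * a * m⁻¹) * m⁻¹) * m⁻¹) * (m * m * (m * m)) := by
    group
  rw [e, h4, mul_one]
  have ha : a ∈ B.J := B.j_mem v
  exact mul_mem (mul_mem (mul_mem ha (hc _ ha)) (hc _ (hc _ ha))) (hc _ (hc _ (hc _ ha)))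

include E in
theorem T_index [Finite G] (W : StabWords x S wd) : ¬ 3 ∣ (B.T x).index := by
  rw [T, index_map_eq _ (B.π_surj x) (B.π_ker_le x)]
  exact B.relIndex_J (B.J_le_D x) fun n hn hnN => E.four_mem W hn hnN

/-- The image as a Sylow subgroup. -/
noncomputable def sylT [Finite G] (hx : x ≠ 0) (W : StabWords x S wd) : Sylow 3 ((B.D x) ⧸ B.Z x) :=
  @IsPGroup.toSylow 3 ((B.D x) ⧸ B.Z x) _ ⟨Nat.prime_three⟩ (B.T x)
    (IsPGroup.of_card (n := 2) ((B.card_T hx).trans (by norm_num))) (E.T_index W)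

theorem sylT_coe [Finite G] (hx : x ≠ 0) (W : StabWords x S wd) :
    (E.sylT hx W : Subgroup ((B.D x) ⧸ B.Z x)) = B.T x :=
  IsPGroup.toSylow_coe _ _

include E in
theorem cent_T [Finite G] (W : StabWords x S wd) :
    centralizer (B.T x : Set ((B.D x) ⧸ B.Z x)) = B.T x := by
  refine le_antisymm ?_ fun a ha => mem_centralizer_iff.2 fun b hb =>
    congrArg Subtype.val ((B.T_elementary x).1.is_comm.comm ⟨b, hb⟩ ⟨a, ha⟩)
  intro a ha
  classical
  obtain ⟨c, rfl⟩ := B.π_surj x a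
  have hcy : ∀ u : Vec, ∃ i : ℕ, (c : G) * B.j u * (c : G)⁻¹ = B.j (i • x + u) := by
    intro u
    have h := mem_centralizer_iff.1 ha (B.π x ⟨B.j u, B.J_le_D x (B.j_mem u)⟩)
      (mem_map_of_mem _ (show (⟨B.j u, B.J_le_D x (B.j_mem u)⟩ : B.D x) ∈ B.J.subgroupOf (B.D x) from
        B.j_mem u))
    set y : B.D x := ⟨B.j u, B.J_le_D x (B.j_mem u)⟩ with hy
    have hk : c * y * c⁻¹ * y⁻¹ ∈ B.Z x := by
      rw [← QuotientGroup.eq_one_iff]
      show B.π x (c * y * c⁻¹ * y⁻¹) = 1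
      rw [map_mul, map_mul, map_mul, map_inv, map_inv, ← h, mul_inv_cancel_right, mul_inv_cancel]
    obtain ⟨i, hi⟩ := (mem_zpowers_iff_mem_range_orderOf.trans Finset.mem_image).1 (mem_subgroupOf.1 hk)
    refine ⟨i, ?_⟩
    rw [B.j_add, B.j_nsmul, hi.2]
    simp [hy, mul_assoc]
  have hcN : (c : G) ∈ normalizer (B.J : Set G) := mem_normalizer_of_conj fun y hy => by
    obtain ⟨u, rfl⟩ := B.mem_J.1 hy
    obtain ⟨i, hi⟩ := hcy u
    exact hi ▸ B.j_mem _
  obtain ⟨s, v, hv⟩ := E.exists_word W hcN (B.mem_D.1 c.2)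
  have hs : s = 1 := W.faith s fun u => by
    obtain ⟨i, hi⟩ := hcy u
    rw [hv] at hi
    have e := B.j_inj ((((B.acts_j v).mul (E.word_acts W s).1) u).symm.trans hi)
    rw [Function.comp_apply, id] at e
    rw [e, add_sub_cancel_right]
    rw [← Nat.mod_add_div i 3, add_smul, mul_smul]
    have h3 : ∀ z : Vec, 3 • z = 0 := by decide +kernel
    rw [h3, add_zero]
    have := Nat.mod_lt i (show 3 > 0 by norm_num)
    interval_cases (i % 3)
    · simp
    · simp
    · have : (2 : ℕ) • x = -x := eq_neg_of_add_eq_zero_left (by rw [← succ_nsmul]; exact h3 x)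
      simp [this]
  refine mem_map_of_mem _ (mem_subgroupOf.2 ?_)
  rw [hv, hs, ← E.σ_apply W, map_one, mul_one]
  exact B.j_mem v

include E in
/-- The automizer is the stabiliser. -/
theorem quot_equiv [Finite G] (W : StabWords x S wd) :
    Nonempty (↥(normalizer (B.T x : Set ((B.D x) ⧸ B.Z x))) ⧸
      (B.T x).subgroupOf (normalizer (B.T x : Set ((B.D x) ⧸ B.Z x))) ≃* S) := by
  set N := normalizer (B.T x : Set ((B.D x) ⧸ B.Z x)) with hN
  let σD : S →* B.D x := (E.σ W).codRestrict _ fun s => (E.word_mem W s).2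
  let σN : S →* N := ((B.π x).comp σD).codRestrict _ fun s => by
    rw [hN, normalizer_T]
    exact mem_map_of_mem _ (show (σD s : G) ∈ normalizer (B.J : Set G) from (E.word_mem W s).1)
  let ψ := (QuotientGroup.mk' ((B.T x).subgroupOf N)).comp σN
  refine ⟨(MulEquiv.ofBijective ψ ⟨?_, ?_⟩).symm⟩
  · refine (injective_iff_map_eq_one ψ).2 fun s hs => ?_
    rw [MonoidHom.comp_apply, QuotientGroup.mk'_apply, QuotientGroup.eq_one_iff, mem_subgroupOf] at hs
    have hJ : σD s ∈ (B.T x).comap (B.π x) := hs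
    rw [T_comap, mem_subgroupOf] at hJ
    obtain ⟨v, hv⟩ := B.mem_J.1 hJ
    refine W.faith s fun u => ?_
    have hA : B.Acts (B.j v) (repWord (wd s)).2 := by rw [hv]; exact (E.word_acts W s).1
    rw [hA.unique (B.acts_j v) u]
    simp
  · intro q
    obtain ⟨⟨a, ha⟩, rfl⟩ := QuotientGroup.mk'_surjective _ q
    have ha' : a ∈ B.A x := B.normalizer_T x ▸ ha
    obtain ⟨c, hc, rfl⟩ := ha'
    obtain ⟨s, v, hv⟩ := E.exists_word W hc (B.mem_D.1 c.2)
    refine ⟨s, ?_⟩
    rw [MonoidHom.comp_apply, QuotientGroup.mk'_apply, QuotientGroup.mk'_apply, QuotientGroup.eq, mem_subgroupOf]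
    show ((B.π x) (σD s))⁻¹ * B.π x c ∈ B.T x
    rw [← map_inv, ← map_mul]
    refine mem_map_of_mem _ (mem_subgroupOf.2 ?_)
    show (E.σ W s)⁻¹ * (c : G) ∈ B.J
    rw [show (c : G) = B.j v * ((wd s).map E.gen4).prod from hv, ← E.σ_apply W, ← mul_assoc]
    have := (mem_normalizer_iff.1 (inv_mem (E.word_mem W s).1) (B.j v)).1 (B.j_mem v)
    rwa [inv_inv, ← E.σ_apply W] at this

include E in
theorem loc [Finite G] (hx : x ∈ ([(1, 0, 0), (0, 1, 1)] : List Vec)) (W : StabWords x S wd) :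
    ∀ t ∈ B.T x, t ≠ 1 →
      centralizer ({t} : Set ((B.D x) ⧸ B.Z x)) ≤ normalizer (B.T x : Set ((B.D x) ⧸ B.Z x)) := by
  intro t ht ht1 a ha
  obtain ⟨⟨y, hyD⟩, hy, rfl⟩ := ht
  obtain ⟨u, rfl⟩ := B.mem_J.1 (show y ∈ B.J from hy)
  obtain ⟨⟨c, hcD⟩, rfl⟩ := B.π_surj x a
  rw [normalizer_T]
  refine mem_map_of_mem _ (show c ∈ normalizer (B.J : Set G) from ?_)
  have hz : c * B.j u * c⁻¹ * (B.j u)⁻¹ ∈ zpowers (B.j x) := by
    have h := mem_centralizer_singleton_iff.1 ha
    have hk : (⟨c, hcD⟩ : B.D x) * ⟨B.j u, hyD⟩ * (⟨c, hcD⟩ : B.D x)⁻¹ * (⟨B.j u, hyD⟩ : B.D x)⁻¹ ∈ B.Z x := by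
      rw [← QuotientGroup.eq_one_iff]
      show B.π x (_ * _ * _ * _) = 1
      rw [map_mul, map_mul, map_mul, map_inv, map_inv, h, mul_inv_cancel_right, mul_inv_cancel]
    exact mem_subgroupOf.1 hk
  have hcy : c * B.j u * c⁻¹ ∈ B.J := by simpa using mul_mem (zpowers_le.2 (B.j_mem x) hz) (B.j_mem u)
  obtain ⟨n, hnD, hnN, e⟩ := PSpFourAmalgam.conj_fusion (B.J_le_D x) B.isPGroup_J
    (B.relIndex_J (B.J_le_D x) fun n hn hnN => E.four_mem W hn hnN) (fun a ha b hb => B.comm_J ha hb)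
    (B.j_mem u) hcD hcy
  have hy' : Commute (n⁻¹ * c) (B.j u) := by
    refine mul_inv_eq_iff_eq_mul.1 ?_
    calc n⁻¹ * c * B.j u * (n⁻¹ * c)⁻¹ = n⁻¹ * (c * B.j u * c⁻¹) * n := by group
      _ = n⁻¹ * (n * B.j u * n⁻¹) * n := by rw [e]
      _ = B.j u := by group
  have hne : ∀ v ∈ ([0, x, -x] : List Vec), u ≠ v := by
    intro v hv huv
    refine ht1 ((QuotientGroup.eq_one_iff _).2 (mem_subgroupOf.2 ?_))
    show B.j u ∈ zpowers (B.j x)
    simp only [List.mem_cons, List.not_mem_nil, or_false] at hv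
    rcases hv with rfl | rfl | rfl <;> rw [huv]
    exacts [B.j_zero ▸ one_mem _, mem_zpowers _, B.j_neg x ▸ inv_mem (mem_zpowers _)]
  have h := cent_two E.hF hx (hne 0 (by simp)) (hne x (by simp)) (hne (-x) (by simp))
    (B.mem_D.1 (mul_mem (inv_mem hnD) hcD)) hy'
  simpa using mul_mem hnN h

include E in
theorem le_normalizer_of_normal [Finite G] (h : (B.T x).Normal) : B.D x ≤ normalizer (B.J : Set G) := by
  intro c hc
  have : (⟨c, hc⟩ : B.D x) ∈ (B.A x).comap (B.π x) := by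
    rw [mem_comap, ← normalizer_T, normalizer_eq_top_iff.2 h]; exact mem_top _
  rwa [A_comap, mem_subgroupOf] at this

end Eight

end Core

end CfsgLib.Recog.ThreeLocalSpSix
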