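import Cfsg.Agent.Lib.Recog.ThreeLocalSpSix.SylowTwo
import Cfsg.Agent.Lib.Recog.ThreeLocalSpSix.Classes
import Cfsg.Agent.Lib.Recog.ThreeLocalSpSix.EightAut
import Cfsg.Agent.Lib.Transfer.ThompsonTransfer

/-!
Owner: helper3. When the two quaternion groups commute, transfer gives a subgroup of index two missing the first
reflection; so the seventh generator cannot exist then.
-/

set_option autoImplicit false
set_option linter.all false
set_option maxRecDepth 100000

namespace CfsgLib.Recog.ThreeLocalSpSix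

open Subgroup CfsgLib.Recog.HeisSL

universe u

theorem parity_rels : ∀ w ∈ Model.relsSix,
    (w.map fun i => (Multiplicative.ofAdd (![1, 1, 0, 0, 1] i) : Multiplicative (ZMod 2))).prod = 1 := by decide +kernel

theorem mult_two_cases : ∀ a : Multiplicative (ZMod 2), a = 1 ∨ a = Multiplicative.ofAdd 1 := by decide +kernel

theorem parity_bool : ∀ b : Bool, ((if b then 1 else 0 : ZMod 2) = 0) → b = false := by decide +kernel

namespace Core

namespace Eight

variable {G : Type u} [Group G] [Finite G] {B : Core G} {E : B.Eight}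

namespace SixHom

variable (H : E.SixHom)

theorem ev_cWord : E.ev Model.cWord = E.r * E.refl2 := by
  rw [show Model.cWord = [0] ++ ([2, 0, 2] : List (Fin 4)).map Fin.castSucc from rfl, ev_append, ev_zero, ev_four]
  rfl

theorem ev_reverse (H : E.SixHom) : ∀ w : List (Fin 5), E.ev w.reverse = (E.ev w)⁻¹
  | [] => by simp [ev]
  | i :: w => by
    have h2 : E.ev [i] * E.ev [i] = 1 := by
      rw [← ev_append, ← E.ev_nil]
      exact H.ev_eq (by revert i; decide +kernel)
    rw [List.reverse_cons, ev_append, ev_reverse H w, show i :: w = [i] ++ w from rfl, ev_append, _root_.mul_inv_rev,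
      inv_eq_of_mul_eq_one_right h2]

include H in
/-- Transfer: the first reflection avoids a subgroup of index two. -/
theorem exists_index_two : ∃ M : Subgroup G, M.index = 2 ∧ E.r ∉ M := by
  classical
  have : Fact (Nat.Prime 2) := ⟨Nat.prime_two⟩
  obtain ⟨χ, hχ⟩ := Model.exists_hom_six' (G := Multiplicative (ZMod 2))
    (fun i => Multiplicative.ofAdd (![1, 1, 0, 0, 1] i)) parity_rels
  have hpar : ∀ w, χ (Model.prodSix w) = Multiplicative.ofAdd (Model.parity w) := by
    intro w
    induction w with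
    | nil => exact map_one χ
    | cons i w ih =>
      rw [← List.singleton_append, Model.prodSix_append, map_mul, ih,
        show χ (Model.prodSix [i]) = χ (Model.sixGen i) from congrArg χ List.prod_singleton, hχ, ← ofAdd_add]
      exact congrArg Multiplicative.ofAdd (List.sum_cons).symm
  set e := MonoidHom.ofInjective H.inj with he
  set ψ : E.T128 →* Multiplicative (ZMod 2) :=
    χ.comp (e.symm.toMonoidHom.comp (Subgroup.inclusion H.T_le_image)) with hψ
  have hψev : ∀ (w : List (Fin 5)) (h : E.ev w ∈ E.T128), ψ ⟨E.ev w, h⟩ = Multiplicative.ofAdd (Model.parity w) := by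
    intro w h
    rw [← hpar]
    refine congrArg χ (e.symm_apply_eq.2 (Subtype.ext ?_))
    exact (H.φ_prod w).symm
  set Q := ψ.ker.map E.T128.subtype with hQ
  obtain ⟨P, hP⟩ := H.exists_sylow
  have hQi : Q.relIndex (P : Subgroup G) = 2 := by
    rw [hP, relIndex, hQ, subgroupOf, comap_map_eq_self_of_injective E.T128.subtype_injective, index_ker]
    have htop : ψ.range = ⊤ := by
      refine eq_top_iff.2 fun a _ => ?_
      rcases mult_two_cases a with rfl | rfl
      · exact one_mem _
      · exact ⟨⟨E.ev [0], E.ev_zero.symm ▸ E.r_mem_T⟩, (hψev [0] _).trans rfl⟩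
    rw [htop, card_top, Nat.card_eq_fintype_card]
    rfl
  have hr1 : E.r ≠ 1 := fun h => by
    have := H.rows_of_ev (w := [0]) (w' := []) (by rw [ev_zero, ev_nil, h])
    exact absurd this (by decide +kernel)
  rcases CfsgLib.Transfer.thompson_transfer P Q hQi (orderOf_eq_prime (by rw [pow_two, E.hr2]) hr1) with
    ⟨M, -, hM, hr⟩ | ⟨g, hg⟩
  · exact ⟨M, hM, hr⟩
  exfalso
  obtain ⟨⟨q, hqT⟩, hq, e1⟩ := hg
  obtain ⟨x, hx, rfl⟩ := H.exists_rep hqT
  change E.ev x.1 = g * E.r * g⁻¹ at e1
  have hpar0 : Model.parity x.1 = 0 := by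
    have := (hψev x.1 hqT).symm.trans (MonoidHom.mem_ker.1 hq)
    exact ofAdd_eq_one.1 this
  have hx2 : x.2 = false := parity_bool _ (by
    have := List.all_eq_true.1 Model.tReps_parity x hx
    rw [beq_iff_eq] at this
    rw [← this, hpar0])
  have hxx : Model.rows5 (x.1 ++ x.1) = Model.rows5 [] := H.rows_of_ev (by
    rw [ev_append, e1, conj_mul, E.hr2, mul_one, mul_inv_cancel, ev_nil])
  have hx1 : Model.rows5 x.1 ≠ Model.rows5 [] := fun h => hr1 (conj_eq_one_iff.1 (by
    rw [← e1, H.ev_eq h, ev_nil]))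
  have hc := List.all_eq_true.1 Model.tReps_even x hx
  rw [if_pos (by simp [hx2, hxx, hx1]), List.contains_iff_mem, List.mem_map] at hc
  obtain ⟨⟨b, u⟩, -, hb⟩ := hc
  have hval : g * E.r * g⁻¹ = E.ev u * E.ev (if b then [3] else Model.cWord) * (E.ev u)⁻¹ := by
    rw [← e1, ← H.ev_eq hb, Model.witWord, ev_append, ev_append, ev_reverse H]
  have hconj : (E.ev u)⁻¹ * g * E.r * ((E.ev u)⁻¹ * g)⁻¹ = E.ev (if b then [3] else Model.cWord) := by
    rw [show (E.ev u)⁻¹ * g * E.r * ((E.ev u)⁻¹ * g)⁻¹ = (E.ev u)⁻¹ * (g * E.r * g⁻¹) * E.ev u by group, hval]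
    group
  cases b with
  | true => exact E.r_not_conj_t _ (hconj.trans E.ev_three)
  | false => exact E.r_not_conj_c _ (hconj.trans ev_cWord)

end SixHom

include E in
/-- The seventh generator excludes the situation of commuting quaternion groups without it. -/
theorem false_of_mixed (V : E.Vee) (h : E.Q' ≤ B.CQ ∧ ∀ c ∈ B.CQ, ∃ n ∈ E.Q', Commute (n * c) B.a) : False := by
  obtain ⟨H⟩ := exists_sixHom h
  obtain ⟨M, hM, hr⟩ := H.exists_index_two
  have hθ : ∀ u, B.θ u ∈ M := fun u => by
    obtain ⟨a, b, c, rfl⟩ := w_squares u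
    simp only [map_mul]
    exact mul_mem (mul_self_mem_of_index_two hM _)
      (mul_mem (mul_self_mem_of_index_two hM _) (mul_self_mem_of_index_two hM _))
  have hn : M.Normal := normal_of_index_eq_two hM
  have hconj : ∀ {x : G} (g : G), x ∉ M → g * x * g⁻¹ ∉ M := fun g hx h => hx (by
    have := hn.conj_mem _ h g⁻¹
    simpa [mul_assoc] using this)
  have h2 : E.refl2 ∉ M := by
    rw [show E.refl2 = B.θ pW * E.r * (B.θ pW)⁻¹ by
      rw [show (B.θ pW)⁻¹ = B.θ pW by rw [← map_inv, pW_inv]]
      show B.θ pW * (E.r * (B.θ pW * 1)) = _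
      rw [mul_one, mul_assoc]]
    exact hconj _ hr
  obtain ⟨g, -, hg⟩ := V.conj
  have hv : V.v ∉ M := hg ▸ hconj g h2
  have hva := hconj B.a hv
  have hvaa := hconj B.a hva
  have hp : ∀ {x y : G}, x ∉ M → y ∉ M → x * y ∈ M := fun hx hy => (mul_mem_iff_of_index_two hM).2 (by tauto)
  have ht := hθ tW
  rw [← V.tri] at ht
  exact hv ((mul_mem_cancel_right (hp hva hvaa)).1 ht)

end Eight

end Core

end CfsgLib.Recog.ThreeLocalSpSix
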