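import Cfsg.Agent.Lib.Recog.ThreeLocalSpSix.Homs
import Cfsg.Agent.Lib.Recog.ThreeLocalSpSix.Model.TwoGroup

/-!
Owner: helper3. When the two quaternion groups commute: the subgroup of order 128 of the image of the model is
a Sylow 2-subgroup of the group.
-/

set_option autoImplicit false
set_option linter.all false
set_option maxRecDepth 100000

namespace CfsgLib.Recog.ThreeLocalSpSix

open Subgroup CfsgLib.Recog.HeisSL
open scoped Pointwise

universe u

/-- Every pair of non-commuting elements of order four is an image of the standard pair. -/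
theorem quat_pairs : (qList.all fun x => qList.all fun y =>
    !(x * x == tW && y * y == tW && y != x && y != x⁻¹) ||
      ([false, true].any fun e => qList.any fun u => [(0 : ℕ), 1, 2].any fun k =>
        let z := u * (if k = 0 then 1 else if k = 1 then yW else yW * yW)
        z * (if e then αS qW else qW) * z⁻¹ == x && z * (if e then αS q1W else q1W) * z⁻¹ == y)) = true := by
  decide +kernel

theorem q1W_order : q1W * q1W = tW ∧ qW ≠ q1W ∧ q1W ≠ qW⁻¹ := by decide +kernel

namespace Core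

/-- An embedding of the model of `W(E₆)`, the second quaternion group centralizing the first. -/
structure Eight.SixHom {G : Type u} [Group G] {B : Core G} (E : B.Eight) where
  φ : Model.Six →* G
  inj : Function.Injective φ
  gens : ∀ i, φ (Model.sixGen i) = E.gen5 i
  le : E.Q' ≤ B.CQ
  decomp : ∀ c ∈ B.CQ, ∃ n ∈ E.Q', Commute (n * c) B.a

namespace Eight

variable {G : Type u} [Group G] {B : Core G} {E : B.Eight}

theorem exists_sixHom [Finite G] (h : E.Q' ≤ B.CQ ∧ ∀ c ∈ B.CQ, ∃ n ∈ E.Q', Commute (n * c) B.a) :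
    Nonempty E.SixHom := by
  obtain ⟨φ, h1, h2⟩ := E.exists_six h.1
  exact ⟨⟨φ, h1, h2, h.1, h.2⟩⟩

variable (E)

/-- The value of a word. -/
def ev (w : List (Fin 5)) : G := (w.map E.gen5).prod

theorem ev_append (w w' : List (Fin 5)) : E.ev (w ++ w') = E.ev w * E.ev w' := by
  rw [ev, ev, ev, List.map_append, List.prod_append]

theorem ev_nil : E.ev [] = 1 := rfl

theorem ev_zero : E.ev [0] = E.r := List.prod_singleton

theorem ev_three : E.ev [3] = B.tG := List.prod_singleton

theorem ev_y : E.ev [0, 1] = E.y := by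
  show E.r * (E.r * E.y * 1) = _
  rw [mul_one, ← mul_assoc, E.hr2, one_mul]

theorem ev_four (w : List (Fin 4)) : E.ev (w.map Fin.castSucc) = (w.map E.gen4).prod := by
  rw [ev, List.map_map, Function.comp_def, E.gen5_four]

theorem ev_yi : E.ev [1, 0] = E.y⁻¹ := by
  rw [show ([1, 0] : List (Fin 5)) = ([1, 0] : List (Fin 4)).map Fin.castSucc from rfl, ev_four,
    E.word_eq_j [1, 0] (-(1, 0, 0)) (by decide +kernel)]
  exact B.j_neg _

theorem ev_q : E.ev Model.qWord = B.θ qW := E.q_head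

theorem ev_q1 : E.ev Model.q1Word = B.θ q1W := by
  rw [Model.q1Word, ev_append, ev_append, ev_y, ev_q, ev_yi, q1W, map_mul, map_mul, map_inv]
  rfl

theorem ev_w : E.ev Model.wWord = E.I.w := by
  rw [show Model.wWord = ([0, 2, 0, 2, 3, 2, 0, 2, 3] : List (Fin 4)).map Fin.castSucc from rfl, ev_four]
  exact E.word_eq _ E.I.lift_w (by decide +kernel)

theorem qWords_map : Model.qWords.map E.ev = qList.map B.θ := by
  simp only [Model.qWords, qList, List.map_cons, List.map_nil, ev_append, ev_nil, ev_q, ev_q1, ev_three,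
    map_mul, map_one, tG]

theorem ev_qWords {u : List (Fin 5)} (hu : u ∈ Model.qWords) : E.ev u ∈ B.quat := by
  have h := List.mem_map_of_mem (f := E.ev) hu
  rw [E.qWords_map] at h
  obtain ⟨x, hx, e⟩ := List.mem_map.1 h
  exact B.mem_quat.2 ⟨x, hx, e⟩

/-- The subgroup of order 128. -/
def T128 : Subgroup G := closure {g | ∃ w ∈ Model.tGens, E.ev w = g}

theorem gen_mem_T {w : List (Fin 5)} (hw : w ∈ Model.tGens) : E.ev w ∈ E.T128 :=
  subset_closure ⟨w, hw, rfl⟩

theorem r_mem_T : E.r ∈ E.T128 := E.ev_zero ▸ E.gen_mem_T (by simp [Model.tGens])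

theorem w_mem_T : E.I.w ∈ E.T128 := E.ev_w ▸ E.gen_mem_T (by simp [Model.tGens])

theorem quat_le_T : B.quat ≤ E.T128 := by
  intro g hg
  obtain ⟨x, hx, rfl⟩ := B.mem_quat.1 hg
  have hq : B.θ qW ∈ E.T128 := E.ev_q ▸ E.gen_mem_T (by simp [Model.tGens])
  have hq1 : B.θ q1W ∈ E.T128 := E.ev_q1 ▸ E.gen_mem_T (by simp [Model.tGens])
  have ht : B.θ tW ∈ E.T128 := by
    have h := mul_mem hq hq
    rwa [← map_mul, qW_sq] at h
  simp only [qList, List.mem_cons, List.not_mem_nil, or_false] at hx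
  rcases hx with rfl | rfl | rfl | rfl | rfl | rfl | rfl | rfl <;> (try simp only [map_mul, map_one])
  exacts [one_mem _, ht, hq, mul_mem hq ht, hq1, mul_mem hq1 ht, mul_mem hq hq1, mul_mem (mul_mem hq hq1) ht]

theorem Q'_le_T : E.Q' ≤ E.T128 := fun g hg => by
  have h := mul_mem (mul_mem E.r_mem_T (E.quat_le_T (E.mem_Q'.1 hg))) E.r_mem_T
  rwa [show E.r * (E.r * g * E.r) * E.r = E.r * E.r * g * (E.r * E.r) by group, E.hr2, one_mul, mul_one] at h

namespace SixHom

variable {E} (H : E.SixHom)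

include H

theorem φ_prod (w : List (Fin 5)) : H.φ (Model.prodSix w) = E.ev w := by
  rw [Model.prodSix, map_list_prod, List.map_map, ev]
  exact congrArg List.prod (List.map_congr_left fun i _ => H.gens i)

theorem ev_eq {w w' : List (Fin 5)} (h : Model.rows5 w = Model.rows5 w') : E.ev w = E.ev w' := by
  rw [← H.φ_prod, ← H.φ_prod, Model.prodSix_eq_iff.2 h]

theorem rows_of_ev {w w' : List (Fin 5)} (h : E.ev w = E.ev w') : Model.rows5 w = Model.rows5 w' :=
  Model.prodSix_eq_iff.1 (H.inj (by rw [H.φ_prod, H.φ_prod, h]))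

theorem exists_rep {g : G} (hg : g ∈ E.T128) : ∃ x ∈ Model.tReps, E.ev x.1 = g := by
  have hstep : ∀ x ∈ Model.tReps, ∀ w ∈ Model.tGens, ∃ y ∈ Model.tReps, E.ev y.1 = E.ev x.1 * E.ev w := by
    intro x hx w hw
    have h := List.all_eq_true.1 (List.all_eq_true.1 Model.tReps_closed _ (List.mem_map_of_mem hx)) w hw
    obtain ⟨y, hy, e⟩ := List.mem_map.1 (List.contains_iff_mem.1 h)
    exact ⟨y, hy, by rw [← E.ev_append]; exact H.ev_eq (e.trans (Model.rows5_append x.1 w).symm)⟩
  induction hg using closure_induction_right with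
  | one =>
    refine ⟨([0, 0], false), by decide +kernel, ?_⟩
    show E.ev ([0] ++ [0]) = 1
    rw [ev_append, ev_zero, E.hr2]
  | mul_right g hg y hy ih =>
    obtain ⟨w, hw, rfl⟩ := hy
    obtain ⟨x, hx, rfl⟩ := ih
    exact hstep x hx w hw
  | mul_inv_cancel g hg y hy ih =>
    obtain ⟨w, hw, rfl⟩ := hy
    obtain ⟨x, hx, rfl⟩ := ih
    obtain ⟨w', hw', e⟩ : ∃ w' ∈ Model.tGens, (E.ev w)⁻¹ = E.ev w' := by
      have key : ∀ u u' : List (Fin 5), Model.rows5 (u ++ u') = Model.rows5 [] → (E.ev u)⁻¹ = E.ev u' :=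
        fun u u' h => inv_eq_of_mul_eq_one_right (by rw [← E.ev_append, H.ev_eq h]; rfl)
      simp only [Model.tGens, List.mem_cons, List.not_mem_nil, or_false] at hw
      rcases hw with rfl | rfl | rfl | rfl | rfl | rfl
      exacts [⟨Model.qiWord, by simp [Model.tGens], key _ _ (by decide +kernel)⟩,
        ⟨Model.qWord, by simp [Model.tGens], key _ _ (by decide +kernel)⟩,
        ⟨Model.q1iWord, by simp [Model.tGens], key _ _ (by decide +kernel)⟩,
        ⟨Model.q1Word, by simp [Model.tGens], key _ _ (by decide +kernel)⟩,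
        ⟨[0], by simp [Model.tGens], key _ _ (by decide +kernel)⟩,
        ⟨Model.wWord, by simp [Model.tGens], key _ _ (by decide +kernel)⟩]
    rw [e]
    exact hstep x hx w' hw'

theorem rep_mem {x : List (Fin 5) × Bool} (hx : x ∈ Model.tReps) : E.ev x.1 ∈ E.T128 := by
  simp only [Model.tReps, List.mem_flatMap, List.mem_map] at hx
  obtain ⟨u, hu, u', hu', s, hs, rfl⟩ := hx
  simp only [ev_append, ev_zero]
  refine mul_mem (mul_mem (mul_mem (mul_mem (E.quat_le_T (E.ev_qWords hu)) E.r_mem_T) ?_) E.r_mem_T) ?_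
  · refine E.quat_le_T (E.ev_qWords ?_)
    simp only [List.mem_cons, List.not_mem_nil, or_false] at hu'
    rcases hu' with rfl | rfl | rfl | rfl <;> simp [Model.qWords]
  · simp only [List.mem_cons, List.not_mem_nil, or_false] at hs
    rcases hs with rfl | rfl | rfl | rfl
    · exact one_mem _
    · exact E.ev_zero.symm ▸ E.r_mem_T
    · exact E.ev_w.symm ▸ E.w_mem_T
    · rw [ev_append, ev_zero, ev_w]; exact mul_mem E.r_mem_T E.w_mem_T

theorem card_T128 : Nat.card E.T128 = 128 := by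
  classical
  let L := Model.tReps.map fun x => E.ev x.1
  have hnd : L.Nodup := by
    have h := Model.tReps_nodup
    rw [List.nodup_map_iff_inj_on (List.Nodup.of_map _ h)] at h
    refine (List.nodup_map_iff_inj_on (List.Nodup.of_map _ Model.tReps_nodup)).2 fun x hx y hy e => ?_
    exact h x hx y hy (H.rows_of_ev e)
  have hset : (E.T128 : Set G) = {g | g ∈ L} := by
    ext g
    refine ⟨fun hg => ?_, fun hg => ?_⟩
    · obtain ⟨x, hx, e⟩ := H.exists_rep hg
      exact List.mem_map.2 ⟨x, hx, e⟩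
    · obtain ⟨x, hx, rfl⟩ := List.mem_map.1 hg
      exact H.rep_mem hx
  show Nat.card (E.T128 : Set G) = 128
  rw [hset, show {g | g ∈ L} = (L.toFinset : Set G) by ext; simp, Nat.card_coe_set_eq, Set.ncard_coe_finset,
    List.toFinset_card_of_nodup hnd]
  simp [L, Model.tReps_length]

theorem isPGroup_T128 : IsPGroup 2 E.T128 := IsPGroup.of_card (n := 7) (by rw [H.card_T128]; norm_num)

/-- The image of the model. -/
def image : Subgroup G := H.φ.range

theorem ev_mem (w : List (Fin 5)) : E.ev w ∈ H.image := ⟨_, H.φ_prod w⟩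

theorem T_le_image : E.T128 ≤ H.image :=
  (closure_le _).2 (by rintro g ⟨w, -, rfl⟩; exact H.ev_mem w)

theorem CQ_le_image [Finite G] : B.CQ ≤ H.image := by
  intro c hc
  obtain ⟨n, hn, hcomm⟩ := H.decomp c hc
  have hnI : n ∈ H.image := H.T_le_image (E.Q'_le_T hn)
  have ha : B.a ∈ H.image := by
    have h := H.ev_mem ([0, 1, 2, 0, 1, 2, 3, 2, 0, 1, 2, 3] : List (Fin 5))
    rw [show ([0, 1, 2, 0, 1, 2, 3, 2, 0, 1, 2, 3] : List (Fin 5)) =
      ([0, 1, 2, 0, 1, 2, 3, 2, 0, 1, 2, 3] : List (Fin 4)).map Fin.castSucc from rfl, E.ev_four,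
      E.word_eq_j _ (1, 1, 1) (by decide +kernel), B.j_center] at h
    exact h
  have hnc : n * c ∈ H.image := by
    obtain ⟨k, hk | hk⟩ := B.CQ_cent_a (mul_mem (H.le hn) hc) hcomm <;> rw [B.j_const] at hk <;> rw [hk]
    · exact pow_mem ha _
    · exact mul_mem (pow_mem ha _) (E.ev_three ▸ H.ev_mem _)
  simpa using mul_mem (inv_mem hnI) hnc

theorem normalizer_quat_le [Finite G] {g : G} (hg : ∀ q ∈ B.quat, g * q * g⁻¹ ∈ B.quat) : g ∈ H.image := by
  obtain ⟨x, hx, ex⟩ := B.mem_quat.1 (hg _ (B.mem_quat.2 ⟨_, qW_mem, rfl⟩))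
  obtain ⟨y, hy, ey⟩ := B.mem_quat.1 (hg _ (B.mem_quat.2 ⟨_, q1W_mem, rfl⟩))
  have hgt : g * B.tG * g⁻¹ = B.tG := by
    have hq2 : B.θ qW * B.θ qW = B.tG := by rw [← map_mul, qW_sq]; rfl
    have hx4 : x * x = tW := by
      rcases qList_four x hx with rfl | rfl | h
      · exfalso
        rw [map_one] at ex
        have := conj_eq_one_iff.1 ex.symm
        rw [← map_one B.θ] at this
        exact absurd (B.inj this) (by decide +kernel)
      · exfalso
        have h2 := congrArg (fun z => z * z) ex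
        simp only [conj_mul] at h2
        rw [hq2, ← map_mul, tW_sq, map_one] at h2
        exact B.t_ne_one (conj_eq_one_iff.1 h2.symm)
      · exact h
    rw [← hq2, ← conj_mul, ← ex, ← map_mul, hx4, hq2]
    rfl
  have hinj : ∀ {u v : W}, g * B.θ u * g⁻¹ = g * B.θ v * g⁻¹ → u = v := fun h =>
    B.inj (mul_left_cancel (mul_right_cancel h))
  have hx2 : x * x = tW := B.inj (by rw [map_mul, ex, conj_mul, ← map_mul, qW_sq]; exact hgt)
  have hy2 : y * y = tW := B.inj (by rw [map_mul, ey, conj_mul, ← map_mul, q1W_order.1]; exact hgt)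
  have hne : y ≠ x := fun e => q1W_order.2.1 (hinj (ex.symm.trans ((congrArg B.θ e.symm).trans ey)))
  have hne' : y ≠ x⁻¹ := fun e => q1W_order.2.2 (hinj (by
    rw [← ey, e, map_inv, ex, conj_inv, map_inv]))
  have h := List.all_eq_true.1 (List.all_eq_true.1 quat_pairs x hx) y hy
  simp only [hx2, hy2, beq_self_eq_true, Bool.true_and, bne_iff_ne.2 hne, bne_iff_ne.2 hne', Bool.not_true,
    Bool.false_or, List.any_eq_true, Bool.and_eq_true, beq_iff_eq] at h
  obtain ⟨e, -, u, hu, k, hk, h1, h2⟩ := h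
  set z := u * (if k = 0 then 1 else if k = 1 then yW else yW * yW) with hz
  obtain ⟨z', hzI, hz1, hz2⟩ : ∃ z' ∈ H.image, z' * B.θ qW * z'⁻¹ = B.θ x ∧ z' * B.θ q1W * z'⁻¹ = B.θ y := by
    have hzI : B.θ z ∈ H.image := by
      rw [hz, map_mul]
      refine mul_mem (H.T_le_image (E.quat_le_T (B.mem_quat.2 ⟨u, hu, rfl⟩))) ?_
      have hy' : B.θ yW ∈ H.image := by
        show E.y ∈ H.image
        exact E.ev_y ▸ H.ev_mem _
      split_ifs
      · rw [map_one]; exact one_mem _
      · exact hy'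
      · rw [map_mul]; exact mul_mem hy' hy'
    cases e with
    | false =>
      simp only [Bool.false_eq_true, if_false] at h1 h2
      exact ⟨_, hzI, by rw [← map_inv, ← map_mul, ← map_mul, h1], by rw [← map_inv, ← map_mul, ← map_mul, h2]⟩
    | true =>
      simp only [if_true] at h1 h2
      refine ⟨B.θ z * E.I.w, mul_mem hzI (E.ev_w ▸ H.ev_mem _), ?_, ?_⟩
      · rw [show B.θ z * E.I.w * B.θ qW * (B.θ z * E.I.w)⁻¹ =
          B.θ z * (E.I.w * B.θ qW * E.I.w⁻¹) * (B.θ z)⁻¹ by group, E.w_conj_qList _ qW_mem, ← map_inv, ← map_mul,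
          ← map_mul, h1]
      · rw [show B.θ z * E.I.w * B.θ q1W * (B.θ z * E.I.w)⁻¹ =
          B.θ z * (E.I.w * B.θ q1W * E.I.w⁻¹) * (B.θ z)⁻¹ by group, E.w_conj_qList _ q1W_mem, ← map_inv, ← map_mul,
          ← map_mul, h2]
  have hc : z'⁻¹ * g ∈ B.CQ := by
    have k1 : ∀ {p q : G}, g * p * g⁻¹ = q → z' * p * z'⁻¹ = q → Commute (z'⁻¹ * g) p := by
      intro p q e1 e2
      refine mul_inv_eq_iff_eq_mul.1 ?_
      calc z'⁻¹ * g * p * (z'⁻¹ * g)⁻¹ = z'⁻¹ * (g * p * g⁻¹) * z' := by group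
        _ = p := by rw [e1, ← e2]; group
    have cq := k1 ex.symm hz1
    have cq1 := k1 ey.symm hz2
    refine B.mem_CQ.2 fun u hu => ?_
    have ct : Commute (z'⁻¹ * g) (B.θ tW) := by
      rw [← qW_sq, map_mul]; exact cq.mul_right cq
    simp only [qList, List.mem_cons, List.not_mem_nil, or_false] at hu
    rcases hu with rfl | rfl | rfl | rfl | rfl | rfl | rfl | rfl <;> (try simp only [map_mul, map_one])
    exacts [Commute.one_right _, ct, cq, cq.mul_right ct, cq1, cq1.mul_right ct, cq.mul_right cq1,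
      (cq.mul_right cq1).mul_right ct]
  simpa using mul_mem hzI (H.CQ_le_image hc)

theorem sq_mem_cases {x : G} (hx : x ∈ E.T128) (h : x * x = B.tG) : x ∈ B.quat ∨ x ∈ E.Q' := by
  obtain ⟨p, hp, rfl⟩ := H.exists_rep hx
  rw [← E.ev_append, ← E.ev_three] at h
  have hc := List.all_eq_true.1 Model.tReps_sq p hp
  rw [if_pos (beq_iff_eq.2 (H.rows_of_ev h)), List.any_eq_true] at hc
  obtain ⟨u, hu, hc⟩ := hc
  simp only [Bool.or_eq_true, beq_iff_eq] at hc
  rcases hc with e | e
  · exact Or.inl (H.ev_eq e ▸ E.ev_qWords hu)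
  · refine Or.inr (E.mem_Q'.2 ?_)
    rw [H.ev_eq e, ev_append, ev_append, ev_zero,
      show E.r * (E.r * E.ev u * E.r) * E.r = E.r * E.r * E.ev u * (E.r * E.r) by group, E.hr2, one_mul, mul_one]
    exact E.ev_qWords hu

theorem center_cases {x : G} (hx : x ∈ E.T128) (h : ∀ y ∈ E.T128, Commute x y) : x = 1 ∨ x = B.tG := by
  obtain ⟨p, hp, rfl⟩ := H.exists_rep hx
  have hc := List.all_eq_true.1 Model.tReps_center p hp
  rw [if_pos (List.all_eq_true.2 fun g hg => beq_iff_eq.2 (H.rows_of_ev (by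
    rw [ev_append, ev_append]; exact (h _ (E.gen_mem_T hg)).eq)))] at hc
  simp only [Bool.or_eq_true, beq_iff_eq] at hc
  rcases hc with e | e
  · exact Or.inl (H.ev_eq e)
  · exact Or.inr ((H.ev_eq e).trans E.ev_three)

theorem card_image_two : ∀ P : Subgroup G, IsPGroup 2 P → P ≤ H.image → Nat.card P ≤ 128 := by
  intro P hP hle
  have hf : Finite H.image := Finite.of_surjective H.φ.rangeRestrict H.φ.rangeRestrict_surjective
  have : Finite P := Finite.of_injective (Subgroup.inclusion hle) (Subgroup.inclusion_injective hle)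
  have : Fact (Nat.Prime 2) := ⟨Nat.prime_two⟩
  obtain ⟨n, hn⟩ := hP.exists_card_eq
  have hd := card_dvd_of_le hle
  rw [hn, image, ← Nat.card_congr (MonoidHom.ofInjective H.inj).toEquiv, Model.card_six] at hd
  rw [hn]
  by_contra hlt
  have h8 : 2 ^ 8 ∣ 51840 := (pow_dvd_pow 2 (by
    by_contra h
    exact hlt ((Nat.pow_le_pow_right (by norm_num) (by omega : n ≤ 7)).trans (by norm_num)))).trans hd
  norm_num at h8

/-- A 2-subgroup containing the subgroup of order 128 is equal to it. -/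
theorem eq_of_le [Finite G] {P : Subgroup G} (hP : IsPGroup 2 P) (hle : E.T128 ≤ P) : P = E.T128 := by
  by_contra hne
  obtain ⟨g, hgP, hgT, hgn⟩ := lt_of_pGroup hP hle (fun h => hne h.symm)
  refine hgT ?_
  have hgt : g * B.tG * g⁻¹ = B.tG := by
    have htT : B.tG ∈ E.T128 := E.quat_le_T B.t_mem_quat
    have hgN : g ∈ normalizer (E.T128 : Set G) := mem_normalizer_of_conj hgn
    have hle : E.T128 ≤ centralizer ({B.tG} : Set G) := by
      refine (closure_le _).2 ?_
      rintro z ⟨w, hw, rfl⟩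
      refine mem_centralizer_singleton_iff.2 ?_
      rw [← E.ev_three, ← ev_append, ← ev_append]
      refine H.ev_eq ?_
      have hall : Model.tGens.all (fun w => Model.rows5 (w ++ [3]) == Model.rows5 ([3] ++ w)) = true := by
        decide +kernel
      exact beq_iff_eq.1 (List.all_eq_true.1 hall w hw)
    have hcomm : ∀ y ∈ E.T128, Commute B.tG y := fun y hy =>
      ((mem_centralizer_singleton_iff.1 (hle hy) : Commute y B.tG)).symm
    have hcen : ∀ y ∈ E.T128, Commute (g * B.tG * g⁻¹) y := fun y hy => by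
      have hy' : g⁻¹ * y * g ∈ E.T128 := by
        have := (mem_normalizer_iff.1 (inv_mem hgN) y).1 hy
        rwa [inv_inv] at this
      have := (hcomm _ hy').conj g
      rwa [show g * (g⁻¹ * y * g) * g⁻¹ = y by group] at this
    rcases H.center_cases (hgn _ htT) hcen with h | h
    · exact absurd (conj_eq_one_iff.1 h) B.t_ne_one
    · exact h
  have hsq : ∀ x ∈ B.quat, x = 1 ∨ x = B.tG ∨ x * x = B.tG := fun x hx => by
    obtain ⟨u, hu, rfl⟩ := B.mem_quat.1 hx
    rcases qList_four u hu with rfl | rfl | h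
    · exact Or.inl (map_one _)
    · exact Or.inr (Or.inl rfl)
    · exact Or.inr (Or.inr (by rw [← map_mul, h]; rfl))
  have hun : B.quat.map (MulAut.conj g).toMonoidHom ≤ B.quat ∨ B.quat.map (MulAut.conj g).toMonoidHom ≤ E.Q' := by
    by_contra hno
    simp only [not_or, SetLike.not_le_iff_exists] at hno
    obtain ⟨⟨_, ⟨a, ha, rfl⟩, ha'⟩, _, ⟨b, hb, rfl⟩, hb'⟩ := hno
    simp only [MulEquiv.coe_toMonoidHom, MulAut.conj_apply] at ha' hb'
    have key : ∀ x ∈ B.quat, g * x * g⁻¹ ∈ B.quat ∨ g * x * g⁻¹ ∈ E.Q' := fun x hx => by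
      rcases hsq x hx with rfl | rfl | h
      · left; simp
      · left; rw [hgt]; exact B.t_mem_quat
      · exact H.sq_mem_cases (hgn _ (E.quat_le_T hx)) (by rw [conj_mul, h, hgt])
    have hbq := (key b hb).resolve_right hb'
    have haq := (key a ha).resolve_left ha'
    rcases key _ (mul_mem ha hb) with h | h <;> rw [← conj_mul] at h
    · exact ha' ((mul_mem_cancel_right hbq).1 h)
    · exact hb' ((mul_mem_cancel_left haq).1 h)
  have hgI : g ∈ H.image := by
    rcases hun with h | h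
    · exact H.normalizer_quat_le fun q hq => h ⟨q, hq, rfl⟩
    · have := H.normalizer_quat_le (g := E.r * g) fun q hq => by
        have := E.mem_Q'.1 (h ⟨q, hq, rfl⟩)
        simp only [MulEquiv.coe_toMonoidHom, MulAut.conj_apply] at this
        rwa [_root_.mul_inv_rev, E.rinv, show E.r * g * q * (g⁻¹ * E.r) = E.r * (g * q * g⁻¹) * E.r by group]
      have h2 := mul_mem (E.ev_zero ▸ H.ev_mem [0]) this
      rwa [← mul_assoc, E.hr2, one_mul] at h2
  have hK : IsPGroup 2 (P ⊓ H.image : Subgroup G) := hP.to_le inf_le_left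
  have heq : E.T128 = P ⊓ H.image := eq_of_le_of_card_ge (le_inf hle H.T_le_image) (by
    rw [H.card_T128]; exact H.card_image_two _ hK inf_le_right)
  rw [heq]
  exact ⟨hgP, hgI⟩

/-- The subgroup of order 128 as a Sylow subgroup. -/
theorem exists_sylow [Finite G] : ∃ P : Sylow 2 G, (P : Subgroup G) = E.T128 := by
  obtain ⟨P, hP⟩ := H.isPGroup_T128.exists_le_sylow
  exact ⟨P, H.eq_of_le P.isPGroup' hP⟩

end SixHom

end Eight

end Core

end CfsgLib.Recog.ThreeLocalSpSix
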