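import Cfsg.Agent.Lib.Recog.ThreeLocalSpSix.NegTables
import Cfsg.Agent.Lib.Recog.ThreeLocalSpSix.Quat

/-!
Owner: helper24. Finite checks for the case that `a` is conjugate only to itself and its inverse in the abelian
subgroup.
-/

set_option autoImplicit false
set_option linter.all false
set_option maxRecDepth 100000

namespace CfsgLib.Recog.ThreeLocalSpSix

open CfsgLib.Recog.HeisSL

/-- The three short vectors fixed by the exchange, up to sign. -/
def three : List Vec := [(1, 0, 0), (0, 1, 1), (2, 1, 1)]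

/-- The vector inverted by the exchange. -/
def vecV : Vec := (0, 1, 2)

theorem three_stab : ∀ x ∈ three, ∀ π ∈ perms,
    (π x = x → (∀ z, π z = z) ∨ (∀ z, π z = tF z)) ∧ -π x ≠ x := by decide +kernel

theorem three_pair : ∀ x ∈ three, ∀ b c : K, c ≠ 0 → ∀ π ∈ perms,
    π x = x → π (b, b + c, b + (c + c)) = (b, b + c, b + (c + c)) → ∀ z, π z = z := by decide +kernel

theorem three_vecV : ∀ x ∈ three, ∀ π ∈ perms, π x = x → π vecV = vecV → ∀ z, π z = z := by decide +kernel

theorem three_fixed : ∀ x ∈ three, tF x = x := by decide +kernel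

theorem ops_three : ∀ c b : K, c ≠ b → (c, b, b) ∈ three ∨ -(c, b, b) ∈ three := by decide +kernel

theorem vecV_orbit : ∀ π ∈ perms, ∀ c b : K, π vecV ≠ (c, b, b) ∧ -π vecV ≠ (c, b, b) := by decide +kernel

theorem kerV : ∀ q : Vec, (q.1, q.2.1 + q.2.2) = (0 : K × K) → q = q.2.1.val • vecV := by decide +kernel

theorem kerV_cases : ∀ q : Vec, (q.1, q.2.1 + q.2.2) = (0 : K × K) → q = 0 ∨ q = vecV ∨ q = -vecV := by
  decide +kernel

theorem tF_ops : ∀ u : Vec, tF u = u → u + u = 0 → u = 0 := by decide +kernel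

theorem cent_t_twelve : ∀ u : W, u * tW = tW * u →
    u * u * u * (u * u * u) * (u * u * u * (u * u * u)) = 1 := by decide +kernel

theorem norm_ops_table : ∀ u : W, u * tW = tW * u → (∃ c b : K, u * jW (1, 0, 0) * u⁻¹ = jW (c, b, b)) →
    ∃ c b : K, u = jW (c, b, b) ∨ u = jW (c, b, b) * tW := by decide +kernel

theorem ops_twenty_seven : ∀ c b : K, ∀ e : Bool,
    let u := if e then jW (c, b, b) * tW else jW (c, b, b)
    (let v := u * u * u; let r := v * v * v; r * r * r = 1) → e = false := by decide +kernel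

theorem cent_t_sq : ∀ u : W, u * tW = tW * u → u * u = 1 → u = 1 ∨ u = tW := by decide +kernel

theorem cent_t_decomp : ∀ u : W, u * tW = tW * u →
    ∃ c b : K, ∃ f ∈ qList, u = jW (c, b, b) * f := by decide +kernel

theorem cent_t_three : ∀ u : W, u * tW = tW * u → u * u * u = 1 →
    ∃ c b : K, ∃ f ∈ qList, u = f * jW (c, b, b) * f⁻¹ := by decide +kernel

theorem αS_commutator : ∀ u ∈ qList, u * αS u = 1 → ∃ f ∈ qList, u = f * (αS f)⁻¹ := by decide +kernel

theorem qW_conj_vecV : qW * jW vecV * qW⁻¹ = pW * tW := qW_conj_x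

end CfsgLib.Recog.ThreeLocalSpSix
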