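import Cfsg.Agent.Lib.Recog.ThreeLocalSpSix.Planes
import Cfsg.Agent.Lib.Recog.ThreeLocalSpSix.Neg
import Cfsg.Agent.Lib.Recog.ThreeLocalSpSix.TwoTables
import Cfsg.Agent.Lib.Recog.PSpFourAmalgam.Cent

/-!
Owner: helper24. When `a` is conjugate only to itself and its inverse in the abelian subgroup, the normalizer of
that subgroup acts by signed permutations, and the centralizers of the short vectors outside `⟨a⟩` lie in it.
-/

set_option autoImplicit false
set_option linter.all false
set_option maxRecDepth 100000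

namespace CfsgLib.Recog.ThreeLocalSpSix

open Subgroup CfsgLib.Recog.HeisSL

universe u

namespace Core

/-- The situation: `a` has at most two conjugates in the abelian subgroup, and an element inverts it. -/
structure Pair {G : Type u} [Group G] (B : Core G) where
  hO : ∀ x ∈ B.O, x = (1, 1, 1) ∨ x = (2, 2, 2)
  I : B.Inv

theorem exists_pair {G : Type u} [Group G] [Finite G] (B : Core G)
    (hO : ∀ x ∈ B.O, x = (1, 1, 1) ∨ x = (2, 2, 2)) (hinv : ∃ g, g * B.a * g⁻¹ = B.a⁻¹) :
    Nonempty B.Pair :=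
  ⟨⟨hO, (B.exists_inv hinv).some⟩⟩

namespace Pair

variable {G : Type u} [Group G] {B : Core G} (P : B.Pair)

include P in
/-- The normalizer of the abelian subgroup acts by signed permutations. -/
theorem acts_sym {n : G} {f : Vec → Vec} (h : B.Acts n f) :
    ∃ π ∈ perms, (∀ x, f x = π x) ∨ (∀ x, f x = -π x) := by
  rcases P.hO _ (h.mem_O B.one_mem_O) with h1 | h1
  · obtain ⟨π, hπ, e⟩ := B.perm_of_fix h h1
    exact ⟨π, hπ, Or.inl e⟩
  · obtain ⟨π, hπ, e⟩ := B.perm_of_fix (P.I.neg.mul h) (by rw [Function.comp_apply, h1]; rfl)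
    exact ⟨π, hπ, Or.inr fun x => by rw [← e x, Function.comp_apply, neg_neg]⟩

include P in
/-- The stabilizer of a short vector. -/
theorem acts_three {x : Vec} (hx : x ∈ three) {n : G} {f : Vec → Vec} (h : B.Acts n f) (hfx : f x = x) :
    (∀ z, f z = z) ∨ (∀ z, f z = tF z) := by
  obtain ⟨π, hπ, e | e⟩ := P.acts_sym h
  · exact ((three_stab x hx π hπ).1 ((e x).symm.trans hfx)).imp (fun h z => (e z).trans (h z))
      fun h z => (e z).trans (h z)
  · exact absurd ((e x).symm.trans hfx) (three_stab x hx π hπ).2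

/-- Two vectors without common stabilizer have centralizer the abelian subgroup. -/
theorem cent_pair [Finite G] {x y : Vec}
    (h : ∀ n f, B.Acts n f → f x = x → f y = y → ∀ z, f z = z) {g : G}
    (hgx : Commute g (B.j x)) (hgy : Commute g (B.j y)) : g ∈ B.J := by
  set H := centralizer ({B.j x, B.j y} : Set G) with hH
  have hHc : ∀ n ∈ H, Commute n (B.j x) ∧ Commute n (B.j y) := fun n hn =>
    ⟨((mem_centralizer_iff.1 hn) _ (Or.inl rfl)).symm, ((mem_centralizer_iff.1 hn) _ (Or.inr rfl)).symm⟩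
  have hJH : B.J ≤ H := fun z hz => mem_centralizer_iff.2 fun w hw => by
    rcases hw with rfl | rfl <;> exact B.comm_J (B.j_mem _) hz
  have hN : ∀ n ∈ H, n ∈ normalizer (B.J : Set G) → n ∈ B.J := by
    intro n hn hnN
    obtain ⟨f, hf⟩ := B.exists_acts hnN
    exact hf.mem_J (h n f hf (B.j_inj (by rw [← hf, (hHc n hn).1.eq, mul_inv_cancel_right]))
      (B.j_inj (by rw [← hf, (hHc n hn).2.eq, mul_inv_cancel_right])))
  have hidx := B.relIndex_J hJH fun n hn hnN =>
    mul_mem (mul_mem (hN n hn hnN) (hN n hn hnN)) (mul_mem (hN n hn hnN) (hN n hn hnN))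
  obtain ⟨φ, hφ⟩ := PSpFourAmalgam.exists_hom_extend hJH B.isPGroup_J hidx
    (fun a ha b hb => B.comm_J ha hb) (B.coord (AddMonoidHom.id Vec)) (fun a => by revert a; decide) (by
      intro n hn hnN u hu hu'
      congr 1
      exact Subtype.ext (show n * u * n⁻¹ = u by
        rw [(B.comm_J (hN n hn hnN) hu : n * u = u * n), mul_inv_cancel_right]))
  have hsurj : φ.range = ⊤ := MonoidHom.range_eq_top.2 fun v =>
    ⟨⟨B.j v.toAdd, hJH (B.j_mem _)⟩, by rw [hφ _ (B.j_mem _), coord_j]; rfl⟩
  have h27 : φ.ker.index = 27 := by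
    rw [index_ker, hsurj, card_top, Nat.card_eq_fintype_card]; rfl
  have hcard := card_mul_index φ.ker
  have hJi := card_mul_index (B.J.subgroupOf H)
  rw [Nat.card_congr (subgroupOfEquivOfLe hJH).toEquiv, B.card_J] at hJi
  rw [h27] at hcard
  set K := φ.ker.map H.subtype with hK
  have hKc : Nat.card K = (B.J.subgroupOf H).index := by
    rw [hK, card_map_of_injective H.subtype_injective]; omega
  have hbot := B.signalizer (L := K) (by
    rw [hKc, Nat.coprime_comm, Nat.Prime.coprime_iff_not_dvd Nat.prime_three]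
    exact hidx) (hJH.trans (PSpFourAmalgam.le_normalizer_map _ inferInstance))
  rw [hbot, card_bot] at hKc
  have e : B.J = H := eq_of_le_of_card_ge hJH (by rw [B.card_J, ← hJi, ← hKc, mul_one])
  rw [e]
  refine mem_centralizer_iff.2 fun w hw => ?_
  rcases hw with rfl | rfl
  exacts [hgx.eq.symm, hgy.eq.symm]

include P in
/-- A short vector and the vector inverted by the exchange. -/
theorem cent_three_vecV [Finite G] {x : Vec} (hx : x ∈ three) {g : G} (hgx : Commute g (B.j x))
    (hgv : Commute g (B.j vecV)) : g ∈ B.J := by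
  refine cent_pair (fun n f hf h1 h2 => ?_) hgx hgv
  rcases P.acts_three hx hf h1 with e | e
  · exact e
  · exact absurd (h2.symm.trans (e vecV)) (by decide +kernel)

/-- The operators on the kernel of the functional. -/
def opE (B : Core G) : Multiplicative (K × K) →* G where
  toFun e := B.j (e.toAdd.1, e.toAdd.1 + e.toAdd.2, e.toAdd.1 + (e.toAdd.2 + e.toAdd.2))
  map_one' := B.j_zero
  map_mul' e e' := by
    rw [← B.j_add]
    congr 1
    show ((e.toAdd + e'.toAdd).1, (e.toAdd + e'.toAdd).1 + (e.toAdd + e'.toAdd).2,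
      (e.toAdd + e'.toAdd).1 + ((e.toAdd + e'.toAdd).2 + (e.toAdd + e'.toAdd).2)) = _
    generalize e.toAdd = p
    generalize e'.toAdd = q
    revert p q
    decide +kernel

include P in
/-- The centralizer of a short vector. -/
theorem cent_three [Finite G] {x : Vec} (hx : x ∈ three) {g : G} (hg : Commute g (B.j x)) :
    ∃ u, g = B.j u ∨ g = B.θ tW * B.j u := by
  classical
  set D := centralizer ({B.j x} : Set G) with hD
  have hDc : ∀ n ∈ D, Commute n (B.j x) := fun n hn => mem_centralizer_singleton_iff.1 hn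
  have hJD : B.J ≤ D := fun z hz => mem_centralizer_singleton_iff.2 (B.comm_J hz (B.j_mem x))
  have hact : ∀ n ∈ D, ∀ m, B.Acts n m → (∀ z, m z = z) ∨ (∀ z, m z = tF z) := fun n hn m hm =>
    P.acts_three hx hm (B.j_inj (by rw [← hm, (hDc n hn).eq, mul_inv_cancel_right]))
  have htt : ∀ z, tF (tF z) = z := fun z => rfl
  have hidx := B.relIndex_J hJD fun n hn hnN => by
    obtain ⟨m, hm⟩ := B.exists_acts hnN
    have h2 : n * n ∈ B.J := (hm.mul hm).mem_J fun z => by
      rcases hact n hn m hm with e | e <;> simp only [Function.comp_apply, e]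
      exact htt z
    exact mul_mem h2 h2
  let f : Vec →+ K × K := AddMonoidHom.mk' (fun q => (q.1, q.2.1 + q.2.2)) (by decide +kernel)
  obtain ⟨φ, hφ⟩ := PSpFourAmalgam.exists_hom_extend hJD B.isPGroup_J hidx
    (fun a ha b hb => B.comm_J ha hb) (B.coord f) (fun a => by revert a; decide) (by
      intro n hn hnN u hu hu'
      obtain ⟨m, hm⟩ := B.exists_acts hnN
      obtain ⟨w, rfl⟩ := B.mem_J.1 hu
      simp only [hm w, coord_j]
      rcases hact n hn m hm with e | e <;> rw [e]
      show Multiplicative.ofAdd (w.1, w.2.2 + w.2.1) = Multiplicative.ofAdd (w.1, w.2.1 + w.2.2)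
      rw [add_comm])
  set K0 := φ.ker.map D.subtype with hK0
  have hK0D : K0 ≤ D := map_subtype_le _
  have hmem : ∀ q, B.j q ∈ K0 ↔ (q.1, q.2.1 + q.2.2) = (0 : K × K) := by
    intro q
    have : B.j q ∈ K0 ↔ φ ⟨_, hJD (B.j_mem q)⟩ = 1 := by
      constructor
      · rintro ⟨⟨a, ha⟩, hk, e⟩
        obtain rfl : a = B.j q := e
        exact hk
      · exact fun h => ⟨⟨_, hJD (B.j_mem _)⟩, h, rfl⟩
    rw [this, hφ _ (B.j_mem _), coord_j, ofAdd_eq_one]
    rfl
  have hvK : B.j vecV ∈ K0 := (hmem _).2 (by decide)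
  have hv0 : vecV ≠ 0 := by decide
  have hvc : ∀ k ∈ K0, Commute k (B.j vecV) → k ∈ zpowers (B.j vecV) := by
    intro k hk hc
    obtain ⟨q, rfl⟩ := B.mem_J.1 (P.cent_three_vecV hx (hDc k (hK0D hk)) hc)
    rw [kerV q ((hmem q).1 hk), B.j_nsmul]
    exact pow_mem (mem_zpowers _) _
  set X := (zpowers (B.j vecV)).subgroupOf K0 with hX
  have hX3 : Nat.card X = 3 := by
    rw [hX, Nat.card_congr (subgroupOfEquivOfLe (zpowers_le.2 hvK)).toEquiv, Nat.card_zpowers, B.orderOf_j hv0]
  have hXc : centralizer (X : Set K0) = X := by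
    ext k
    rw [hX, mem_subgroupOf, mem_centralizer_iff]
    constructor
    · intro h
      exact hvc k k.2 (congrArg Subtype.val (h ⟨B.j vecV, hvK⟩ (mem_zpowers _))).symm
    · intro h y hy
      obtain ⟨i, hi⟩ := mem_zpowers_iff.1 h
      obtain ⟨l, hl⟩ := mem_zpowers_iff.1 (show (y : G) ∈ zpowers (B.j vecV) from hy)
      apply Subtype.ext
      show (y : G) * k = k * y
      rw [← hi, ← hl, ← zpow_add, ← zpow_add, add_comm]
  have h6 : Nat.card K0 ≤ 6 := by
    rcases PSpFourAmalgam.self_cent_cases X hX3 hXc with ⟨N, hN, -, hcop, hi, hmax⟩ | hbig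
    · have hbot := B.signalizer (L := N.map K0.subtype) (by rwa [card_map_of_injective K0.subtype_injective])
        fun y hy => PSpFourAmalgam.mem_normalizer_of_max N hN hcop hmax
          (PSpFourAmalgam.le_normalizer_map φ.ker inferInstance (hJD hy))
      rw [Subgroup.map_eq_bot_iff, ker_subtype, le_bot_iff] at hbot
      rw [hbot, index_bot] at hi
      exact hi
    exfalso
    have hE : Nat.card (opE B).range = 9 := by
      have hinj : Function.Injective (opE B) := fun p q e => by
        have h := B.j_inj e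
        clear e
        revert p q
        decide +kernel
      rw [← Nat.card_congr (MonoidHom.ofInjective hinj).toEquiv, Nat.card_eq_fintype_card]
      rfl
    refine PSpFourAmalgam.false_of_operators hE (X := K0) ?_ (hbig.imp_right Or.inl) ?_
    · rintro _ ⟨e, rfl⟩
      exact PSpFourAmalgam.le_normalizer_map φ.ker inferInstance (hJD (B.j_mem _))
    rintro _ ⟨e, rfl⟩ he1 w hw hc
    obtain ⟨⟨b, c⟩, rfl⟩ : ∃ p : K × K, Multiplicative.ofAdd p = e := ⟨e.toAdd, rfl⟩
    have hwx := hDc w (hK0D hw)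
    change Commute (B.j (b, b + c, b + (c + c))) w at hc
    by_cases hc0 : c = 0
    · subst hc0
      simp only [add_zero] at hc
      have hb : b ≠ 0 := fun hb => he1 (by subst hb; exact B.j_zero)
      have ha : Commute w B.a := by
        rw [B.j_const] at hc
        have hb' : b = 1 ∨ b = 2 := (by decide : ∀ d : K, d ≠ 0 → d = 1 ∨ d = 2) b hb
        rcases hb' with rfl | rfl
        · rw [show (1 : K).val = 1 from rfl, pow_one] at hc
          exact hc.symm
        · have := hc.symm.pow_right 2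
          rwa [← pow_mul, show (2 : K).val * 2 = 3 + 1 from rfl, pow_succ,
            show B.a ^ 3 = 1 from B.orderOf_a ▸ pow_orderOf_eq_one B.a, one_mul] at this
      obtain ⟨u, rfl⟩ := B.cent w ha
      rw [orderOf_injective B.θ B.inj, ← card_W]
      exact orderOf_dvd_natCard u
    · have hJ : w ∈ B.J := cent_pair (fun n m hm h1 h2 => by
        obtain ⟨π, hπ, e | e⟩ := P.acts_sym hm
        · intro z
          rw [e]
          exact three_pair x hx b c hc0 π hπ ((e x).symm.trans h1) ((e _).symm.trans h2) z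
        · exact absurd ((e x).symm.trans h1) (three_stab x hx π hπ).2) hwx hc.symm
      exact (orderOf_dvd_of_pow_eq_one (B.cube_J hJ)).trans (by norm_num)
  have hZ : ∀ k ∈ K0, k ^ 3 = 1 → k ∈ zpowers (B.j vecV) := by
    intro k hk hk3
    have hi : X.index ≤ 2 := by
      have := card_mul_index X
      rw [hX3] at this
      omega
    have hs : (⟨k, hk⟩ : K0) ^ 2 ∈ X := by
      have h0 : X.index ≠ 0 := index_ne_zero_of_finite
      rcases (by omega : X.index = 1 ∨ X.index = 2) with hh | hh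
      · rw [index_eq_one.1 hh]; trivial
      · exact sq_mem_of_index_two hh _
    have : k ^ 2 ∈ zpowers (B.j vecV) := hs
    have := pow_mem this 2
    rwa [← pow_mul, show 2 * 2 = 3 + 1 from rfl, pow_succ, hk3, one_mul] at this
  have hgD : g ∈ D := mem_centralizer_singleton_iff.2 hg
  have hconjK : g * B.j vecV * g⁻¹ ∈ K0 := by
    obtain ⟨⟨k, hk⟩, hkv, e⟩ := hvK
    obtain rfl : k = B.j vecV := e
    exact ⟨⟨g, hgD⟩ * ⟨_, hk⟩ * ⟨g, hgD⟩⁻¹, (MonoidHom.normal_ker φ).conj_mem _ hkv _, rfl⟩
  obtain ⟨i, hi⟩ := mem_zpowers_iff.1 (hZ _ hconjK (by rw [conj_pow, B.j_cube, mul_one, mul_inv_cancel]))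
  obtain ⟨q, hq⟩ := B.mem_J.1 (zpow_mem (B.j_mem vecV) i)
  rw [← hq] at hi
  rcases kerV_cases q ((hmem q).1 (hi.symm ▸ hconjK)) with rfl | rfl | rfl
  · rw [B.j_zero, eq_comm, conj_eq_one_iff] at hi
    exact absurd (B.j_eq_one hi) hv0
  · obtain ⟨u, hu⟩ := B.mem_J.1 (P.cent_three_vecV hx hg (mul_inv_eq_iff_eq_mul.1 hi.symm))
    exact ⟨u, Or.inl hu.symm⟩
  · have hti : (B.θ tW)⁻¹ = B.θ tW := by rw [← map_inv, tW_inv]
    have htx : Commute (B.θ tW) (B.j x) := by
      have := B.acts_t x
      rw [three_fixed x hx] at this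
      exact mul_inv_eq_iff_eq_mul.1 this
    obtain ⟨u, hu⟩ := B.mem_J.1 (P.cent_three_vecV hx (g := B.θ tW * g) (htx.mul_left hg) (by
      refine mul_inv_eq_iff_eq_mul.1 ?_
      calc B.θ tW * g * B.j vecV * (B.θ tW * g)⁻¹ = B.θ tW * (g * B.j vecV * g⁻¹) * (B.θ tW)⁻¹ := by group
        _ = B.j vecV := by
          rw [← hi, B.acts_t]
          rfl))
    refine ⟨u, Or.inr ?_⟩
    rw [hu, ← mul_assoc, ← map_mul, tW_sq, map_one, one_mul]

end Pair

end Core

end CfsgLib.Recog.ThreeLocalSpSix
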