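import Cfsg.Agent.Lib.Recog.ThreeLocalSpSix.TwoCent
import Cfsg.Agent.Lib.Recog.ThreeLocalSpSix.QGroup
import Cfsg.Agent.Lib.InertialTwo.Main
import Cfsg.Agent.Lib.OddLocal.Supplement
import Cfsg.Agent.Lib.LocalEven.Generation

/-!
Owner: helper24. When `a` is conjugate only to itself and its inverse in the abelian subgroup, the centralizer of
the exchange lies in the normalizer of `⟨a⟩` (Smith–Tyrer on it, with the operators as Sylow subgroup), and the
exchange is isolated.
-/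

set_option autoImplicit false
set_option linter.all false
set_option maxRecDepth 100000

namespace CfsgLib.Recog.ThreeLocalSpSix

open Subgroup CfsgLib.Recog.HeisSL

universe u

theorem qW_four' : qW * qW * (qW * qW) = 1 := by decide +kernel

theorem qW_conj_neg' : qW * jW (-(0, 1, 2)) * qW⁻¹ = (pW * tW)⁻¹ := by decide +kernel

theorem qW_conj_pt' : qW * (pW * tW) * qW⁻¹ = jW (-(0, 1, 2)) := by decide +kernel

namespace Core

variable {G : Type u} [Group G] {B : Core G}

theorem a_cube (B : Core G) : B.a ^ 3 = 1 := B.orderOf_a ▸ pow_orderOf_eq_one B.a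

theorem a_ne_inv (B : Core G) : B.a ≠ B.a⁻¹ := fun h => by
  have h2 : B.a ^ 2 = 1 := by rw [pow_two]; exact mul_eq_one_iff_eq_inv.2 h
  have := orderOf_dvd_of_pow_eq_one h2
  rw [B.orderOf_a] at this
  norm_num at this

namespace Inv

variable (I : B.Inv)

theorem wi : I.w⁻¹ = I.w := inv_eq_of_mul_eq_one_right I.sq

theorem w_conj_qW : I.w * B.θ qW * I.w⁻¹ = (B.θ qW)⁻¹ := by
  set c : W →* G := (MulAut.conj I.w).toMonoidHom.comp B.θ with hc
  have hcv : ∀ u, c u = I.w * B.θ u * I.w⁻¹ := fun u => rfl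
  have hp : c pW = B.θ pW := by rw [hcv, I.comm_p.eq, mul_inv_cancel_right]
  have ht : c tW = B.θ tW := by rw [hcv, I.comm_t.eq, mul_inv_cancel_right]
  have hj : ∀ x, c (jW x) = B.θ (jW (-x)) := fun x => I.neg x
  have ha : c z0 = (B.θ z0)⁻¹ := by
    rw [← jW_center, hj, ← map_inv]
    exact congrArg _ (eq_inv_of_mul_eq_one_left (by rw [← jW_mul, neg_add_cancel]; exact jW_zero))
  obtain ⟨u, hu⟩ := B.cent (c qW) (by
    have h : Commute (c qW) (c z0) := (show Commute qW z0 from qW_center).map c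
    rw [ha] at h
    exact Commute.inv_right_iff.1 h)
  have e : u = qW⁻¹ := by
    refine tq_fix u (B.inj ?_) (B.inj ?_) (B.inj ?_) (B.inj ?_)
    · simp only [map_mul, hu, ← ht]; rw [← map_mul, ← map_mul, qW_tW]
    · simp only [map_mul, hu, map_one]; rw [← map_mul, ← map_mul, qW_four', map_one]
    · have h := congrArg c qW_conj_neg'
      simp only [map_mul, map_inv, hp, ht, hj, neg_neg] at h
      simp only [map_mul, map_inv, hu]
      exact h
    · have h := congrArg c qW_conj_pt'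
      simp only [map_mul, map_inv, hp, ht, hj, neg_neg] at h
      simp only [map_mul, map_inv, hu]
      exact h
  rw [← hcv, ← hu, e, map_inv]

theorem w_conj_Q : ∀ u ∈ qList, I.w * B.θ u * I.w⁻¹ = B.θ (αS u) := by
  obtain ⟨h1, h2, h3, h4⟩ := αS_facts
  have hq : I.w * B.θ qW * I.w⁻¹ = B.θ (αS qW) := by rw [h1, map_inv, I.w_conj_qW]
  have hy : I.w * B.θ yW * I.w⁻¹ = B.θ yW⁻¹ := by
    show I.w * B.j (1, 0, 0) * I.w⁻¹ = _
    rw [I.neg, B.j_neg, map_inv]; rfl
  have hq1 : I.w * B.θ q1W * I.w⁻¹ = B.θ (αS q1W) := by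
    rw [h2, q1W, map_mul, map_mul, map_inv, map_mul, map_mul, map_inv, map_inv,
      ← conj_mul, ← conj_mul, ← conj_inv, hy, I.w_conj_qW, map_inv, inv_inv]
  have ht : I.w * B.θ tW * I.w⁻¹ = B.θ (αS tW) := by
    rw [h3, I.comm_t.eq, mul_inv_cancel_right]
  have mulc : ∀ a ∈ qList, ∀ b ∈ qList, I.w * B.θ a * I.w⁻¹ = B.θ (αS a) →
      I.w * B.θ b * I.w⁻¹ = B.θ (αS b) → I.w * B.θ (a * b) * I.w⁻¹ = B.θ (αS (a * b)) := by
    intro a ha b hb ea eb
    rw [beq_iff_eq.1 (List.all_eq_true.1 (List.all_eq_true.1 αS_mul a ha) b hb), map_mul, map_mul, ← conj_mul, ea, eb]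
  intro u hu
  have h := List.all_eq_true.1 qList_gen u hu
  simp only [Bool.or_eq_true, beq_iff_eq] at h
  rcases h with ((((((rfl | rfl) | rfl) | rfl) | rfl) | rfl) | rfl) | rfl
  · rw [h4, map_one, mul_one, mul_inv_cancel]
  · exact ht
  · exact hq
  · exact mulc _ qW_mem _ tW_mem hq ht
  · exact hq1
  · exact mulc _ q1W_mem _ tW_mem hq1 ht
  · exact mulc _ qW_mem _ q1W_mem hq hq1
  · exact mulc _ (mul_mem (show qW ∈ qSub from qW_mem) (show q1W ∈ qSub from q1W_mem)) _ tW_mem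
      (mulc _ qW_mem _ q1W_mem hq hq1) ht

theorem w_conj_a : I.w * B.a * I.w⁻¹ = B.a⁻¹ := by rw [← B.j_center, I.neg, B.j_neg]

theorem w_comm_tG : Commute I.w B.tG := I.comm_t

end Inv

namespace Pair

variable (P : B.Pair)

include P in
/-- A conjugate of `a` in the abelian subgroup is `a` or its inverse. -/
theorem conj_mem_J {g : G} (h : g * B.a * g⁻¹ ∈ B.J) : g * B.a * g⁻¹ = B.a ∨ g * B.a * g⁻¹ = B.a⁻¹ := by
  obtain ⟨x, hx⟩ := B.mem_J.1 h
  rcases P.hO x ⟨g, hx.symm⟩ with rfl | rfl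
  · exact Or.inl (hx.symm.trans B.j_center)
  · refine Or.inr (hx.symm.trans ?_)
    rw [two_vec, B.j_neg, B.j_center]

include P in
theorem conj_normalizer {g : G} (hg : g ∈ normalizer (zpowers B.a : Set G)) :
    g * B.a * g⁻¹ = B.a ∨ g * B.a * g⁻¹ = B.a⁻¹ :=
  P.conj_mem_J (zpowers_le.2 (B.j_center ▸ B.j_mem (1, 1, 1)) (((mem_normalizer_iff.1 hg) _).1 (mem_zpowers _)))

/-- Fixing or inverting `a`. -/
theorem mem_normalizer_a [Finite G] {g : G} (h : g * B.a * g⁻¹ = B.a ∨ g * B.a * g⁻¹ = B.a⁻¹) :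
    g ∈ normalizer (zpowers B.a : Set G) := by
  refine mem_normalizer_of_conj fun y hy => ?_
  obtain ⟨i, rfl⟩ := mem_zpowers_iff.1 hy
  rw [← conj_zpow]
  rcases h with h | h <;> rw [h]
  · exact zpow_mem (mem_zpowers _) _
  · exact zpow_mem (inv_mem (mem_zpowers _)) _

/-- The elements of `C(a)` normalising the operators and commuting with the exchange centralise them. -/
theorem cent_ops_of_fix {n : G} (hn : Commute n B.tG) (ha : Commute n B.a)
    (hN : ∀ e ∈ B.ops, n * e * n⁻¹ ∈ B.ops) :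
    ∃ c b : K, n = B.θ (jW (c, b, b)) ∨ n = B.θ (jW (c, b, b) * tW) := by
  obtain ⟨u, rfl⟩ := B.cent n ha
  obtain ⟨c, b, hcb⟩ := B.mem_ops.1 (hN _ (B.mem_ops.2 ⟨1, 0, rfl⟩))
  have h1 : u * tW = tW * u := B.inj (by rw [map_mul, map_mul]; exact hn.eq)
  obtain ⟨c', b', e⟩ := norm_ops_table u h1 ⟨c, b, B.inj (by
    rw [map_mul, map_mul, map_inv]; exact hcb.symm)⟩
  exact ⟨c', b', e.imp (congrArg B.θ) (congrArg B.θ)⟩

theorem commute_of_form {n e : G} {c b : K} (h : n = B.θ (jW (c, b, b)) ∨ n = B.θ (jW (c, b, b) * tW))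
    (he : e ∈ B.ops) : n * e * n⁻¹ = e := by
  have hj : Commute (B.j (c, b, b)) e := B.comm_J (B.j_mem _) (B.ops_le_J he)
  have ht : Commute (B.θ tW) e := (B.ops_commute_t he).symm
  rcases h with rfl | rfl
  · exact mul_inv_eq_iff_eq_mul.2 hj.eq
  · rw [map_mul]
    exact mul_inv_eq_iff_eq_mul.2 (hj.mul_left ht).eq

include P in
/-- An element normalising the operators and commuting with the exchange centralises or inverts them. -/
theorem ops_ctrl {n : G} (hn : Commute n B.tG) (hN : ∀ e ∈ B.ops, n * e * n⁻¹ ∈ B.ops) :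
    (∀ e ∈ B.ops, n * e * n⁻¹ = e) ∨ (∀ e ∈ B.ops, n * e * n⁻¹ = e⁻¹) := by
  rcases P.conj_mem_J (B.ops_le_J (hN _ B.a_mem_ops)) with h | h
  · obtain ⟨c, b, hcb⟩ := cent_ops_of_fix hn (mul_inv_eq_iff_eq_mul.1 h) hN
    exact Or.inl fun e he => commute_of_form hcb he
  · have hw : ∀ e ∈ B.ops, P.I.w * e * P.I.w⁻¹ = e⁻¹ := by
      intro e he
      obtain ⟨c, b, rfl⟩ := B.mem_ops.1 he
      rw [P.I.neg, B.j_neg]
    have e1 : ∀ e, P.I.w * n * e * (P.I.w * n)⁻¹ = P.I.w * (n * e * n⁻¹) * P.I.w⁻¹ := fun e => by group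
    obtain ⟨c, b, hcb⟩ := cent_ops_of_fix (n := P.I.w * n) (P.I.w_comm_tG.mul_left hn)
      (mul_inv_eq_iff_eq_mul.1 (by rw [e1, h, hw _ (inv_mem B.a_mem_ops), inv_inv]))
      fun e he => by rw [e1, hw _ (hN e he)]; exact inv_mem (hN e he)
    refine Or.inr fun e he => ?_
    have h2 := commute_of_form hcb he
    rw [e1, hw _ (hN e he), inv_eq_iff_eq_inv] at h2
    exact h2

theorem ops_not_cyclic : ¬ IsCyclic B.ops := by
  intro h
  obtain ⟨g, hg⟩ := h.exists_zpow_surjective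
  have h3 : g ^ 3 = 1 := Subtype.ext (by simpa using B.ops_cube g.2)
  have hle : zpowers g = ⊤ := eq_top_iff.2 fun x _ => by
    obtain ⟨i, rfl⟩ := hg x
    exact zpow_mem (mem_zpowers g) i
  have h9 := congrArg (fun H : Subgroup B.ops => Nat.card H) hle
  simp only [Nat.card_zpowers, card_top, B.card_ops] at h9
  have := Nat.le_of_dvd (by norm_num) (orderOf_dvd_of_pow_eq_one h3)
  omega

include P in
/-- The operators form a Sylow subgroup of the centralizer of the exchange. -/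
theorem ops_index [Finite G] : ¬ 3 ∣ B.ops.relIndex (centralizer ({B.tG} : Set G)) := by
  refine PSpFourAmalgam.not_dvd_relIndex (n := 2) (fun e he => mem_centralizer_singleton_iff.2
    (B.ops_commute_t he).eq) (by rw [B.card_ops]; norm_num) fun K hK hKN hd => ?_
  have : Fact (Nat.Prime 3) := ⟨Nat.prime_three⟩
  obtain ⟨T, hT⟩ := Sylow.exists_subgroup_card_pow_prime 3 hd
  have hle : T.map K.subtype ≤ B.ops := by
    rintro _ ⟨g, hg, rfl⟩
    have h27 : (g : G) ^ 27 = 1 := by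
      have := pow_card_eq_one' (G := T) (x := ⟨g, hg⟩)
      rw [hT] at this
      simpa using congrArg (fun y : T => ((y : K) : G)) this
    set m := (g : G) ^ 14 with hm
    have hgm : (g : G) = m * m := by
      rw [hm, ← pow_add, show 14 + 14 = 27 + 1 from rfl, pow_succ, h27, one_mul]
    have hmK : m ∈ K := pow_mem g.2 _
    have hmN : ∀ e ∈ B.ops, m * e * m⁻¹ ∈ B.ops := fun e he => ((mem_normalizer_iff.1 (hKN hmK)) e).1 he
    have hmt : Commute m B.tG := mem_centralizer_singleton_iff.1 (hK hmK)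
    have hfix : ∀ e ∈ B.ops, (g : G) * e * (g : G)⁻¹ = e := fun e he => by
      rw [hgm, show m * m * e * (m * m)⁻¹ = m * (m * e * m⁻¹) * m⁻¹ by group]
      rcases P.ops_ctrl hmt hmN with h | h
      · rw [h e he, h e he]
      · rw [h e he, h _ (inv_mem he), inv_inv]
    obtain ⟨c, b, hcb⟩ := cent_ops_of_fix (n := (g : G)) (mem_centralizer_singleton_iff.1 (hK g.2))
      (mul_inv_eq_iff_eq_mul.1 (hfix _ B.a_mem_ops)) fun e he => by rw [hfix e he]; exact he
    obtain ⟨ε, hε⟩ : ∃ ε : Bool, (g : G) = B.θ (if ε then jW (c, b, b) * tW else jW (c, b, b)) := by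
      rcases hcb with h | h
      exacts [⟨false, h⟩, ⟨true, h⟩]
    have hε0 : ε = false := ops_twenty_seven c b ε (B.inj (by
      simp only [map_mul, ← hε, map_one]
      rw [← h27]
      simp only [pow_succ, pow_zero, one_mul, mul_assoc]))
    subst hε0
    show (g : G) ∈ B.ops
    exact B.mem_ops.2 ⟨c, b, hε.symm⟩
  have h2 := card_dvd_of_le hle
  rw [card_map_of_injective K.subtype_injective, hT, B.card_ops] at h2
  norm_num at h2

theorem eq_one_of_cube {g : G} (h3 : g ^ 3 = 1) (hc : (orderOf g).Coprime 3) : g = 1 :=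
  orderOf_eq_one_iff.1 (Nat.eq_one_of_dvd_coprimes hc dvd_rfl (orderOf_dvd_of_pow_eq_one h3))

include P in
/-- Three-prime elements of the centralizers of the exchange and an operator. -/
theorem cent_op_prime [Finite G] {e : G} (he : e ∈ B.ops) (he1 : e ≠ 1) {g : G} (hgt : Commute g B.tG)
    (hge : Commute g e) (hc : (orderOf g).Coprime 3) : g ∈ B.quat := by
  obtain ⟨c, b, rfl⟩ := B.mem_ops.1 he
  by_cases hcb : c = b
  · subst hcb
    have hb : c = 1 ∨ c = 2 := (by decide : ∀ d : K, d ≠ 0 → d = 1 ∨ d = 2) c fun h => he1 (h ▸ B.j_zero)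
    have ha : Commute g B.a := by
      rcases hb with rfl | rfl
      · exact B.j_center ▸ hge
      · rw [two_vec, B.j_neg, B.j_center] at hge
        exact Commute.inv_right_iff.1 hge
    obtain ⟨u, rfl⟩ := B.cent g ha
    have hut : u * tW = tW * u := B.inj (by rw [map_mul, map_mul]; exact hgt.eq)
    have h12 : B.θ u ^ 12 = 1 := by
      have := congrArg B.θ (cent_t_twelve u hut)
      simp only [map_mul, map_one] at this
      rw [← this]
      simp only [pow_succ, pow_zero, one_mul, mul_assoc]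
    have h4 : B.θ u ^ 4 = 1 := eq_one_of_cube (by rw [← pow_mul]; exact h12)
      (hc.coprime_dvd_left (orderOf_pow_dvd 4))
    refine B.mem_quat.2 ⟨u, cent_t_two u hut (B.inj ?_), rfl⟩
    simp only [map_mul, map_one]
    calc _ = B.θ u ^ 4 * B.θ u ^ 4 := by simp only [pow_succ, pow_zero, one_mul, mul_assoc]
      _ = 1 := by rw [h4, one_mul]
  · obtain ⟨x, hx, hgx⟩ : ∃ x ∈ three, Commute g (B.j x) := by
      rcases ops_three c b hcb with h | h
      · exact ⟨_, h, hge⟩
      · exact ⟨_, h, by rw [B.j_neg]; exact hge.inv_right⟩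
    obtain ⟨v, hv⟩ := P.cent_three hx hgx
    have hvt : tF v = v := by
      have hjt : Commute (B.j v) B.tG := by
        rcases hv with rfl | rfl
        · exact hgt
        · have h := (Commute.refl B.tG).inv_left.mul_left hgt
          rwa [tG, inv_mul_cancel_left] at h
      refine B.j_inj ((B.acts_t v).symm.trans ?_)
      exact mul_inv_eq_iff_eq_mul.2 hjt.symm.eq
    have hjt : Commute (B.θ tW) (B.j v) := mul_inv_eq_iff_eq_mul.1 ((B.acts_t v).trans (by rw [hvt]))
    rcases hv with rfl | rfl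
    · rw [eq_one_of_cube (B.j_cube v) hc]
      exact one_mem _
    · have h2 : (B.θ tW * B.j v) ^ 2 = B.j (v + v) := by
        rw [hjt.mul_pow, pow_two, ← map_mul, tW_sq, map_one, one_mul, pow_two, B.j_add]
      have h0 : B.j (v + v) = 1 := eq_one_of_cube (B.j_cube _)
        (h2 ▸ hc.coprime_dvd_left (orderOf_pow_dvd 2))
      rw [tF_ops v hvt (B.j_eq_one h0), B.j_zero, mul_one]
      exact B.t_mem_quat

include P in
/-- The centralizer of the exchange normalizes `⟨a⟩`. -/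
theorem cent_t_le [Finite G] : centralizer ({B.tG} : Set G) ≤ normalizer (zpowers B.a : Set G) := by
  have : Fact (Nat.Prime 3) := ⟨Nat.prime_three⟩
  set D := centralizer ({B.tG} : Set G) with hD
  have hopsD : B.ops ≤ D := fun e he => mem_centralizer_singleton_iff.2 (B.ops_commute_t he).eq
  have hp : IsPGroup 3 (B.ops.subgroupOf D) :=
    (IsPGroup.of_card (n := 2) (by rw [B.card_ops]; norm_num) : IsPGroup 3 B.ops).of_equiv
      (subgroupOfEquivOfLe hopsD).symm
  set S : Sylow 3 D := hp.toSylow P.ops_index with hS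
  have hSm : ∀ d : D, d ∈ (S : Subgroup D) ↔ (d : G) ∈ B.ops := fun d => Iff.rfl
  have hSet : InertialTwo.Setting 3 S :=
    { odd := by norm_num
      comm := fun x hx y hy => Subtype.ext (B.comm_J (B.ops_le_J hx) (B.ops_le_J hy))
      ncyc := fun h => ops_not_cyclic ((subgroupOfEquivOfLe hopsD).isCyclic.1 h)
      inv := by
        have hwD : P.I.w ∈ D := mem_centralizer_singleton_iff.2 P.I.w_comm_tG.eq
        have hw : ∀ e ∈ B.ops, P.I.w * e * P.I.w⁻¹ = e⁻¹ := by
          intro e he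
          obtain ⟨c, b, rfl⟩ := B.mem_ops.1 he
          rw [P.I.neg, B.j_neg]
        refine ⟨⟨P.I.w, hwD⟩, mem_normalizer_of_conj fun x hx => ?_, fun x hx => Subtype.ext (hw _ hx)⟩
        show P.I.w * x * P.I.w⁻¹ ∈ B.ops
        rw [hw (x : G) hx]
        exact inv_mem hx
      ctrl := fun m hm => (P.ops_ctrl (n := (m : G)) (mem_centralizer_singleton_iff.1 m.2) fun e he =>
          (hSm _).1 (((mem_normalizer_iff.1 hm) ⟨e, hopsD he⟩).1 he)).imp
        (fun h x hx => Subtype.ext (h _ hx)) fun h x hx => Subtype.ext (h _ hx) }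
  have hfr := (OddLocal.pLengthOne_sylow (InertialTwo.pLengthLE_one_of_setting hSet) S).2
  set M := (Cfsg.pPrimeCore 3 D).map D.subtype with hM
  have hMc : (Nat.card M).Coprime 3 := by
    rw [hM, card_map_of_injective D.subtype_injective]
    exact CfsgLib.Core.coprime_card_pPrimeCore 3 D
  have hMD : M ≤ D := map_subtype_le _
  have hMQ : M ≤ B.quat := by
    refine LocalEven.le_of_centralizers_le (p := 3) (fun e he => B.ops_cube he) (by rw [B.card_ops]; norm_num)
      (hopsD.trans (PSpFourAmalgam.le_normalizer_map _ inferInstance))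
      (Nat.prime_three.coprime_iff_not_dvd.1 hMc.symm) fun e he he1 => ?_
    rintro g ⟨hgM, hge⟩
    exact P.cent_op_prime he he1 (mem_centralizer_singleton_iff.1 (hMD hgM))
      (mem_centralizer_singleton_iff.1 hge)
      (hMc.coprime_dvd_left (Subgroup.orderOf_dvd_natCard M hgM))
  intro g hg
  have htop : (⟨g, hg⟩ : D) ∈ (⊤ : Subgroup D) := trivial
  rw [← hfr] at htop
  obtain ⟨m, hm, n, hn, e⟩ := mem_sup_of_normal_left.1 htop
  rw [show g = (m : G) * n from (congrArg Subtype.val e).symm]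
  refine mul_mem (mem_normalizer_a (Or.inl ?_)) (mem_normalizer_a (P.conj_mem_J ?_))
  · obtain ⟨u, -, hu⟩ := B.mem_quat.1 (hMQ ⟨m, hm, rfl⟩)
    rw [show (m : G) = B.θ u from hu.symm, (B.commute_a u).eq, mul_inv_cancel_right]
  · exact B.ops_le_J ((hSm _).1 (((mem_normalizer_iff.1 hn) ⟨B.a, hopsD B.a_mem_ops⟩).1 B.a_mem_ops))

include P in
/-- The exchange commutes with no other conjugate of itself. -/
theorem isolated [Finite G] : Cfsg.IsIsolatedInvolution B.tG := by
  have ht2 : orderOf B.tG = 2 := orderOf_eq_prime (by rw [pow_two]; exact B.t_sq) B.t_ne_one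
  refine ⟨ht2, fun g hg => ?_⟩
  set s := g * B.tG * g⁻¹ with hs
  have hss : s * s = 1 := by rw [hs, conj_mul, B.t_sq, mul_one, mul_inv_cancel]
  have hs1 : s ≠ 1 := fun h => B.t_ne_one (conj_eq_one_iff.1 h)
  rcases P.conj_normalizer (P.cent_t_le (mem_centralizer_singleton_iff.2 hg.eq.symm)) with h | h
  · obtain ⟨u, hu⟩ := B.cent s (mul_inv_eq_iff_eq_mul.1 h)
    rcases cent_t_sq u (B.inj (by rw [map_mul, map_mul, hu]; exact hg.symm.eq))
      (B.inj (by rw [map_mul, hu, hss, map_one])) with rfl | rfl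
    · rw [map_one] at hu; exact absurd hu.symm hs1
    · exact hu.symm
  exfalso
  have hwi := P.I.wi
  obtain ⟨u, hu⟩ := B.cent (s * P.I.w) (mul_inv_eq_iff_eq_mul.1 (by
    calc s * P.I.w * B.a * (s * P.I.w)⁻¹ = s * (P.I.w * B.a * P.I.w⁻¹) * s⁻¹ := by group
      _ = B.a := by rw [P.I.w_conj_a, ← conj_inv, h, inv_inv]))
  obtain ⟨c, b, f, hf, rfl⟩ := cent_t_decomp u (B.inj (by
    rw [map_mul, map_mul, hu]; exact (hg.symm.mul_left P.I.w_comm_tG).eq))
  set x : Vec := (c, b, b) with hx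
  set k := B.j x with hk
  have hsw : s = k * B.θ f * P.I.w := by
    rw [hk, j, ← map_mul, hu, mul_assoc, P.I.sq, mul_one]
  obtain ⟨f', hf', hff'⟩ : ∃ f' ∈ qList, B.θ f' = B.j (-x) * B.θ f * (B.j (-x))⁻¹ := by
    have := B.ops_conj_quat (B.mem_ops.2 ⟨-c, -b, rfl⟩) (B.mem_quat.2 ⟨f, hf, rfl⟩)
    exact B.mem_quat.1 this
  have hs' : k * s * k⁻¹ = B.θ f' * P.I.w := by
    have hwk : P.I.w * k⁻¹ = k * P.I.w := by
      rw [hk, ← B.j_neg]
      have := P.I.neg (-x)
      simp only [neg_neg] at this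
      exact mul_inv_eq_iff_eq_mul.1 this
    calc k * s * k⁻¹ = k * k * B.θ f * (P.I.w * k⁻¹) := by rw [hsw]; group
      _ = (k * k) * B.θ f * k * P.I.w := by rw [hwk]; group
      _ = _ := by
        rw [hff', ← B.j_neg, neg_neg, show k * k = B.j (-x) by rw [hk, ← B.j_add, neg_double]]
  have hsq' : f' * αS f' = 1 := B.inj (by
    rw [map_mul, map_one, ← P.I.w_conj_Q f' hf', hwi]
    calc B.θ f' * (P.I.w * B.θ f' * P.I.w) = (B.θ f' * P.I.w) * (B.θ f' * P.I.w) := by group
      _ = 1 := by rw [← hs', conj_mul, hss, mul_one, mul_inv_cancel])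
  obtain ⟨r, hr, hfr⟩ := αS_commutator f' hf' hsq'
  set g' := (B.θ r)⁻¹ * k * g with hg'
  have hw : g' * B.tG * g'⁻¹ = P.I.w := by
    calc g' * B.tG * g'⁻¹ = (B.θ r)⁻¹ * (k * s * k⁻¹) * B.θ r := by rw [hg', hs]; group
      _ = (B.θ r)⁻¹ * (B.θ r * (P.I.w * B.θ r * P.I.w⁻¹)⁻¹ * P.I.w) * B.θ r := by
        rw [hs', hfr, map_mul, map_inv, P.I.w_conj_Q r hr]
      _ = P.I.w := by group
  set z := g'⁻¹ * B.θ (pW * tW) * g' with hz
  have hzt : Commute z B.tG := by
    have h0 : Commute (B.θ (pW * tW)) P.I.w := by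
      rw [map_mul]; exact P.I.comm_p.symm.mul_left P.I.comm_t.symm
    have h1 := h0.conj g'⁻¹
    rw [inv_inv, show g'⁻¹ * P.I.w * g' = B.tG by rw [← hw]; group] at h1
    exact h1
  have hz3 : z * z * z = 1 := by
    calc z * z * z = g'⁻¹ * (B.θ (pW * tW) * B.θ (pW * tW) * B.θ (pW * tW)) * g' := by rw [hz]; group
      _ = 1 := by rw [← map_mul, ← map_mul, pt_cube, map_one, mul_one, inv_mul_cancel]
  have hza : z * B.a * z⁻¹ = B.a := by
    refine (P.conj_normalizer (P.cent_t_le (mem_centralizer_singleton_iff.2 hzt.eq))).resolve_right fun e => ?_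
    refine B.a_ne_inv ?_
    calc B.a = z * (z * (z * B.a * z⁻¹) * z⁻¹) * z⁻¹ := by
          rw [show z * (z * (z * B.a * z⁻¹) * z⁻¹) * z⁻¹ = z * z * z * B.a * (z * z * z)⁻¹ by group, hz3,
            one_mul, inv_one, mul_one]
      _ = B.a⁻¹ := by rw [e, ← conj_inv, e, inv_inv, e]
  obtain ⟨v, hv⟩ := B.cent z (mul_inv_eq_iff_eq_mul.1 hza)
  obtain ⟨c', b', r', hr', rfl⟩ := cent_t_three v (B.inj (by rw [map_mul, map_mul, hv]; exact hzt.eq))
    (B.inj (by rw [map_mul, map_mul, hv, hz3, map_one]))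
  set m := (B.θ r')⁻¹ * g'⁻¹ * B.θ qW with hm
  have hmv : m * B.j vecV * m⁻¹ = B.j (c', b', b') := by
    calc m * B.j vecV * m⁻¹ = (B.θ r')⁻¹ * (g'⁻¹ * (B.θ qW * B.j vecV * (B.θ qW)⁻¹) * g') * B.θ r' := by
          rw [hm]; group
      _ = (B.θ r')⁻¹ * z * B.θ r' := by
          rw [hz, show B.θ qW * B.j vecV * (B.θ qW)⁻¹ = B.θ (pW * tW) by
            rw [← qW_conj_vecV, map_mul, map_mul, map_inv]; rfl]
      _ = _ := by
          rw [← hv, map_mul, map_mul, map_inv, j]; group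
  obtain ⟨n, hn, en⟩ := B.fusion (g := m) (B.j_mem vecV) (hmv ▸ B.j_mem _)
  obtain ⟨F, hF⟩ := B.exists_acts hn
  have hFv : F vecV = (c', b', b') := B.j_inj ((hF vecV).symm.trans (en.trans hmv))
  obtain ⟨π, hπ, e | e⟩ := P.acts_sym hF
  · exact (vecV_orbit π hπ c' b').1 ((e vecV).symm.trans hFv)
  · exact (vecV_orbit π hπ c' b').2 ((e vecV).symm.trans hFv)

end Pair

end Core

end CfsgLib.Recog.ThreeLocalSpSix
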