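import Cfsg.Agent.Lib.Recog.ThreeLocalSpSix.TwoExchange
import Cfsg.Agent.Lib.ZStar.Main
import Cfsg.Agent.Lib.HallGen.Counting
import Cfsg.Agent.Lib.Core.SolvableStruct
import Cfsg.Agent.Lib.PGroups.Basic
import Cfsg.Agent.S0205

/-!
Owner: helper24. When `a` is conjugate only to itself and its inverse in the abelian subgroup, `⟨a⟩` is normal:
the exchange is isolated, so by Z* it is central modulo the odd core, which is solvable, hence trivial or with a
non-trivial normal 3-subgroup, and such a subgroup contains `a`.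
-/

set_option autoImplicit false
set_option linter.all false
set_option maxRecDepth 100000

namespace CfsgLib.Recog.ThreeLocalSpSix

open Subgroup CfsgLib.Recog.HeisSL

universe u

theorem K_cases : ∀ d : K, d ≠ 0 → d = 1 ∨ d = 2 := by decide

namespace Core

variable {G : Type u} [Group G] {B : Core G}

namespace Pair

variable (P : B.Pair)

include P in
/-- A conjugate of `a` in the Sylow subgroup is `a` or its inverse. -/
theorem conj_mem_S {g : G} (hg : g * B.a * g⁻¹ ∈ B.S) : g * B.a * g⁻¹ = B.a ∨ g * B.a * g⁻¹ = B.a⁻¹ := by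
  obtain ⟨w, hw, hwy⟩ := B.mem_S.1 hg
  have hw3 : w * w * w = 1 := B.inj (by
    rw [map_mul, map_mul, hwy, map_one, ← pow_two, ← pow_succ, conj_pow,
      show B.a ^ (2 + 1) = 1 from B.a_cube, mul_one, mul_inv_cancel])
  rcases sylW_three w hw hw3 with h1 | ⟨x, rfl⟩
  · obtain ⟨h, x, hx⟩ := kernel_conj w.v w.s
    rw [show (⟨w.v, w.s, 1⟩ : W) = w from W.ext rfl rfl h1.symm] at hx
    set k := B.θ ⟨0, 0, h⟩
    have hkx : k * g * B.a * (k * g)⁻¹ = B.j x := by
      rw [j, ← hx, map_mul, map_mul, map_inv, hwy]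
      group
      rfl
    have hk : ∀ y, Commute k y → k * (g * B.a * g⁻¹) * k⁻¹ = y → g * B.a * g⁻¹ = y := fun y hy e => by
      calc g * B.a * g⁻¹ = k⁻¹ * (k * (g * B.a * g⁻¹) * k⁻¹) * k := by group
        _ = y := by rw [e, mul_assoc, ← hy.eq, inv_mul_cancel_left]
    have e1 : k * (g * B.a * g⁻¹) * k⁻¹ = k * g * B.a * (k * g)⁻¹ := by group
    rcases P.conj_mem_J (g := k * g) (hkx ▸ B.j_mem x) with e | e
    · exact Or.inl (hk _ (B.commute_a _) (e1.trans e))
    · exact Or.inr (hk _ (B.commute_a _).inv_right (e1.trans e))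
  · exact P.conj_mem_J (hwy ▸ B.j_mem x)

include P in
/-- A non-trivial normal 3-subgroup forces `⟨a⟩` to be normal. -/
theorem normal_of_three [Finite G] (F : Subgroup G) (hF : F.Normal) (h3 : IsPGroup 3 F) (h1 : F ≠ ⊥) (g : G) :
    g ∈ normalizer (zpowers B.a : Set G) := by
  have : Fact (Nat.Prime 3) := ⟨Nat.prime_three⟩
  obtain ⟨k, hk⟩ := B.exists_conj_le_S h3
  have hle : F ≤ B.S := fun y hy => by
    have := hk _ (hF.conj_mem y hy k⁻¹)
    simpa [mul_assoc] using this
  have : (F.subgroupOf B.S).Normal := hF.subgroupOf B.S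
  have hne : F.subgroupOf B.S ≠ ⊥ := fun h => h1 (by
    rw [← inf_eq_left.2 hle, ← subgroupOf_map_subtype, h, Subgroup.map_bot])
  obtain ⟨⟨⟨z, hzS⟩, hz⟩, hz1⟩ := Subgroup.ne_bot_iff_exists_ne_one.1
    (CfsgLib.PGroups.inf_center_ne_bot B.isPGroup_S hne)
  obtain ⟨hzF, hzC⟩ := hz
  have hz1' : z ≠ 1 := fun e => hz1 (Subtype.ext (Subtype.ext e))
  obtain ⟨c, hc⟩ := B.center_S hzS fun s hs => (congrArg Subtype.val (mem_center_iff.1 hzC ⟨s, hs⟩)).symm
  rw [B.j_const] at hc
  have hcF : B.a ∈ F := by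
    have hc' : c = 1 ∨ c = 2 := K_cases c fun h => hz1' (by
      rw [hc, h]; exact pow_zero _)
    rcases hc' with rfl | rfl
    · rw [show (1 : K).val = 1 from rfl, pow_one] at hc
      exact hc ▸ hzF
    · have h2 : z ^ 2 ∈ F := pow_mem hzF 2
      rwa [hc, ← pow_mul, show (2 : K).val * 2 = 3 + 1 from rfl, pow_succ, B.a_cube, one_mul] at h2
  exact mem_normalizer_a (P.conj_mem_S (hle (hF.conj_mem _ hcF g)))

end Pair

/-- If `a` is conjugate to its inverse and to no other element of the abelian subgroup, `⟨a⟩` is normal. -/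
theorem normal_of_pair (B : Core G) [Finite G] (hO : ∀ x ∈ B.O, x = (1, 1, 1) ∨ x = (2, 2, 2))
    (hinv : ∃ g, g * B.a * g⁻¹ = B.a⁻¹) : normalizer (zpowers B.a : Set G) = ⊤ := by
  obtain ⟨P⟩ := B.exists_pair hO hinv
  rw [eq_top_iff]
  intro g _
  by_cases hR : Cfsg.oddCore G = ⊥
  · have h := CfsgLib.ZStar.mem_oddCore_of_isolated P.isolated g
    rw [hR, mem_bot] at h
    refine P.cent_t_le (mem_centralizer_singleton_iff.2 ?_)
    calc g * B.tG = (B.tG * g * B.tG⁻¹ * g⁻¹) * (g * B.tG) := by rw [h, one_mul]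
      _ = B.tG * g := by group
  · have : Nontrivial (Cfsg.oddCore G) := (Subgroup.nontrivial_iff_ne_bot _).2 hR
    obtain ⟨p, hp, hne⟩ := CfsgLib.HallGen.exists_pCore_ne_bot
      (Cfsg.Agent.S0205.result (CfsgLib.ZStar.odd_card_oddCore G))
    have := Fact.mk hp
    set F := (Cfsg.pCore p (Cfsg.oddCore G)).map (Cfsg.oddCore G).subtype with hF
    have hFn : F.Normal := by rw [hF]; infer_instance
    have hFp : IsPGroup p F := (CfsgLib.Core.isPGroup_pCore p _).map _
    have hF1 : F ≠ ⊥ := by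
      rwa [hF, ne_eq, map_eq_bot_iff_of_injective _ (Cfsg.oddCore G).subtype_injective]
    by_cases h3 : p = 3
    · subst h3
      exact P.normal_of_three F hFn hFp hF1 g
    · refine absurd (B.signalizer ?_ fun y _ => ?_) hF1
      · obtain ⟨n, hn⟩ := IsPGroup.iff_card.1 hFp
        rw [hn]
        exact ((Nat.coprime_primes hp Nat.prime_three).2 h3).pow_left n
      · exact mem_normalizer_of_conj fun z hz => hFn.conj_mem z hz y

end Core

end CfsgLib.Recog.ThreeLocalSpSix
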